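import Cfsg.Agent.Omega.HT.AlphaP

/-!
# II.0h1, `q = 2`, case (α) over `T` for the small group `M' = ⟨C_{H₁}(z), X⟩`, if `V` commutes with `⟨r^{C(z r)}⟩`

The end of #15368 is trivial if `V` centralises `U_y = ⟨r^{C(y)}⟩`, `y = z r` (LeafF4 (O1), #18723, #18759, #18818):
`U_y` is normalised by `K = C(r) ∩ C(z)` and does not centralise the component `W` of `r` in `⟨r^{M'}⟩`, `K` is
irreducible on `W / ⟨r⟩`, but `V ≤ W`.

* `not_alpha` : `⟨V^{M'}⟩` is not contained in `Q o`.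
-/

set_option autoImplicit false
set_option linter.unusedSectionVars false

namespace Cfsg.Agent.Omega.HT.AlphaY

open Subgroup Cfsg Cfsg.Agent.MinSimple.VModule Cfsg.Agent.Omega.BTwo
open Cfsg.Agent.Omega.HOneTwo Cfsg.Agent.Omega.HTwo Cfsg.Agent.Omega.HTwo.ThmA Cfsg.Agent.Omega.HTwo.Par
open Cfsg.Agent.Omega.HTwo.Hat Cfsg.Agent.Omega.HTwo.TComp Cfsg.Agent.Omega.HT.TComp Cfsg.Agent.Omega.MinPar
open Cfsg.Agent.ZN (zc o2 le_normalizer_o2)
open Cfsg.Agent.Omega.HTwo.AlphaFive (mem_C natC_two natC_cj)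
open Cfsg.Agent.Omega.HTwo.AlphaOne (ZQ_swap ZQ_not_RC)
open Cfsg.Agent.Omega.HTwo.AlphaP (lemX_false four' MP)
open Cfsg.Agent.Omega.HT.AlphaP

universe u

section two

variable {G : Type u} [Group G] [Finite G] {ι : Type*} {S P V : Subgroup G} {R : ι → Subgroup G} {o : ι}

variable (b : HTT S P V R o) {r : G} (hr : ∀ x, x ∈ R o ↔ x = 1 ∨ x = r)
include b hr

/-- the end of the proof: `K = C(r) ∩ C(z)` is irreducible on `W / ⟨r⟩` and normalises `⟨r^{C(z r)}⟩` -/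
theorem end_y {z : G} {M W U : Subgroup G} (hW : NatC M U W r) (hVW : V ≤ W)
    (hMz : ∀ c ∈ M, c * z = z * c)
    (hy : ∀ g : G, g * (z * r) = z * r * g → ∀ v ∈ V, v * (g * r * g⁻¹) = g * r * g⁻¹ * v)
    {w₂ c₂ : G} (hw₂ : w₂ ∈ W) (hc₂ : c₂ * (z * r) = z * r * c₂)
    (hne : c₂ * r * c₂⁻¹ * w₂ ≠ w₂ * (c₂ * r * c₂⁻¹)) : False := by
  have hr1 := r_ne b hr
  have hrR := r_mem b hr
  set Z : Set G := {x | ∃ g : G, g * (z * r) = z * r * g ∧ g * r * g⁻¹ = x} with hZ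
  have hVZ : V ≤ centralizer Z := by
    intro v hv
    rw [mem_centralizer_iff]
    rintro _ ⟨g, hg, rfl⟩
    exact (hy g hg v hv).symm
  have hrZ : r ∈ centralizer Z := hVZ (b.R_le o hrR)
  rcases hW.irr r hW.mem hr1 (W ⊓ centralizer Z) inf_le_left ⟨hW.mem, hrZ⟩ (by
    rintro c hc hcr a ⟨ha, ha'⟩
    have hcz := hMz c hc
    refine ⟨hW.blk c hc r hW.mem hr1 (by rw [hcr, mul_inv_cancel_right]; exact hW.mem) a ha, ?_⟩
    refine mem_centralizer_iff.2 ?_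
    rintro _ ⟨g, hg, rfl⟩
    have hcy : c * (z * r) = z * r * c := by
      rw [← mul_assoc, hcz, mul_assoc, hcr, ← mul_assoc]
    have h1 := mem_centralizer_iff.1 ha' (c⁻¹ * g * r * (c⁻¹ * g)⁻¹) ⟨c⁻¹ * g, by
      calc c⁻¹ * g * (z * r) = c⁻¹ * (g * (z * r)) := by group
        _ = c⁻¹ * (z * r * c * (c⁻¹ * g)) := by rw [hg]; group
        _ = c⁻¹ * (c * (z * r) * (c⁻¹ * g)) := by rw [hcy]
        _ = z * r * (c⁻¹ * g) := by group, rfl⟩
    calc g * r * g⁻¹ * (c * a * c⁻¹) = c * (c⁻¹ * g * r * (c⁻¹ * g)⁻¹ * a) * c⁻¹ := by group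
      _ = c * (a * (c⁻¹ * g * r * (c⁻¹ * g)⁻¹)) * c⁻¹ := by rw [h1]
      _ = c * a * c⁻¹ * (g * r * g⁻¹) := by group) with h5 | h5
  · -- `V ≤ {1, r}`
    obtain ⟨j, -, hj, -, -⟩ := b.one_lt
    obtain ⟨e, he, he1⟩ := b.exists_ne j
    have heV := b.R_le j he
    rcases h5 e ⟨hVW heV, hVZ heV⟩ with h7 | h7
    · exact he1 h7
    · apply he1
      refine b.eq_one (Ne.symm hj) ?_ he
      rw [h7]; exact hrR
  · exact hne (mem_centralizer_iff.1 (h5 hw₂).2 _ ⟨c₂, hc₂, rfl⟩)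

/-- (α) is dead for `z` if `V` commutes with `⟨r^{C(z r)}⟩` -/
theorem not_alpha (hLE : ∀ i, LE V R i) {z : G} (hz : z ∈ zc S ⊓ centralizer (P : Set G)) (hz1 : z ≠ 1)
    (hsysM : GSysW (MP V R o z) (cl (R o) (MP V R o z)) r)
    (hyV : ∀ g : G, g * (z * r) = z * r * g → ∀ v ∈ V, v * (g * r * g⁻¹) = g * r * g⁻¹ * v) :
    ¬ UM V (MP V R o z) ≤ QQ (R o) := by
  intro hα
  have bs := b.toBTS
  have d := b.dt hz hz1
  have hr1 := r_ne b hr
  have hr2 := r_sq b hr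
  have hrR := r_mem b hr
  have hNr := fun g => mem_N_iff b hr (g := g)
  obtain ⟨M, hM⟩ : ∃ M, M = MP V R o z := ⟨_, rfl⟩
  have hMz : M ≤ centralizer ({z} : Set G) := by rw [hM]; exact MP_le b hr hz hz1
  have hKM : normalizer (R o : Set G) ⊓ centralizer ({z} : Set G) ≤ M := by rw [hM]; exact le_sup_left
  have hXM : XX V R ≤ M := by rw [hM]; exact le_sup_right
  have hz2 : z * z = 1 := by rw [← pow_two]; exact (mem_zc.1 hz.1).2.2
  have hSz : ∀ s ∈ S, s * z = z * s := (mem_zc.1 hz.1).2.1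
  have hSr : ∀ s ∈ S, s * r = r * s := fun s hs => (hNr s).1 (b.S_R hs)
  have hzX : z ∈ CenX V R := b.cz_le hz
  have hzQ : z ∈ ZQ R o := cenX_le_ZQ bs hLE o hzX
  have hrQ : r ∈ ZQ R o := R_le_ZQ b.toBT o hrR
  have hQz : ∀ q ∈ QQ (R o), q ∈ centralizer ({z} : Set G) := fun q hq => mem_C.2 (ZQ_comm hzQ hq)
  have hQM : ∀ q ∈ QQ (R o), q ∈ M := fun q hq => hKM ⟨b.Q_le o hq, hQz q hq⟩
  have hSM : S ≤ M := fun s hs => hKM ⟨b.S_R hs, mem_C.2 (hSz s hs)⟩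
  rw [← hM] at hα hsysM
  obtain ⟨a, ha, c, hc, hna, hnc, hnac⟩ := alpha_two b hLE hz hz1 hKM hα
  have hUeq : cl (R o) M = UM V M := b.cl_R_eq (b.trans_of_X hXM)
  rw [← hUeq] at hα hna hnc hnac
  have hUz := cl_le_zc b hr hz hz1
  have hUle : cl (R o) M ≤ cl (R o) (centralizer ({z} : Set G)) := iSup_le fun m => cj_le_cl (hMz m.2)
  set Uf := cl (R o) (centralizer ({z} : Set G)) with hUf
  have hUfcm : ∀ x ∈ Uf, ∀ y ∈ Uf, x * y = y * x := fun x hx y hy =>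
    (mem_zc.1 (hUz hy)).2.1 x (zc_le _ (hUz hx))
  set U := cl (R o) M with hU
  have hUsq : ∀ x ∈ U, x * x = 1 := fun x hx => by
    rw [← pow_two]; exact (mem_zc.1 (hUz (hUle hx))).2.2
  -- `Q o` acts on `U` as transvections
  have hQU : ∀ q ∈ QQ (R o), ∀ n ∈ U, q * n * q⁻¹ = n ∨ q * n * q⁻¹ = n * r := by
    intro q hq n hn
    have h5 := Q_comm bs (hLE o) hq (hα hn)
    rcases (hr _).1 h5 with h6 | h6
    · left; exact mul_inv_eq_one.1 h6
    · right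
      rw [mul_inv_eq_iff_eq_mul] at h6
      rw [h6]
      exact (b.QR o n (hα hn) r hrR).symm
  have hmv : ∀ q : G, q ∉ centralizer (U : Set G) → ∃ n ∈ U, q * n * q⁻¹ ≠ n := by
    intro q hq
    by_contra hcon
    push Not at hcon
    exact hq (mem_centralizer_iff.2 fun n hn => (mul_inv_eq_iff_eq_mul.1 (hcon n hn)).symm)
  obtain ⟨W, hW, -⟩ := natC_of' hsysM (hQM a ha)
    (hQM c hc) (hQU a ha) (hQU c hc) (hmv a hna) (hmv c hnc) (hmv _ hnac)
  have hWU : W ≤ U := hW.W_le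
  have hWQ : W ≤ QQ (R o) := hWU.trans hα
  -- `V ≤ W`
  have hVW : V ≤ W := by
    obtain ⟨t, ht, v, hv, hne⟩ := exists_mv b hr
    have hv1 : v ≠ 1 := by
      rintro rfl
      exact hne (by rw [mul_one, one_mul])
    obtain ⟨c, hc, e⟩ := exists_conj_X b hr hv hv1
    have h1 := hW.adj r hW.mem hr1 t (hQM t ht) (hQU t ht) c (hXM hc) (by
      rw [e]
      intro h
      exact hne (mul_inv_eq_iff_eq_mul.1 h))
    rw [e] at h1
    have h2 := cj_V_le b hr (k := 1) (one_mem _) hW.mem (v := v) (by rw [cj_one]; exact hv) (by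
      intro hvo
      apply hne
      have h3 := ((hr v).1 hvo).resolve_left hv1
      rw [h3]
      exact b.QR o t ht r hrR) h1
    rwa [cj_one] at h2
  have hKW : ∀ c : G, c * r = r * c → c * z = z * c → ∀ x ∈ W, c * x * c⁻¹ ∈ W := by
    intro c hcr hc
    refine hW.blk c (hKM ⟨(hNr c).2 hcr, mem_C.2 hc⟩) r hW.mem hr1 ?_
    rw [hcr, mul_inv_cancel_right]
    exact hW.mem
  -- `V^h`
  obtain ⟨h, hh, a₀, ha₀, c₀, hc₀, hne₀⟩ := exists_h b hr
  have hhr : h * r = r * h := (hNr h).1 hh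
  have hhr' : h⁻¹ * r = r * h⁻¹ := (hNr h⁻¹).1 (inv_mem hh)
  obtain ⟨y, hy⟩ : ∃ y, y = h * z * h⁻¹ := ⟨_, rfl⟩
  have hzy : z = h⁻¹ * y * h := by rw [hy]; group
  have hyQ : y ∈ ZQ R o := by rw [hy]; exact conj_mem_of_normalizer (N_le_NZQ o hh) hzQ
  have hyy : y * y = 1 := by
    rw [hy]
    calc h * z * h⁻¹ * (h * z * h⁻¹) = h * (z * z) * h⁻¹ := by group
      _ = 1 := by rw [hz2, mul_one, mul_inv_cancel]
  have hcV : c₀ ∉ centralizer (V : Set G) := fun hc => hne₀ (mem_centralizer_iff.1 hc a₀ ha₀)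
  have hW'n : ∀ c : G, c * y = y * c → c * r = r * c → ∀ x ∈ cj h W, c * x * c⁻¹ ∈ cj h W := by
    rintro c hcy hcr _ ⟨x, hx, rfl⟩
    change c * (h * x * h⁻¹) * c⁻¹ ∈ cj h W
    have h1 : (h⁻¹ * c * h) * z = z * (h⁻¹ * c * h) := by
      rw [hzy]
      calc h⁻¹ * c * h * (h⁻¹ * y * h) = h⁻¹ * (c * y) * h := by group
        _ = h⁻¹ * (y * c) * h := by rw [hcy]
        _ = _ := by group
    have h2 : (h⁻¹ * c * h) * r = r * (h⁻¹ * c * h) := by
      calc h⁻¹ * c * h * r = h⁻¹ * c * (h * r) := by group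
        _ = h⁻¹ * (c * r) * h := by rw [hhr]; group
        _ = (h⁻¹ * r) * c * h := by rw [hcr]; group
        _ = r * (h⁻¹ * c * h) := by rw [hhr']; group
    have h3 := hKW _ h2 h1 x hx
    have e : c * (h * x * h⁻¹) * c⁻¹ = h * (h⁻¹ * c * h * x * (h⁻¹ * c * h)⁻¹) * h⁻¹ := by group
    rw [e]
    exact conj_mem_cj h3
  have hW'Q : cj h W ≤ QQ (R o) := by
    have h1 := cj_mono (g := h) hWQ
    rwa [cj_eq_self_iff.2 (le_normalizer_O2 _ hh)] at h1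
  have hW'sq : ∀ x ∈ cj h W, x * x = 1 := by
    rintro _ ⟨x, hx, rfl⟩
    change h * x * h⁻¹ * (h * x * h⁻¹) = 1
    calc h * x * h⁻¹ * (h * x * h⁻¹) = h * (x * x) * h⁻¹ := by group
      _ = 1 := by rw [hW.sq x hx, mul_one, mul_inv_cancel]
  obtain ⟨j, -, hj, -, -⟩ := b.one_lt
  rcases four' bs hj hr hyy hyQ hW'Q hW'sq hW'n (by
    rintro _ ⟨w, hw, rfl⟩ hw1
    change h * w * h⁻¹ ≠ 1 at hw1
    have hw1' : w ≠ 1 := fun e => hw1 (by rw [e, mul_one, mul_inv_cancel])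
    obtain ⟨k, hk, e⟩ := hW.pt w hw hw1'
    have hkz := mem_C.1 (hMz hk)
    refine ⟨h * k * h⁻¹, ?_, ?_, ?_⟩
    · rw [hy]
      calc h * k * h⁻¹ * (h * z * h⁻¹) = h * (k * z) * h⁻¹ := by group
        _ = h * (z * k) * h⁻¹ := by rw [hkz]
        _ = _ := by group
    · change _ = h * w * h⁻¹
      calc h * k * h⁻¹ * r * (h * k * h⁻¹)⁻¹ = h * k * (h⁻¹ * r) * h * k⁻¹ * h⁻¹ := by group
        _ = h * (k * r * k⁻¹) * h⁻¹ := by rw [hhr']; group
        _ = h * w * h⁻¹ := by rw [e]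
    · rintro _ ⟨x, hx, rfl⟩
      change (h * k * h⁻¹)⁻¹ * (h * x * h⁻¹) * (h * k * h⁻¹) ∈ cj h W
      have h1 := hW.blk k⁻¹ (inv_mem hk) w hw hw1' (by
        rw [← e]
        have e2 : k⁻¹ * (k * r * k⁻¹) * k⁻¹⁻¹ = r := by group
        rw [e2]; exact hW.mem) x hx
      have e2 : (h * k * h⁻¹)⁻¹ * (h * x * h⁻¹) * (h * k * h⁻¹) = h * (k⁻¹ * x * k⁻¹⁻¹) * h⁻¹ := by group
      rw [e2]
      exact conj_mem_cj h1) (cj_mono hVW hc₀) hcV with ⟨a, ha, hX⟩ | ⟨w₁, hw₁, c₁, hc₁, hne₁⟩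
  · rcases (hr a).1 ha with rfl | rfl
    · -- `y ∈ C_X`
      rw [one_mul] at hX
      have e1 : cl (R o) (centralizer ({y} : Set G)) = cj h Uf := by
        rw [hUf, AlphaFive.cj_cl, AlphaFive.cj_C, ← hy, cj_eq_self_iff.2 hh]
      have h1 : V ≤ cj h Uf := by
        rw [← e1]
        have := cj_le_cl_of b hr (k := 1) (y := y) (one_mem _) (by rw [cj_one]; exact hX)
        rwa [cj_one] at this
      have h2 : cj h V ≤ cj h Uf := by
        apply cj_mono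
        have := cj_le_cl_of b hr (k := 1) (y := z) (one_mem _) (by rw [cj_one]; exact hzX)
        rwa [cj_one] at this
      apply hne₀
      obtain ⟨x, hx, e3⟩ := h1 ha₀
      obtain ⟨x', hx', e4⟩ := h2 hc₀
      rw [← e3, ← e4]
      change h * x * h⁻¹ * (h * x' * h⁻¹) = h * x' * h⁻¹ * (h * x * h⁻¹)
      calc h * x * h⁻¹ * (h * x' * h⁻¹) = h * (x * x') * h⁻¹ := by group
        _ = h * (x' * x) * h⁻¹ := by rw [hUfcm x hx x' hx']
        _ = _ := by group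
    · -- `r y ∈ C_X`
      refine lemX_false bs hLE (Ne.symm hj) (fun x hx => (hr x).1 hx) hW'Q
        (fun a ha c hc => Omega.TV.EA.comm_of hW'sq ha hc) (j := j) ?_ (cj_mono hVW hc₀) hcV ?_ hzX hz1
      · intro e he
        have her : e * a = a * e := (mem_centralizer_iff.1 (EE_le_cen j he) a (b.R_le o hrR)).symm
        refine hW'n e ?_ her
        have h1 : a * y * e = e * (a * y) := cenX_Q bs (hLE j) hX (EE_le_Q j he)
        have h2 : a * (y * e) = a * (e * y) := by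
          rw [← mul_assoc, h1, ← mul_assoc, her, mul_assoc]
        exact (mul_left_cancel h2).symm
      · have h0 : ∀ x ∈ W, x ∈ ZQ R o → x = 1 ∨ x = a := by
          rcases hW.irr a hW.mem hr1 (W ⊓ ZQ R o) inf_le_left ⟨hW.mem, hrQ⟩ (by
            rintro c hc hcr x ⟨hx, hx'⟩
            exact ⟨hKW c hcr (mem_C.1 (hMz hc)) x hx,
              conj_mem_of_normalizer (N_le_NZQ o ((hNr c).2 hcr)) hx'⟩) with h5 | h5
          · exact fun x hx hx' => h5 x ⟨hx, hx'⟩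
          · exfalso
            obtain ⟨t, ht, v, hv, hne⟩ := exists_mv b hr
            exact hne (ZQ_comm (h5 (hVW hv)).2 ht)
        rintro _ ⟨x, hx, rfl⟩ hxZ
        change h * x * h⁻¹ ∈ ZQ R o at hxZ
        change h * x * h⁻¹ ∈ R o
        have h1 : x ∈ ZQ R o := by
          have h2 := conj_inv_mem_of_normalizer (N_le_NZQ o hh) hxZ
          have e : h⁻¹ * (h * x * h⁻¹) * h = x := by group
          rwa [e] at h2
        exact conj_mem_of_normalizer hh ((hr x).2 (h0 x hx h1))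
  · -- conjugate back
    obtain ⟨w₂, hw₂, rfl⟩ := hw₁
    change c₁ * r * c₁⁻¹ * (h * w₂ * h⁻¹) ≠ h * w₂ * h⁻¹ * (c₁ * r * c₁⁻¹) at hne₁
    refine end_y b hr hW hVW (fun c hc => mem_C.1 (hMz hc)) hyV (w₂ := w₂) (c₂ := h⁻¹ * c₁ * h) hw₂ ?_ ?_
    · have e : z * r = h⁻¹ * (y * r) * h := by
        rw [hzy]
        calc h⁻¹ * y * h * r = h⁻¹ * y * (h * r) := by group
          _ = h⁻¹ * (y * r) * h := by rw [hhr]; group
      rw [e]
      calc h⁻¹ * c₁ * h * (h⁻¹ * (y * r) * h) = h⁻¹ * (c₁ * (y * r)) * h := by group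
        _ = h⁻¹ * (y * r * c₁) * h := by rw [hc₁]
        _ = _ := by group
    · intro e
      apply hne₁
      have e1 : h⁻¹ * c₁ * h * r * (h⁻¹ * c₁ * h)⁻¹ = h⁻¹ * (c₁ * r * c₁⁻¹) * h := by
        calc h⁻¹ * c₁ * h * r * (h⁻¹ * c₁ * h)⁻¹ = h⁻¹ * c₁ * (h * r) * h⁻¹ * c₁⁻¹ * h := by group
          _ = _ := by rw [hhr]; group
      rw [e1] at e
      calc c₁ * r * c₁⁻¹ * (h * w₂ * h⁻¹) = h * (h⁻¹ * (c₁ * r * c₁⁻¹) * h * w₂) * h⁻¹ := by group
        _ = h * (w₂ * (h⁻¹ * (c₁ * r * c₁⁻¹) * h)) * h⁻¹ := by rw [e]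
        _ = _ := by group

end two

end Cfsg.Agent.Omega.HT.AlphaY
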