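import Cfsg.Agent.Omega.HT.TVS
import Cfsg.Agent.Omega.HTwo.TCore

/-!
# II.0h1, `q = 2`, over `T`: LEMMA T, component form, inside a group

`GSysW C N r` : `C` acts on the elementary abelian group `N`, `r ∈ N`; `N` need not be generated by the conjugates of
`r`; `chain` : `O₂(C / C_C(N)) = 1` in elementary form.

* `natC_of'` : `a, b ∈ C` transvections on `N` with centre `r`, `a`, `b`, `a b` not trivial on `N`: the component `W` of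
  `r` is `NatC C N W r`, `W ≤ ⟨r^C⟩`;
* `chain_of_core` : `chain` from "every normal `B ≤ C` whose squares centralise `N` centralises `N`";
* `chain_of_T` : `chain` for `N = ⟨A^C⟩`, `A` centralised by a Sylow group `T` of `C`;
* `natC_of_core`, `natC_of_T`.
-/

set_option autoImplicit false

namespace Cfsg.Agent.Omega.HT.TComp

open Subgroup Cfsg.Agent.Omega.TV Cfsg.Agent.Omega.HOneTwo Cfsg.Agent.MinSimple.VModule
open Cfsg.Agent Cfsg.Agent.MinSimple.Basic Cfsg.Agent.Omega.BTwo Cfsg.Agent.Omega.HTwo.TComp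

open Module

variable {G : Type*} [Group G]

/-- `C` acts on the elementary abelian group `N ∋ r` -/
structure GSysW (C N : Subgroup G) (r : G) : Prop where
  sq : ∀ x ∈ N, x * x = 1
  nor : ∀ c ∈ C, ∀ n ∈ N, c * n * c⁻¹ ∈ N
  mem : r ∈ N
  ne : r ≠ 1
  chain : ∀ U : Subgroup G, U ≤ N → (∀ c ∈ C, ∀ u ∈ U, c * u * c⁻¹ ∈ U) →
    ∀ c ∈ C, (∀ u ∈ U, c * u * c⁻¹ = u) → (∀ n ∈ N, c * n * c⁻¹ * n⁻¹ ∈ U) →
      ∀ n ∈ N, c * n * c⁻¹ = n

namespace GSysW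

variable {C N : Subgroup G} {r : G} (h : GSysW C N r)

include h

/-- The representation. -/
noncomputable def rep : C →* (EA N h.sq ≃ₗ[ZMod 2] EA N h.sq) := EA.crep h.sq C h.nor

/-- The points. -/
def pts : Set (EA N h.sq) := {a | ∃ c ∈ C, a.val = c * r * c⁻¹}

@[simp] theorem val_rep (g : C) (a : EA N h.sq) :
    (h.rep g a).val = (g : G) * a.val * (g : G)⁻¹ := rfl

theorem inv_eq {x : G} (hx : x ∈ N) : x⁻¹ = x := inv_eq_of_mul_eq_one_left (h.sq x hx)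

theorem mem_pts_r : EA.mk h.sq r h.mem ∈ h.pts := ⟨1, C.one_mem, by simp⟩

/-- A nontrivial transvection `t` with centre `r` gives a functional. -/
theorem exists_fn {s t : G} (hs : s ∈ N) (hs1 : s ≠ 1) (ht : t ∈ C)
    (htn : ∀ n ∈ N, t * n * t⁻¹ = n ∨ t * n * t⁻¹ = n * s) :
    ∃ φ : Dual (ZMod 2) (EA N h.sq), (∀ a, h.rep ⟨t, ht⟩ a = a + φ a • EA.mk h.sq s hs) ∧
      Fn h.rep (EA.mk h.sq s hs) φ := by
  have hr : EA.mk h.sq s hs ≠ 0 := fun e => hs1 (EA.val_eq_one.2 e)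
  obtain ⟨φ, hφ⟩ := exists_functional (h.rep ⟨t, ht⟩) hr (fun a => by
    rcases htn a.val a.val_mem with e | e
    · exact Or.inl (EA.ext e)
    · exact Or.inr (EA.ext e))
  refine ⟨φ, hφ, ?_, ⟨t, ht⟩, hφ⟩
  by_contra hne
  have h1 := hφ (EA.mk h.sq s hs)
  rw [z2_ne_zero hne, one_smul, v_add_self] at h1
  have h2 : (h.rep ⟨t, ht⟩).toLinearMap (EA.mk h.sq s hs) = 0 := h1
  exact hr ((h.rep ⟨t, ht⟩).map_eq_zero_iff.1 h2)

theorem toSysW {t : G} (ht : t ∈ C) (htn : ∀ n ∈ N, t * n * t⁻¹ = n ∨ t * n * t⁻¹ = n * r)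
    (hne : ∃ n ∈ N, t * n * t⁻¹ ≠ n) : SysW h.rep h.pts where
  zero := by
    rintro ⟨c, _, e⟩
    have e' : (1 : G) = c * r * c⁻¹ := e
    exact h.ne (conj_eq_one_iff.1 e'.symm)
  inv := by
    rintro g a ⟨c, hc, e⟩
    refine ⟨g * c, C.mul_mem g.2 hc, ?_⟩
    rw [h.val_rep, e]
    group
  trans := by
    rintro a ⟨c, hc, e⟩ b ⟨d, hd, e'⟩
    refine ⟨⟨d * c⁻¹, C.mul_mem hd (C.inv_mem hc)⟩, EA.ext ?_⟩
    rw [h.val_rep, e, e']
    group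
  ex := by
    obtain ⟨φ, hφ, hfn⟩ := h.exists_fn h.mem h.ne ht htn
    refine ⟨_, h.mem_pts_r, φ, ?_, hfn⟩
    rintro rfl
    obtain ⟨n, hn, e⟩ := hne
    apply e
    have h1 := hφ (EA.mk h.sq n hn)
    rw [LinearMap.zero_apply, zero_smul, add_zero] at h1
    exact congrArg EA.val h1
  chain := by
    intro U hU g h1 h2 v
    apply EA.ext
    rw [h.val_rep]
    refine h.chain (EA.toSub U) ?_ ?_ g g.2 ?_ ?_ v.val v.val_mem
    · rintro _ ⟨a, _, rfl⟩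
      exact a.val_mem
    · rintro c hc _ ⟨a, ha, rfl⟩
      exact ⟨_, hU ⟨c, hc⟩ a ha, rfl⟩
    · rintro _ ⟨a, ha, rfl⟩
      exact congrArg EA.val (h1 a ha)
    · intro n hn
      have h3 := h2 (EA.mk h.sq n hn)
      refine ⟨_, h3, ?_⟩
      rw [EA.val_add, h.val_rep, EA.val_mk, h.inv_eq hn]

end GSysW

/-- **LEMMA T**, component form, `N` not necessarily generated by the conjugates of `r` -/
theorem natC_of' [Finite G] {C N : Subgroup G} {r : G} (h : GSysW C N r) {a b : G} (ha : a ∈ C) (hb : b ∈ C)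
    (hta : ∀ n ∈ N, a * n * a⁻¹ = n ∨ a * n * a⁻¹ = n * r)
    (htb : ∀ n ∈ N, b * n * b⁻¹ = n ∨ b * n * b⁻¹ = n * r)
    (hna : ∃ n ∈ N, a * n * a⁻¹ ≠ n) (hnb : ∃ n ∈ N, b * n * b⁻¹ ≠ n)
    (hnab : ∃ n ∈ N, a * b * n * (a * b)⁻¹ ≠ n) : ∃ W, NatC C N W r ∧ W ≤ Subgroup.closure {x | ∃ c ∈ C, x = c * r * c⁻¹} := by
  classical
  have hs := h.toSysW ha hta hna
  have hrO := h.mem_pts_r
  set r₀ : EA N h.sq := EA.mk h.sq r h.mem with hr₀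
  obtain ⟨φ, hφ, fφ⟩ := h.exists_fn h.mem h.ne ha hta
  obtain ⟨ψ, hψ, fψ⟩ := h.exists_fn h.mem h.ne hb htb
  have hφ0 : φ ≠ 0 := by
    rintro rfl
    obtain ⟨n, hn, e⟩ := hna
    apply e
    have h1 := hφ (EA.mk h.sq n hn)
    rw [LinearMap.zero_apply, zero_smul, add_zero] at h1
    exact congrArg EA.val h1
  have hψ0 : ψ ≠ 0 := by
    rintro rfl
    obtain ⟨n, hn, e⟩ := hnb
    apply e
    have h1 := hψ (EA.mk h.sq n hn)
    rw [LinearMap.zero_apply, zero_smul, add_zero] at h1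
    exact congrArg EA.val h1
  have hne : φ ≠ ψ := by
    rintro rfl
    obtain ⟨n, hn, e⟩ := hnab
    apply e
    set v : EA N h.sq := EA.mk h.sq n hn
    have h1 : h.rep (⟨a, ha⟩ * ⟨b, hb⟩) v = v := by
      rw [rmul, hψ v, hφ (v + φ v • r₀), map_add, map_smul, fφ.1, smul_zero, add_zero, add_assoc,
        v_add_self, add_zero]
    have h2 := congrArg EA.val h1
    rw [h.val_rep] at h2
    exact h2
  have hB := hs.big_of hrO fφ fψ hφ0 hψ0 hne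
  have hc := hs.clo_big hB
  set K := hs.cls hc hrO with hK
  have hv : ∀ x : EA N h.sq, x.val ∈ EA.toSub K ↔ x ∈ K := fun x => EA.val_mem_toSub
  -- elements of the component as vectors
  have lift : ∀ w ∈ EA.toSub K, ∃ x ∈ K, EA.val x = w := fun w hw => hw
  have hpt : ∀ x ∈ K, x ≠ 0 → ∃ c ∈ C, c * r * c⁻¹ = x.val := by
    intro x hx hx0
    obtain ⟨⟨c, hc', e⟩, -⟩ := hs.pt_of_mem hc hrO hx hx0
    exact ⟨c, hc', e.symm⟩
  refine ⟨EA.toSub K, ⟨?_, ?_, ⟨r₀, hs.self_mem_cls hc hrO, rfl⟩, h.ne, ?_, ?_, ?_, ?_, ?_⟩, ?_⟩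
  · rintro _ ⟨x, -, rfl⟩
    exact x.val_mem
  · rintro _ ⟨x, -, rfl⟩
    exact h.sq _ x.val_mem
  · rintro _ ⟨x, hx, rfl⟩ hx1
    exact hpt x hx fun e => hx1 (EA.val_eq_one.2 e)
  · rintro c hcC _ ⟨w, hw, rfl⟩ hw1 hcw _ ⟨x, hx, rfl⟩
    have h1 : h.rep ⟨c, hcC⟩ w ∈ K := (hv _).1 hcw
    have h2 := hs.blk_cls hc hrO hw (fun e => hw1 (EA.val_eq_one.2 e)) h1 hx
    exact ⟨_, h2, rfl⟩
  · rintro _ ⟨w, hw, rfl⟩ hw1 A hA hwA hinv
    have hw0 : w ≠ 0 := fun e => hw1 (EA.val_eq_one.2 e)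
    obtain ⟨hwO, -⟩ := hs.pt_of_mem hc hrO hw hw0
    have hirr := hs.irr_cls hB hc hwO (U := ofSub h.sq A) ?_ hwA ?_
    · rcases hirr with h1 | h1
      · left
        intro x hx
        obtain ⟨y, hy, rfl⟩ := hA hx
        rcases h1 y hx with rfl | rfl
        · exact Or.inl rfl
        · exact Or.inr rfl
      · right
        rintro _ ⟨x, hx, rfl⟩
        exact h1 ((hs.cls_eq hc hrO hwO hw).2 hx)
    · intro x hx
      exact (hs.cls_eq hc hrO hwO hw).2 ((hv x).1 (hA hx))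
    · rintro ⟨g, hg⟩ hgw u hu
      have h1 : g * w.val * g⁻¹ = w.val := congrArg EA.val hgw
      exact hinv g hg (mul_inv_eq_iff_eq_mul.1 h1) u.val hu
  · rintro _ ⟨w, hw, rfl⟩ hw1 t ht htn c hcC hne'
    have hw0 : w ≠ 0 := fun e => hw1 (EA.val_eq_one.2 e)
    obtain ⟨χ, hχ, fχ⟩ := h.exists_fn (s := w.val) w.val_mem hw1 ht htn
    set x : EA N h.sq := EA.mk h.sq (c * r * c⁻¹) (h.nor c hcC r h.mem) with hx
    have hxO : x ∈ h.pts := ⟨c, hcC, rfl⟩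
    have h1 : χ x = 1 := by
      refine z2_ne_zero fun e => hne' ?_
      have h2 := hχ x
      rw [e, zero_smul, add_zero] at h2
      exact congrArg EA.val h2
    have h2 := hs.mem_cls_of_adj hc hrO hw hw0 hxO ⟨χ, fχ, h1⟩
    exact ⟨x, h2, rfl⟩
  · rintro _ ⟨a', -, rfl⟩ _ ⟨b', -, rfl⟩
    obtain ⟨c, hcK, h1, h2, h3, h4⟩ := hs.big_cls hc hrO fφ fψ hφ0 hψ0 hne a' b'
    refine ⟨c.val, ⟨c, hcK, rfl⟩, fun e => h1 (EA.val_eq_one.1 e), fun e => h2 (EA.ext e),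
      fun e => h3 (EA.ext e), fun e => h4 (EA.ext e)⟩
  · rintro _ ⟨x, hx, rfl⟩
    by_cases hx0 : x = 0
    · rw [hx0]; exact Subgroup.one_mem _
    · obtain ⟨c, hc', e⟩ := hpt x hx hx0
      exact Subgroup.subset_closure ⟨c, hc', e.symm⟩

/-- `chain` from the core statement -/
theorem chain_of_core {C N : Subgroup G} (sq : ∀ x ∈ N, x * x = 1) (nor : ∀ c ∈ C, ∀ n ∈ N, c * n * c⁻¹ ∈ N)
    (core : ∀ B : Subgroup G, B ≤ C → (∀ c ∈ C, ∀ b ∈ B, c * b * c⁻¹ ∈ B) →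
      (∀ b ∈ B, ∀ n ∈ N, b * b * n = n * (b * b)) → ∀ b ∈ B, ∀ n ∈ N, b * n = n * b) {U : Subgroup G}
    (hU : U ≤ N) (hCU : ∀ c ∈ C, ∀ u ∈ U, c * u * c⁻¹ ∈ U) {c : G} (hc : c ∈ C)
    (h1 : ∀ u ∈ U, c * u * c⁻¹ = u) (h2 : ∀ n ∈ N, c * n * c⁻¹ * n⁻¹ ∈ U) :
    ∀ n ∈ N, c * n * c⁻¹ = n := by
  let K : Subgroup G :=
    { carrier := {c | c ∈ C ∧ (∀ u ∈ U, c * u * c⁻¹ = u) ∧ ∀ n ∈ N, c * n * c⁻¹ * n⁻¹ ∈ U}
      one_mem' := ⟨C.one_mem, fun u _ => by group, fun n _ => by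
        have : (1 : G) * n * 1⁻¹ * n⁻¹ = 1 := by group
        rw [this]; exact U.one_mem⟩
      mul_mem' := by
        rintro x y ⟨hx, hx1, hx2⟩ ⟨hy, hy1, hy2⟩
        refine ⟨C.mul_mem hx hy, fun u hu => ?_, fun n hn => ?_⟩
        · have e : x * y * u * (x * y)⁻¹ = x * (y * u * y⁻¹) * x⁻¹ := by group
          rw [e, hy1 u hu, hx1 u hu]
        · have e : x * y * n * (x * y)⁻¹ * n⁻¹ =
              (x * (y * n * y⁻¹) * x⁻¹ * (y * n * y⁻¹)⁻¹) * (y * n * y⁻¹ * n⁻¹) := by group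
          rw [e]
          exact U.mul_mem (hx2 _ (nor y hy n hn)) (hy2 n hn)
      inv_mem' := by
        rintro x ⟨hx, hx1, hx2⟩
        refine ⟨C.inv_mem hx, fun u hu => ?_, fun n hn => ?_⟩
        · nth_rewrite 1 [← hx1 u hu]
          group
        · have h3 := hx2 _ (nor _ (C.inv_mem hx) n hn)
          have e : x⁻¹ * n * x⁻¹⁻¹ * n⁻¹ =
              (x * (x⁻¹ * n * x⁻¹⁻¹) * x⁻¹ * (x⁻¹ * n * x⁻¹⁻¹)⁻¹)⁻¹ := by group
          rw [e]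
          exact U.inv_mem h3 }
  have key : ∀ g ∈ C, ∀ x ∈ K, g * x * g⁻¹ ∈ K := by
    rintro g hg x ⟨hx, hx1, hx2⟩
    refine ⟨C.mul_mem (C.mul_mem hg hx) (C.inv_mem hg), fun u hu => ?_, fun n hn => ?_⟩
    · have h3 := hx1 _ (hCU _ (C.inv_mem hg) u hu)
      have e : g * x * g⁻¹ * u * (g * x * g⁻¹)⁻¹ = g * (x * (g⁻¹ * u * g⁻¹⁻¹) * x⁻¹) * g⁻¹ := by group
      rw [e, h3]; group
    · have h3 := hCU g hg _ (hx2 _ (nor _ (C.inv_mem hg) n hn))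
      have e : g * x * g⁻¹ * n * (g * x * g⁻¹)⁻¹ * n⁻¹ =
          g * (x * (g⁻¹ * n * g⁻¹⁻¹) * x⁻¹ * (g⁻¹ * n * g⁻¹⁻¹)⁻¹) * g⁻¹ := by group
      rw [e]; exact h3
  intro n hn
  have h6 := core K (fun x hx => hx.1) key (fun x hx n hn => ?_) c ⟨hc, h1, h2⟩ n hn
  · rw [h6]; group
  · obtain ⟨-, hx1, hx2⟩ := hx
    have h3 := hx2 n hn
    set d := x * n * x⁻¹ * n⁻¹ with hd
    have h4 : x * n = d * n * x := by rw [hd]; group
    have h6 : x * d = d * x := mul_inv_eq_iff_eq_mul.1 (hx1 d h3)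
    symm
    calc n * (x * x) = (d * d) * n * (x * x) := by rw [sq d (hU h3)]; group
      _ = d * (d * n * x) * x := by group
      _ = (d * x) * n * x := by rw [← h4]; group
      _ = x * (d * n * x) := by rw [← h6]; group
      _ = x * x * n := by rw [← h4]; group

/-- the core statement for `N = ⟨A^C⟩`, `A` centralised by the Sylow group `T` of `C` -/
theorem core_of_T [Finite G] {T C A : Subgroup G} (hTC : T ≤ C) (hT : IsPGroup 2 T) (hTs : ¬ 2 ∣ T.relIndex C)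
    (hA : T ≤ centralizer (A : Set G)) (B : Subgroup G) (hB : B ≤ C) (hn : ∀ c ∈ C, ∀ b ∈ B, c * b * c⁻¹ ∈ B)
    (h2 : ∀ b ∈ B, ∀ n ∈ cl A C, b * b * n = n * (b * b)) : ∀ b ∈ B, ∀ n ∈ cl A C, b * n = n * b := by
  have hCn : C ≤ normalizer (B : Set G) := fun c hc => by
    rw [mem_normalizer_iff]
    intro x
    refine ⟨fun hx => hn c hc x hx, fun hx => ?_⟩
    have h3 := hn _ (C.inv_mem hc) _ hx
    have e : c⁻¹ * (c * x * c⁻¹) * c⁻¹⁻¹ = x := by group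
    rwa [e] at h3
  have h5 : B ≤ centralizer (cl A C : Set G) := by
    refine le_cen_cl_of_pow hTC hT hTs hA hB hCn ?_
    intro x hx
    refine ⟨1, ?_⟩
    rw [pow_one, mem_centralizer_iff]
    intro n hn'
    rw [pow_two]
    exact (h2 x hx n hn').symm
  exact fun b hb n hn' => (mem_centralizer_iff.1 (h5 hb) n hn').symm

/-- **LEMMA T** from the core statement `O₂(C / C_C(N)) = 1` -/
theorem natC_of_core [Finite G] {C N : Subgroup G} {r : G} (sq : ∀ x ∈ N, x * x = 1)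
    (nor : ∀ c ∈ C, ∀ n ∈ N, c * n * c⁻¹ ∈ N) (hrN : r ∈ N) (hr : r ≠ 1)
    (core : ∀ B : Subgroup G, B ≤ C → (∀ c ∈ C, ∀ b ∈ B, c * b * c⁻¹ ∈ B) →
      (∀ b ∈ B, ∀ n ∈ N, b * b * n = n * (b * b)) → ∀ b ∈ B, ∀ n ∈ N, b * n = n * b)
    {a b : G} (ha : a ∈ C) (hb : b ∈ C)
    (hta : ∀ n ∈ N, a * n * a⁻¹ = n ∨ a * n * a⁻¹ = n * r)
    (htb : ∀ n ∈ N, b * n * b⁻¹ = n ∨ b * n * b⁻¹ = n * r)
    (hna : ∃ n ∈ N, a * n * a⁻¹ ≠ n) (hnb : ∃ n ∈ N, b * n * b⁻¹ ≠ n)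
    (hnab : ∃ n ∈ N, a * b * n * (a * b)⁻¹ ≠ n) :
    ∃ W, NatC C N W r ∧ W ≤ Subgroup.closure {x | ∃ c ∈ C, x = c * r * c⁻¹} :=
  natC_of' ⟨sq, nor, hrN, hr, fun _ hU hCU _ hc h1 h2 => chain_of_core sq nor core hU hCU hc h1 h2⟩
    ha hb hta htb hna hnb hnab

/-- **LEMMA T** for `N = ⟨A^C⟩`, `A ∋ r` centralised by the Sylow group `T` of `C` -/
theorem natC_of_T [Finite G] {T C A : Subgroup G} {r : G} (hTC : T ≤ C) (hT : IsPGroup 2 T)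
    (hTs : ¬ 2 ∣ T.relIndex C) (hA : T ≤ centralizer (A : Set G)) (hrA : r ∈ A) (hr : r ≠ 1)
    (sq : ∀ x ∈ cl A C, x * x = 1) {a b : G} (ha : a ∈ C) (hb : b ∈ C)
    (hta : ∀ n ∈ cl A C, a * n * a⁻¹ = n ∨ a * n * a⁻¹ = n * r)
    (htb : ∀ n ∈ cl A C, b * n * b⁻¹ = n ∨ b * n * b⁻¹ = n * r)
    (hna : ∃ n ∈ cl A C, a * n * a⁻¹ ≠ n) (hnb : ∃ n ∈ cl A C, b * n * b⁻¹ ≠ n)
    (hnab : ∃ n ∈ cl A C, a * b * n * (a * b)⁻¹ ≠ n) :
    ∃ W, NatC C (cl A C) W r ∧ W ≤ Subgroup.closure {x | ∃ c ∈ C, x = c * r * c⁻¹} :=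
  natC_of_core sq (fun _ hc _ hn => conj_mem_of_normalizer (le_normalizer_cl A C hc) hn) (le_cl A C hrA) hr
    (core_of_T hTC hT hTs hA) ha hb hta htb hna hnb hnab

end Cfsg.Agent.Omega.HT.TComp
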