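import Cfsg.Agent.Omega.HT.Dt
import Cfsg.Agent.Omega.HT.TComp
import Cfsg.Agent.Omega.HTwo.AlphaP

/-!
# II.0h1, `q = 2`, over a 2-group `S` (`HTT`): case (α) for `M' = ⟨C_{H₁}(z), X⟩` (#15368, #18182, #18272)

* `alpha_two` : (2) of #14489;
* `part_B` : (4), (5), (6) of #15368 with an abstract module `Y` for `C(z r)`: `r ∈ Y ≤ C(z r)`, `GSysW (C(z r)) Y r`;
* `not_alpha'` : `⟨V^{M'}⟩` is not contained in `Q o`, if `O₂(M' / C(U)) = 1` and such a `Y` exists.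
-/

set_option autoImplicit false
set_option linter.unusedSectionVars false

namespace Cfsg.Agent.Omega.HT.AlphaP

open Subgroup Cfsg Cfsg.Agent.MinSimple.VModule Cfsg.Agent.Omega.BTwo
open Cfsg.Agent.Omega.HOneTwo Cfsg.Agent.Omega.HTwo Cfsg.Agent.Omega.HTwo.ThmA Cfsg.Agent.Omega.HTwo.Par
open Cfsg.Agent.Omega.HTwo.Hat Cfsg.Agent.Omega.HTwo.TComp Cfsg.Agent.Omega.HT.TComp Cfsg.Agent.Omega.MinPar
open Cfsg.Agent.ZN (zc o2 le_normalizer_o2)
open Cfsg.Agent.Omega.HTwo.AlphaFive (mem_C natC_two natC_cj)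
open Cfsg.Agent.Omega.HTwo.AlphaOne (ZQ_swap ZQ_not_RC)
open Cfsg.Agent.Omega.HTwo.AlphaP (lemX_false four' MP)

universe u

/-- a 2-subgroup of `L` is conjugate in `L` into `T`, `T ≤ L` a 2-group of odd index -/
theorem exists_cj_T {G : Type*} [Group G] [Finite G] {T L B : Subgroup G} (hT : IsPGroup 2 T)
    (hTs : ¬ 2 ∣ T.relIndex L) (hBL : B ≤ L) (hB : IsPGroup 2 B) : ∃ g ∈ L, B ≤ cj g T := by
  have hf : Fact (Nat.Prime 2) := ⟨Nat.prime_two⟩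
  have h1 : IsPGroup 2 (T.subgroupOf L) := hT.comap_of_injective _ L.subtype_injective
  have h2 : IsPGroup 2 (B.subgroupOf L) := hB.comap_of_injective _ L.subtype_injective
  obtain ⟨Q, hQ⟩ := h2.exists_le_sylow
  obtain ⟨g, hg⟩ := MulAction.exists_smul_eq L (h1.toSylow hTs : Sylow 2 L) Q
  refine ⟨g, g.2, ?_⟩
  intro x hx
  have h3 : (⟨x, hBL hx⟩ : L) ∈ (Q : Subgroup L) := hQ (mem_subgroupOf.2 hx)
  rw [← hg] at h3
  rw [mem_cj]
  have h4 : g⁻¹ * ⟨x, hBL hx⟩ * g ∈ ((h1.toSylow hTs : Sylow 2 L) : Subgroup L) := by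
    rw [Sylow.coe_subgroup_smul, ← SetLike.mem_coe, Subgroup.coe_pointwise_smul,
      Set.mem_smul_set_iff_inv_smul_mem] at h3
    have h5 : g⁻¹ * ⟨x, hBL hx⟩ * g ∈ (h1.toSylow hTs : Sylow 2 L) := by
      simpa [MulAut.smul_def] using h3
    exact h5
  exact mem_subgroupOf.1 h4

section two

variable {G : Type u} [Group G] [Finite G] {ι : Type*} {S P V : Subgroup G} {R : ι → Subgroup G} {o : ι}

variable (b : HTT S P V R o)
include b

/-- the product of elements of different points lies in the third -/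
theorem mul_mem_third {i j k : ι} (hij : i ≠ j) (hik : i ≠ k) (hjk : j ≠ k) {x y : G} (hx : x ∈ R j) (hx1 : x ≠ 1)
    (hy : y ∈ R k) (hy1 : y ≠ 1) : x * y⁻¹ ∈ R i := by
  obtain ⟨l, hl⟩ := b.R_cov (x * y⁻¹) (mul_mem (b.R_le j hx) (inv_mem (b.R_le k hy)))
  have hne : x * y⁻¹ ≠ 1 := by
    intro h
    rw [mul_inv_eq_one] at h
    subst h
    exact hx1 (b.eq_one hjk hx hy)
  rcases b.eq_of_ne hij hik hjk (l := l) with rfl | rfl | rfl
  · exact hl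
  · exfalso
    have h1 : y⁻¹ ∈ R l := by
      have := mul_mem (inv_mem hx) hl
      rwa [inv_mul_cancel_left] at this
    exact hy1 (b.eq_one hjk (by simpa using inv_mem h1) hy)
  · exfalso
    have h1 : x ∈ R l := by
      have := mul_mem hl hy
      rwa [inv_mul_cancel_right] at this
    exact hx1 (b.eq_one hjk hx h1)

/-- an element of `N(V) ∩ N(R o)` acts trivially on `V / R o` -/
theorem comm_mem_R {s v : G} (hsV : s ∈ normalizer (V : Set G)) (hsR : s ∈ normalizer (R o : Set G)) (hv : v ∈ V) :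
    s * v * s⁻¹ * v⁻¹ ∈ R o := by
  obtain ⟨l, hl⟩ := b.R_cov v hv
  by_cases hlo : l = o
  · subst hlo
    exact mul_mem (conj_mem_of_normalizer hsR hl) (inv_mem hl)
  by_cases hv1 : v = 1
  · subst hv1
    have : s * 1 * s⁻¹ * 1⁻¹ = (1 : G) := by group
    rw [this]; exact one_mem _
  obtain ⟨m, hm⟩ := b.perm s hsV l
  have h1 : s * v * s⁻¹ ∈ R m := by rw [← hm]; exact conj_mem_cj hl
  have hmo : m ≠ o := by
    rintro rfl
    exact hlo (b.R_index (cj_injective (hm.trans (cj_eq_self_iff.2 hsR).symm)))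
  have hne : s * v * s⁻¹ ≠ 1 := fun h => hv1 (conj_eq_one_iff.1 h)
  by_cases hml : m = l
  · subst hml
    have h2 : s * v * s⁻¹ = v := eq_of_card_two (b.card_R m) hl hv1 h1 hne
    rw [h2, mul_inv_cancel]; exact one_mem _
  · exact mul_mem_third b (Ne.symm hmo) (Ne.symm hlo) hml h1 hne hl hv1

/-- **(2)** of #14489 for every `M ≥ N(R o) ∩ C(z)`, `X` -/
theorem alpha_two {M : Subgroup G} (h : ∀ i, LE V R i) {z : G}
    (hz : z ∈ zc S ⊓ centralizer (P : Set G)) (hz1 : z ≠ 1)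
    (hM : normalizer (R o : Set G) ⊓ centralizer ({z} : Set G) ≤ M)
    (hα : UM V M ≤ QQ (R o)) :
    ∃ a ∈ QQ (R o), ∃ c ∈ QQ (R o), a ∉ centralizer (UM V M : Set G) ∧
      c ∉ centralizer (UM V M : Set G) ∧ a * c ∉ centralizer (UM V M : Set G) := by
  by_contra hcon
  push Not at hcon
  set U := UM V M with hU
  obtain ⟨k, hk, H⟩ := b.mt o
  obtain ⟨j, m, hj, hm, hjm⟩ := b.one_lt
  obtain ⟨-, v, hv, ev⟩ := H j m hj hm
  have hzz : z * z = 1 := by rw [← pow_two]; exact (mem_zc.1 hz.1).2.2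
  have hzX : z ∈ CenX V R := b.cz_le hz
  have hzQ : z ∈ ZQ R o := cenX_le_ZQ b.toBTS h o hzX
  -- conjugate by `k⁻¹`
  have hk' : k⁻¹ ∈ normalizer (R o : Set G) := inv_mem hk
  set z₁ := k⁻¹ * z * k with hz₁
  have hz₁Q : z₁ ∈ ZQ R o := conj_inv_mem_of_normalizer (N_le_NZQ o hk) hzQ
  have hz₁z₁ : z₁ * z₁ = 1 := by
    have : z₁ * z₁ = k⁻¹ * (z * z) * k := by rw [hz₁]; group
    rw [this, hzz, mul_one, inv_mul_cancel]
  set U₁ := cj k⁻¹ U with hU₁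
  have hQk : cj k⁻¹ (QQ (R o)) = QQ (R o) := cj_eq_self_iff.2 (le_normalizer_O2 _ hk')
  have hU₁Q : U₁ ≤ QQ (R o) := by
    rw [← hQk]; exact cj_mono hα
  have hone : ∀ a ∈ QQ (R o), ∀ c ∈ QQ (R o), a ∉ centralizer (U₁ : Set G) → c ∉ centralizer (U₁ : Set G) →
      a * c ∈ centralizer (U₁ : Set G) := by
    intro a ha c hc h1 h2
    rw [hU₁, centralizer_cj, mem_cj, inv_inv] at h1 h2 ⊢
    have h3 := hcon (k * a * k⁻¹) (conj_mem_of_normalizer (le_normalizer_O2 _ hk) ha) (k * c * k⁻¹)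
      (conj_mem_of_normalizer (le_normalizer_O2 _ hk) hc) h1 h2
    have e : k * a * k⁻¹ * (k * c * k⁻¹) = k * (a * c) * k⁻¹ := by group
    rwa [e] at h3
  -- `N(R o) ∩ C(z₁)` normalises `U₁`
  have hMU : ∀ g ∈ normalizer (R o : Set G), g * z₁ = z₁ * g → g ∈ normalizer (U₁ : Set G) := by
    intro g hgN hg
    rw [hU₁, normalizer_cj, mem_cj, inv_inv]
    apply le_normalizer_cl V M
    refine hM ⟨mul_mem (mul_mem hk hgN) hk', mem_C.2 ?_⟩
    calc k * g * k⁻¹ * z = k * (g * z₁) * k⁻¹ := by rw [hz₁]; group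
      _ = k * (z₁ * g) * k⁻¹ := by rw [hg]
      _ = z * (k * g * k⁻¹) := by rw [hz₁]; group
  have hV₁ : cj k⁻¹ V ≤ U₁ := cj_mono (le_cl V M)
  -- `R j` does not centralise `U₁`
  obtain ⟨r₂, hr₂1, hr₂₂, hr₂⟩ := b.exists_gen j
  have hr₂j : r₂ ∈ R j := (hr₂ _).2 (Or.inr rfl)
  have hv₁ : k⁻¹ * v * k ∈ U₁ := by
    have := hV₁ (conj_mem_cj (g := k⁻¹) hv)
    rwa [inv_inv] at this
  have hr₂U : r₂ ∉ centralizer (U₁ : Set G) := by
    intro hc
    have h1 := mem_centralizer_iff.1 hc _ hv₁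
    have h2 : k⁻¹ * v * k * r₂ * (k⁻¹ * v * k)⁻¹ ∈ R m := by
      rw [← ev]; exact conj_mem_cj hr₂j
    rw [h1, mul_inv_cancel_right] at h2
    exact hr₂1 (b.eq_one hjm hr₂j h2)
  -- the group `B`
  have hBN : ZQ R j ≤ normalizer (R o : Set G) := (ZQ_le_cen b.toBT j).trans (b.cen_le_N o)
  set B := ZQ R j ⊓ centralizer ({z₁} : Set G) with hB
  have hBp : IsPGroup 2 B := (O2_isPGroup _).to_le (inf_le_left.trans (ZQ_le j))
  have key : ∀ x ∈ B, ∃ a ∈ R j, a * x ∈ CenX V R := by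
    -- a Sylow group
    set L := normalizer (R o : Set G) ⊓ centralizer ({z₁} : Set G) with hL
    have hSL : cj k⁻¹ S ≤ L := by
      rintro _ ⟨s, hs, rfl⟩
      change k⁻¹ * s * k⁻¹⁻¹ ∈ L
      rw [inv_inv]
      refine ⟨mul_mem (mul_mem hk' (b.S_R hs)) hk, mem_centralizer_singleton_iff.2 ?_⟩
      have h1 : s * z = z * s := (mem_zc.1 hz.1).2.1 s hs
      calc k⁻¹ * s * k * z₁ = k⁻¹ * (s * z) * k := by rw [hz₁]; group
        _ = k⁻¹ * (z * s) * k := by rw [h1]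
        _ = _ := by rw [hz₁]; group
    have hSp' : IsPGroup 2 (cj k⁻¹ S : Subgroup G) := b.S_p.map _
    have hSo : ¬ 2 ∣ (cj k⁻¹ S).relIndex L := by
      intro h2
      apply b.S_odd
      have h3 : (cj k⁻¹ S).relIndex (normalizer (R o : Set G)) = S.relIndex (normalizer (R o : Set G)) := by
        have h4 : cj k⁻¹ (normalizer (R o : Set G)) = normalizer (R o : Set G) := cj_of_mem hk'
        conv_lhs => rw [← h4]
        exact relIndex_map_map_of_injective _ _ (MulAut.conj k⁻¹).injective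
      rw [← h3, ← relIndex_mul_relIndex _ _ _ hSL inf_le_left]
      exact Dvd.dvd.mul_right h2 _
    obtain ⟨g, hg, hBg⟩ := exists_cj_T hSp' hSo (inf_le_inf_right _ hBN) hBp
    set k' := g * k⁻¹ with hk'd
    have hk'N : k' ∈ normalizer (R o : Set G) := mul_mem hg.1 hk'
    have hBS : ∀ x ∈ B, ∃ s ∈ S, x = k' * s * k'⁻¹ := by
      intro x hx
      obtain ⟨y, hy, rfl⟩ := hBg hx
      obtain ⟨s, hs, rfl⟩ : ∃ s ∈ S, k⁻¹ * s * k⁻¹⁻¹ = y := hy
      refine ⟨s, hs, ?_⟩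
      change g * (k⁻¹ * s * k⁻¹⁻¹) * g⁻¹ = _
      rw [hk'd]; group
    -- `V* = V^{k'} ≤ U₁`
    set a := k' * r₂ * k'⁻¹ with ha
    have haU : a ∈ U₁ := by
      have h1 := conj_mem_of_normalizer (hMU g hg.1 (mem_centralizer_singleton_iff.1 hg.2))
        (hV₁ (conj_mem_cj (g := k⁻¹) (b.R_le j hr₂j)))
      have e : a = g * (k⁻¹ * r₂ * k⁻¹⁻¹) * g⁻¹ := by rw [ha, hk'd]; group
      rw [e]; exact h1
    -- an element of `Q o` moving `a`
    obtain ⟨w, hw, ew⟩ := b.trans o hj hm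
    have hwQ := b.W_le_Q o hw
    set q := k' * w * k'⁻¹ with hq
    have hqQ : q ∈ QQ (R o) := conj_mem_of_normalizer (le_normalizer_O2 _ hk'N) hwQ
    have hqa : q * a * q⁻¹ ≠ a := by
      intro h1
      have e : q * a * q⁻¹ = k' * (w * r₂ * w⁻¹) * k'⁻¹ := by rw [hq, ha]; group
      rw [e, ha] at h1
      have h2 : w * r₂ * w⁻¹ = r₂ := mul_left_cancel (mul_right_cancel h1)
      have h3 : w * r₂ * w⁻¹ ∈ R m := by rw [← ew]; exact conj_mem_cj hr₂j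
      rw [h2] at h3
      exact hr₂1 (b.eq_one hjm hr₂j h3)
    have hqU : q ∉ centralizer (U₁ : Set G) := by
      intro hc
      apply hqa
      rw [← mem_centralizer_iff.1 hc a haU, mul_inv_cancel_right]
    have hr₂Q : r₂ ∈ QQ (R o) := b.V_Q o (b.R_le j hr₂j)
    have h1 := hone r₂ hr₂Q q hqQ hr₂U hqU
    have hra : ¬ r₂ * a = a * r₂ := by
      intro h2
      apply hqa
      have h3 := mem_centralizer_iff.1 h1 a haU
      -- `a (r₂ q) = r₂ q a`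
      have h4 : r₂ * (a * q) = r₂ * (q * a) := by
        rw [← mul_assoc, h2, mul_assoc, h3, mul_assoc]
      have h5 := mul_left_cancel h4
      rw [← h5, mul_inv_cancel_right]
    -- `a` maps `R j` to `R m`
    have haQ : a ∈ QQ (R o) := hU₁Q haU
    have haV : a ∈ normalizer (V : Set G) := b.Q_le_NV o haQ
    obtain ⟨l, hl⟩ := b.perm a haV j
    have hlj : l ≠ j := by
      rintro rfl
      apply hra
      have h2 : a * r₂ * a⁻¹ ∈ R l := by rw [← hl]; exact conj_mem_cj hr₂j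
      have h3 : a * r₂ * a⁻¹ ≠ 1 := fun h => hr₂1 (conj_eq_one_iff.1 h)
      have h4 := eq_of_card_two (b.card_R l) hr₂j hr₂1 h2 h3
      rw [mul_inv_eq_iff_eq_mul] at h4
      exact h4.symm
    have hlo : l ≠ o := by
      rintro rfl
      exact hj (b.R_index (cj_injective (hl.trans (cj_eq_self_iff.2 (b.Q_le l haQ)).symm)))
    intro x hx
    obtain ⟨s, hs, ex⟩ := hBS x hx
    -- `[x, a] ∈ R o`
    have h2 : x * a * x⁻¹ * a⁻¹ ∈ R o := by
      have h3 := conj_mem_of_normalizer hk'N (comm_mem_R b (b.S_V hs) (b.S_R hs) (b.R_le j hr₂j))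
      have e : x * a * x⁻¹ * a⁻¹ = k' * (s * r₂ * s⁻¹ * r₂⁻¹) * k'⁻¹ := by rw [ex, ha]; group
      rw [e]; exact h3
    have h3 : x ∈ QQ (R l) := by
      have h4 : a * x * a⁻¹ ∈ QQ (R l) := by
        have h5 : a * x * a⁻¹ ∈ ZQ R l := by
          rw [← cj_ZQ b.toBT hl]; exact conj_mem_cj hx.1
        exact ZQ_le l h5
      have e : x = (x * a * x⁻¹ * a⁻¹) * (a * x * a⁻¹) := by group
      rw [e]
      exact mul_mem (b.V_Q l (b.R_le o h2)) h4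
    exact ZQ_Q b.toBTS (Ne.symm hlj) hx.1 h3
  -- `z₁^σ ∈ B`
  obtain ⟨σ, hσ, eσ⟩ := b.trans m (Ne.symm hm) hjm
  have hσQ := b.W_le_Q m hσ
  have hσV : σ ∈ normalizer (V : Set G) := b.Q_le_NV m hσQ
  have h1 := ZQ_swap b.toBTS h (Ne.symm hj) hσQ eσ hz₁Q hz₁z₁
  have h2 : σ * z₁ * σ⁻¹ ∈ B := by
    refine ⟨?_, ?_⟩
    · rw [← cj_ZQ b.toBT eσ]; exact conj_mem_cj hz₁Q
    · exact mem_centralizer_singleton_iff.2 h1.symm
  obtain ⟨a, ha, h3⟩ := key _ h2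
  -- `z₁ ∈ R o C_X`
  have h4 : σ⁻¹ * a * σ ∈ R o := by
    rw [← eσ] at ha
    exact mem_cj.1 ha
  have h5 : σ⁻¹ * a * σ * z₁ ∈ CenX V R := by
    have h6 := conj_inv_mem_of_normalizer (b.NV_le_NCenX hσV) h3
    have e : σ⁻¹ * (a * (σ * z₁ * σ⁻¹)) * σ = σ⁻¹ * a * σ * z₁ := by group
    rwa [e] at h6
  -- `Z(Q j)` centralises `z₁`
  have h6 : ZQ R j ≤ B := by
    intro x hx
    refine ⟨hx, mem_centralizer_singleton_iff.2 ?_⟩
    have h7 : σ⁻¹ * a * σ * x = x * (σ⁻¹ * a * σ) := mem_centralizer_iff.1 (ZQ_le_cen b.toBT j hx) _ (b.R_le o h4)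
    have h8 : σ⁻¹ * a * σ * z₁ * x = x * (σ⁻¹ * a * σ * z₁) := cenX_Q b.toBTS (h j) h5 (ZQ_le j hx)
    have h9 : σ⁻¹ * a * σ * (z₁ * x) = σ⁻¹ * a * σ * (x * z₁) := by
      rw [← mul_assoc, h8, ← mul_assoc, ← h7, mul_assoc]
    exact (mul_left_cancel h9).symm
  exact ZQ_not_RC b.toBTS h hzX hz1 j fun l hl => key l (h6 hl)

variable {r : G} (hr : ∀ x, x ∈ R o ↔ x = 1 ∨ x = r)
include hr

theorem r_ne : r ≠ 1 := by
  rintro rfl
  refine b.R_ne o ((eq_bot_iff_forall _).2 fun x hx => ?_)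
  rcases (hr x).1 hx with h | h <;> exact h

theorem r_mem : r ∈ R o := (hr r).2 (Or.inr rfl)

theorem r_sq : r * r = 1 := b.V_sq r (b.R_le o (r_mem b hr))

/-- `N(R o) = C(r)` -/
theorem mem_N_iff {g : G} : g ∈ normalizer (R o : Set G) ↔ g * r = r * g := by
  constructor
  · intro hg
    exact (mem_centralizer_iff.1 (normalizer_le_cen_of_card (b.card_R o) hg) r (r_mem b hr)).symm
  · intro hg
    refine mem_normalizer_of_conj fun x hx => ?_
    rcases (hr x).1 hx with rfl | rfl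
    · rw [mul_one, mul_inv_cancel]; exact one_mem _
    · rw [hg, mul_inv_cancel_right]; exact hx

/-- a conjugate of `V` under `N(R o)` is determined by one element outside `R o` -/
theorem cj_V_le {k : G} (hk : k ∈ normalizer (R o : Set G)) {W : Subgroup G} (hrW : r ∈ W) {v : G}
    (hv : v ∈ cj k V) (hv1 : v ∉ R o) (hvW : v ∈ W) : cj k V ≤ W := by
  obtain ⟨v, hv, rfl⟩ := hv
  change k * v * k⁻¹ ∉ R o at hv1
  change k * v * k⁻¹ ∈ W at hvW
  obtain ⟨j, hj⟩ := b.R_cov v hv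
  have hjo : o ≠ j := by
    rintro rfl
    exact hv1 (conj_mem_of_normalizer hk hj)
  have hv' : v ≠ 1 := by
    rintro rfl
    apply hv1
    rw [mul_one, mul_inv_cancel]
    exact one_mem _
  rw [← b.R_sup o j hjo, cj_sup]
  refine sup_le ?_ ?_
  · rw [cj_eq_self_iff.2 hk]
    intro x hx
    rcases (hr x).1 hx with rfl | rfl
    · exact one_mem _
    · exact hrW
  · rintro _ ⟨x, hx, rfl⟩
    change k * x * k⁻¹ ∈ W
    by_cases hx1 : x = 1
    · rw [hx1, mul_one, mul_inv_cancel]; exact one_mem _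
    · rw [eq_of_card_two (b.card_R j) hj hv' hx hx1]
      exact hvW

/-- elements of `V^k` are conjugate to `r` under `C(y)` if `y` centralises `X^k` -/
theorem exists_conj {k y : G} (hk : k ∈ normalizer (R o : Set G))
    (hy : y ∈ centralizer (cj k (XX V R) : Set G)) {v : G} (hv : v ∈ cj k V) (hv1 : v ≠ 1) :
    ∃ c ∈ centralizer ({y} : Set G), c * r * c⁻¹ = v := by
  obtain ⟨v, hv, rfl⟩ := hv
  change k * v * k⁻¹ ≠ 1 at hv1
  obtain ⟨j, hj⟩ := b.R_cov v hv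
  obtain ⟨x, hx, e⟩ := b.trans_X_one o j
  rw [← e, mem_cj] at hj
  have h2 := mem_centralizer_iff.1 hy _ (conj_mem_cj hx)
  refine ⟨k * x * k⁻¹, mem_C.2 h2, ?_⟩
  have hkr := (mem_N_iff b hr).1 hk
  rcases (hr _).1 hj with h0 | h0
  · exfalso
    apply hv1
    have h1 : v = 1 := by
      calc v = x * (x⁻¹ * v * x) * x⁻¹ := by group
        _ = 1 := by rw [h0, mul_one, mul_inv_cancel]
    rw [h1, mul_one, mul_inv_cancel]
  · change _ = k * v * k⁻¹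
    have h3 : k⁻¹ * r * k = r := by rw [mul_assoc, ← hkr]; group
    calc k * x * k⁻¹ * r * (k * x * k⁻¹)⁻¹ = k * x * (k⁻¹ * r * k) * x⁻¹ * k⁻¹ := by group
      _ = k * (x * (x⁻¹ * v * x) * x⁻¹) * k⁻¹ := by rw [h3, h0]; group
      _ = k * v * k⁻¹ := by group

/-- `V^k ≤ ⟨r^{C(y)}⟩` if `y` centralises `X^k` -/
theorem cj_le_cl_of {k y : G} (hk : k ∈ normalizer (R o : Set G))
    (hy : y ∈ centralizer (cj k (XX V R) : Set G)) : cj k V ≤ cl (R o) (centralizer ({y} : Set G)) := by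
  intro v hv
  by_cases hv1 : v = 1
  · rw [hv1]; exact one_mem _
  obtain ⟨c, hc, rfl⟩ := exists_conj b hr hk hy hv hv1
  exact cj_le_cl hc (conj_mem_cj (r_mem b hr))

/-- there is `h ∈ N(R o)` with `[V, V^h] ≠ 1` -/
theorem exists_h : ∃ h ∈ normalizer (R o : Set G), ∃ a ∈ V, ∃ c ∈ cj h V, a * c ≠ c * a := by
  have _ := hr
  obtain ⟨h, hh, H⟩ := b.mt o
  refine ⟨h, hh, ?_⟩
  by_contra hcon
  push Not at hcon
  refine b.false_of_comm (h := h) (fun j k hj hk => (H j k hj hk).1) fun v hv => ?_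
  rw [mem_centralizer_iff]
  exact fun w hw => hcon w hw _ (conj_mem_cj hv)

/-- there is an element of `Q o` moving an element of `V` -/
theorem exists_mv : ∃ t ∈ QQ (R o), ∃ v ∈ V, t * v ≠ v * t := by
  obtain ⟨h, hh, a, ha, c, hc, hne⟩ := exists_h b hr
  exact ⟨c, b.W_le_Q o (cj_le_WW hh hc), a, ha, fun e => hne e.symm⟩

/-- for `z ∈ C_Z(P)`: `⟨r^{C(z)}⟩ ≤ Ω₁(Z(O₂(C(z))))` -/
theorem cl_le_zc {z : G} (hz : z ∈ zc S ⊓ centralizer (P : Set G)) (hz1 : z ≠ 1) :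
    cl (R o) (centralizer ({z} : Set G)) ≤ zc (o2 (centralizer ({z} : Set G))) := by
  have _ := hr
  rw [b.cl_R_eq (b.trans_of_X (b.X_le_cen hz))]
  exact b.cl_V_le (b.isLoc_cen hz.1 hz1) (b.X_le_cen hz)

/-- `MP ≤ C(z)` -/
theorem MP_le {z : G} (hz : z ∈ zc S ⊓ centralizer (P : Set G)) (hz1 : z ≠ 1) :
    MP V R o z ≤ centralizer ({z} : Set G) := by
  have _ := hr
  exact sup_le inf_le_right (b.dt hz hz1).X_M

/-- `[W, Q o] ≤ R o` forces `W ≤ Q o` -/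
theorem le_Q_of_comm {W : Subgroup G} (hW : W ≤ normalizer (R o : Set G))
    (h : ∀ w ∈ W, ∀ q ∈ QQ (R o), w * q * w⁻¹ * q⁻¹ ∈ R o) : W ≤ QQ (R o) := by
  have _ := hr
  rw [← b.toBTS.K_eq o]
  exact fun w hw => ⟨hW hw, fun d hd => h w hw d (b.W_le_Q o hd)⟩

/-- elements of `V` are conjugate to `r` under `X` -/
theorem exists_conj_X {v : G} (hv : v ∈ V) (hv1 : v ≠ 1) : ∃ c ∈ XX V R, c * r * c⁻¹ = v := by
  obtain ⟨j, hj⟩ := b.R_cov v hv
  obtain ⟨x, hx, e⟩ := b.trans_X_one o j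
  refine ⟨x, hx, ?_⟩
  have h1 : x * r * x⁻¹ ∈ R j := by rw [← e]; exact conj_mem_cj (r_mem b hr)
  have h2 : x * r * x⁻¹ ≠ 1 := fun h => r_ne b hr (conj_eq_one_iff.1 h)
  exact eq_of_card_two (b.card_R j) hj hv1 h1 h2

/-- (4), (5), (6) of #15368 -/
theorem part_B (hLE : ∀ i, LE V R i) {z : G}
    (hz : z ∈ zc S ⊓ centralizer (P : Set G)) (hz1 : z ≠ 1) {W U : Subgroup G}
    (hW : NatC (MP V R o z) U W r) (hWQ : W ≤ QQ (R o)) (hVW : V ≤ W)
    {U₁ : Subgroup G} (hUle₁ : U₁ ≤ centralizer ({z * r} : Set G))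
    (hsys : GSysW (centralizer ({z * r} : Set G)) U₁ r)
    {w₂ c₂ : G} (hw₂ : w₂ ∈ W) (hc₂ : c₂ * (z * r) = z * r * c₂)
    (hne : c₂ * r * c₂⁻¹ * w₂ ≠ w₂ * (c₂ * r * c₂⁻¹)) : False := by
  have bs := b.toBTS
  have hr1 := r_ne b hr
  have hr2 := r_sq b hr
  have hrR := r_mem b hr
  have hNr := fun g => mem_N_iff b hr (g := g)
  set M := MP V R o z with hM
  have hMz : M ≤ centralizer ({z} : Set G) := MP_le b hr hz hz1
  have hKM : normalizer (R o : Set G) ⊓ centralizer ({z} : Set G) ≤ M := le_sup_left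
  -- `z`
  have hz2 : z * z = 1 := by rw [← pow_two]; exact (mem_zc.1 hz.1).2.2
  have hSz : ∀ s ∈ S, s * z = z * s := (mem_zc.1 hz.1).2.1
  have hSr : ∀ s ∈ S, s * r = r * s := fun s hs => (hNr s).1 (b.S_R hs)
  have hzX : z ∈ CenX V R := b.cz_le hz
  have hzQ : z ∈ ZQ R o := cenX_le_ZQ bs hLE o hzX
  have hrQ : r ∈ ZQ R o := R_le_ZQ b.toBT o hrR
  have hrz : r * z = z * r := ZQ_comm hzQ (ZQ_le o hrQ)
  have hWc : ∀ a ∈ W, ∀ c ∈ W, a * c = c * a := fun a ha c hc => Omega.TV.EA.comm_of hW.sq ha hc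
  -- `y = z r`
  obtain ⟨y, hy⟩ : ∃ y, y = z * r := ⟨_, rfl⟩
  rw [← hy] at hc₂ hsys hUle₁
  have hy2 : y * y = 1 := by
    rw [hy]
    calc z * r * (z * r) = z * (r * z) * r := by group
      _ = z * z * (r * r) := by rw [hrz]; group
      _ = 1 := by rw [hr2, hz2, mul_one]
  have hy1 : y ≠ 1 := by
    intro e
    have h5 : z = r := by
      calc z = z * (r * r) := by rw [hr2, mul_one]
        _ = (z * r) * r := by group
        _ = r := by rw [← hy, e, one_mul]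
    have h6 : r ∈ V ⊓ (zc S ⊓ centralizer (P : Set G)) :=
      ⟨b.R_le o hrR, by rw [← h5]; exact hz⟩
    rw [b.R_inf_cz, mem_bot] at h6
    exact hr1 h6
  have hSy : ∀ s ∈ S, s * y = y * s := by
    intro s hs
    rw [hy, ← mul_assoc, hSz s hs, mul_assoc, hSr s hs, ← mul_assoc]
  have hyQ : y ∈ ZQ R o := by rw [hy]; exact mul_mem hzQ hrQ
  have hQy : ∀ q ∈ QQ (R o), q ∈ centralizer ({y} : Set G) := fun q hq => mem_C.2 (ZQ_comm hyQ hq)
  have hzy : z = y * r := by rw [hy, mul_assoc, hr2, mul_one]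
  -- `C(y) ∩ C(r) = C(z) ∩ C(r)`
  have hCzy : ∀ g : G, g * r = r * g → (g ∈ centralizer ({z} : Set G) ↔ g ∈ centralizer ({y} : Set G)) := by
    intro g hg
    rw [mem_C, mem_C]
    constructor
    · intro h5
      rw [hy, ← mul_assoc, h5, mul_assoc, hg, ← mul_assoc]
    · intro h5
      rw [hzy, ← mul_assoc, h5, mul_assoc, hg, ← mul_assoc]
  set C₁ := centralizer ({y} : Set G) with hC₁
  have hUsq₁ : ∀ x ∈ U₁, x * x = 1 := hsys.sq
  have hUcm₁ : ∀ x ∈ U₁, ∀ y ∈ U₁, x * y = y * x := fun x hx y hy => Omega.TV.EA.comm_of hUsq₁ hx hy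
  have hrU₁ : r ∈ U₁ := hsys.mem
  have hU₁C : ∀ n ∈ U₁, n ∈ C₁ := fun n hn => hUle₁ hn
  have hU₁r : ∀ n ∈ U₁, n * r = r * n := fun n hn => hUcm₁ n hn r hrU₁
  have hnU₁ : C₁ ≤ normalizer (U₁ : Set G) := fun c hc => mem_normalizer_of_conj (fun x hx => hsys.nor c hc x hx)
  have hpU₁ : c₂ * r * c₂⁻¹ ∈ U₁ := conj_mem_of_normalizer (hnU₁ (mem_C.2 hc₂)) hrU₁
  -- the group `K = N(R o) ∩ C(z)` normalises `W`
  have hKW : ∀ c : G, c * r = r * c → c ∈ C₁ → ∀ x ∈ W, c * x * c⁻¹ ∈ W := by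
    intro c hcr hc
    refine hW.blk c (hKM ⟨(hNr c).2 hcr, (hCzy c hcr).2 hc⟩) r hW.mem hr1 ?_
    rw [hcr, mul_inv_cancel_right]
    exact hW.mem
  have hMC : ∀ c ∈ M, c * r = r * c → c ∈ C₁ := fun c hc hcr => (hCzy c hcr).1 (hMz hc)
  have hWC₁ : ∀ x ∈ W, x ∈ C₁ := fun x hx => hQy x (hWQ hx)
  -- `W ∩ U₁ = ⟨r⟩`
  have hWU : ∀ x ∈ W, x ∈ U₁ → x = 1 ∨ x = r := by
    rcases hW.irr r hW.mem hr1 (W ⊓ U₁) inf_le_left ⟨hW.mem, hrU₁⟩ (by
      rintro c hc hcr a ⟨ha, ha'⟩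
      exact ⟨hKW c hcr (hMC c hc hcr) a ha, conj_mem_of_normalizer (hnU₁ (hMC c hc hcr)) ha'⟩) with h5 | h5
    · exact fun x hx hx' => h5 x ⟨hx, hx'⟩
    · exact absurd (hUcm₁ _ hpU₁ _ (h5 hw₂).2) hne
  have hact : ∀ t ∈ W, ∀ n ∈ U₁, t * n * t⁻¹ = n ∨ t * n * t⁻¹ = n * r := by
    intro t ht n hn
    have h5 : t * n * t⁻¹ ∈ U₁ := conj_mem_of_normalizer (hnU₁ (hWC₁ t ht)) hn
    have h6 : n * t⁻¹ * n⁻¹ ∈ W := hKW n (hU₁r n hn) (hU₁C n hn) _ (inv_mem ht)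
    have h7 : t * n * t⁻¹ * n⁻¹ ∈ W := by
      have e : t * n * t⁻¹ * n⁻¹ = t * (n * t⁻¹ * n⁻¹) := by group
      rw [e]; exact mul_mem ht h6
    rcases hWU _ h7 (mul_mem h5 (inv_mem hn)) with h8 | h8
    · left; exact mul_inv_eq_one.1 h8
    · right
      rw [mul_inv_eq_iff_eq_mul] at h8
      rw [h8]
      exact hUcm₁ r hrU₁ n hn
  have hcen : ∀ x ∈ W, (∀ n ∈ U₁, x * n * x⁻¹ = n) → x = 1 ∨ x = r := by
    rcases hW.irr r hW.mem hr1 (W ⊓ centralizer (U₁ : Set G)) inf_le_left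
        ⟨hW.mem, mem_centralizer_iff.2 fun n hn => hU₁r n hn⟩ (by
      rintro c hc hcr a ⟨ha, ha'⟩
      exact ⟨hKW c hcr (hMC c hc hcr) a ha, conj_mem_of_normalizer
        (normalizer_le_normalizer_centralizer _ (hnU₁ (hMC c hc hcr))) ha'⟩) with h5 | h5
    · intro x hx hx'
      exact h5 x ⟨hx, mem_centralizer_iff.2 fun n hn => (mul_inv_eq_iff_eq_mul.1 (hx' n hn)).symm⟩
    · exact absurd (mem_centralizer_iff.1 (h5 hw₂).2 _ hpU₁) hne
  have hmv : ∀ x ∈ W, (x ≠ 1 ∧ x ≠ r) → ∃ n ∈ U₁, x * n * x⁻¹ ≠ n := by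
    rintro x hx ⟨hx1, hx2⟩
    by_contra hcon
    push Not at hcon
    rcases hcen x hx hcon with h5 | h5
    · exact hx1 h5
    · exact hx2 h5
  -- `W₁`
  obtain ⟨a, ha, c, hc, hna, hnc, hnac⟩ := natC_two hW hr2
  obtain ⟨W₁, hW₁, -⟩ := natC_of' hsys
    (hWC₁ a ha) (hWC₁ c hc) (hact a ha) (hact c hc) (hmv a ha hna) (hmv c hc hnc)
    (hmv _ (mul_mem ha hc) hnac)
  have hπW₁ : c₂ * r * c₂⁻¹ ∈ W₁ := by
    refine hW₁.adj r hW₁.mem hr1 w₂ (hWC₁ w₂ hw₂) (hact w₂ hw₂) c₂ (mem_C.2 hc₂) ?_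
    intro e
    exact hne (mul_inv_eq_iff_eq_mul.1 e).symm
  have hW₁U : W₁ ≤ U₁ := hW₁.W_le
  have hW₁N : W₁ ≤ normalizer (R o : Set G) := fun x hx => (hNr x).2 (hU₁r x (hW₁U hx))
  -- `K` normalises `W₁`
  have hKW₁ : ∀ c ∈ C₁, c * r = r * c → ∀ x ∈ W₁, c * x * c⁻¹ ∈ W₁ := by
    intro c hc hcr
    refine hW₁.blk c hc r hW₁.mem hr1 ?_
    rw [hcr, mul_inv_cancel_right]
    exact hW₁.mem
  -- (5)
  have hW₁Q : W₁ ≤ QQ (R o) := by
    rcases hW₁.irr r hW₁.mem hr1 (W₁ ⊓ QQ (R o)) inf_le_left ⟨hW₁.mem, ZQ_le o hrQ⟩ (by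
      rintro c hc hcr x ⟨hx, hx'⟩
      exact ⟨hKW₁ c hc hcr x hx, conj_mem_of_normalizer (le_normalizer_O2 _ ((hNr c).2 hcr)) hx'⟩) with h5 | h5
    · refine le_Q_of_comm b hr hW₁N fun w hw q hq => ?_
      have h6 : w * q * w⁻¹ ∈ QQ (R o) := conj_mem_of_normalizer (le_normalizer_O2 _ (hW₁N hw)) hq
      have hqr : q * r = r * q := ZQ_comm hrQ hq
      have h7 : q * w⁻¹ * q⁻¹ ∈ W₁ := hKW₁ q (hQy q hq) hqr _ (inv_mem hw)
      have h8 : w * q * w⁻¹ * q⁻¹ ∈ W₁ := by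
        have e : w * q * w⁻¹ * q⁻¹ = w * (q * w⁻¹ * q⁻¹) := by group
        rw [e]; exact mul_mem hw h7
      exact (hr _).2 (h5 _ ⟨h8, (QQ (R o)).mul_mem h6 ((QQ (R o)).inv_mem hq)⟩)
    · exact h5.trans inf_le_right
  -- (6)
  have hW₁V : ∃ x ∈ W₁, x ∉ centralizer (V : Set G) := by
    by_contra hcon
    push Not at hcon
    rcases hW.irr r hW.mem hr1 (W ⊓ centralizer (W₁ : Set G)) inf_le_left
        ⟨hW.mem, mem_centralizer_iff.2 fun n hn => hU₁r n (hW₁U hn)⟩ (by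
      rintro c hc hcr a ⟨ha, ha'⟩
      refine ⟨hKW c hcr (hMC c hc hcr) a ha, mem_centralizer_iff.2 fun x hx => ?_⟩
      have hci : c⁻¹ * r = r * c⁻¹ := by
        rw [inv_mul_eq_iff_eq_mul, ← mul_assoc, hcr, mul_inv_cancel_right]
      have h1 := hKW₁ c⁻¹ (inv_mem (hMC c hc hcr)) hci x hx
      rw [inv_inv] at h1
      have h2 := mem_centralizer_iff.1 ha' _ h1
      calc x * (c * a * c⁻¹) = c * ((c⁻¹ * x * c) * a) * c⁻¹ := by group
        _ = c * (a * (c⁻¹ * x * c)) * c⁻¹ := by rw [h2]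
        _ = c * a * c⁻¹ * x := by group) with h5 | h5
    · -- `V ≤ {1, r}`
      obtain ⟨j, -, hj, -, -⟩ := b.one_lt
      obtain ⟨e, he, he1⟩ := b.exists_ne j
      have heV := b.R_le j he
      have h6 : e ∈ centralizer (W₁ : Set G) := mem_centralizer_iff.2 fun x hx =>
        (mem_centralizer_iff.1 (hcon x hx) e heV).symm
      rcases h5 e ⟨hVW heV, h6⟩ with h7 | h7
      · exact he1 h7
      · apply he1
        refine b.eq_one (Ne.symm hj) ?_ he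
        rw [h7]; exact hrR
    · exact hne (mem_centralizer_iff.1 (h5 hw₂).2 _ hπW₁)
  obtain ⟨x, hx, hxV⟩ := hW₁V
  obtain ⟨j, -, hj, -, -⟩ := b.one_lt
  have hW₁Z : ∀ x ∈ W₁, x ∈ ZQ R o → x ∈ R o := by
    rcases hW₁.irr r hW₁.mem hr1 (W₁ ⊓ ZQ R o) inf_le_left ⟨hW₁.mem, hrQ⟩ (by
      rintro c hc hcr x ⟨hx, hx'⟩
      exact ⟨hKW₁ c hc hcr x hx, conj_mem_of_normalizer (N_le_NZQ o ((hNr c).2 hcr)) hx'⟩) with h5 | h5
    · exact fun x hx hx' => (hr x).2 (h5 x ⟨hx, hx'⟩)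
    · exact absurd (ZQ_le_cen b.toBT o (h5 hx).2) hxV
  refine lemX_false bs hLE (Ne.symm hj) (fun x hx => (hr x).1 hx) hW₁Q
    (fun a ha c hc => hUcm₁ a (hW₁U ha) c (hW₁U hc)) (j := j) ?_ hx hxV hW₁Z hzX hz1
  intro e he x hx
  have her : e * r = r * e := (mem_centralizer_iff.1 (EE_le_cen j he) r (b.R_le o hrR)).symm
  have hez : e ∈ centralizer ({z} : Set G) := mem_C.2 (cenX_Q bs (hLE j) hzX (EE_le_Q j he)).symm
  exact hKW₁ e ((hCzy e her).1 hez) her x hx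

/-- **#15368**, `|T| ≥ 4` -/
theorem not_alpha_aux (hLE : ∀ i, LE V R i) {z : G} (hz : z ∈ zc S ⊓ centralizer (P : Set G)) (hz1 : z ≠ 1)
    (hsysM : GSysW (MP V R o z) (cl (R o) (MP V R o z)) r)
    (hY : ∃ Y ≤ centralizer ({z * r} : Set G), GSysW (centralizer ({z * r} : Set G)) Y r) :
    ¬ UM V (MP V R o z) ≤ QQ (R o) := by
  intro hα
  have bs := b.toBTS
  have d := b.dt hz hz1
  have hr1 := r_ne b hr
  have hr2 := r_sq b hr
  have hrR := r_mem b hr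
  have hNr := fun g => mem_N_iff b hr (g := g)
  obtain ⟨M, hM⟩ : ∃ M, M = MP V R o z := ⟨_, rfl⟩
  have hMz : M ≤ centralizer ({z} : Set G) := by rw [hM]; exact MP_le b hr hz hz1
  have hKM : normalizer (R o : Set G) ⊓ centralizer ({z} : Set G) ≤ M := by rw [hM]; exact le_sup_left
  have hXM : XX V R ≤ M := by rw [hM]; exact le_sup_right
  have hz2 : z * z = 1 := by rw [← pow_two]; exact (mem_zc.1 hz.1).2.2
  have hSz : ∀ s ∈ S, s * z = z * s := (mem_zc.1 hz.1).2.1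
  have hSr : ∀ s ∈ S, s * r = r * s := fun s hs => (hNr s).1 (b.S_R hs)
  have hzX : z ∈ CenX V R := b.cz_le hz
  have hzQ : z ∈ ZQ R o := cenX_le_ZQ bs hLE o hzX
  have hrQ : r ∈ ZQ R o := R_le_ZQ b.toBT o hrR
  have hQz : ∀ q ∈ QQ (R o), q ∈ centralizer ({z} : Set G) := fun q hq => mem_C.2 (ZQ_comm hzQ hq)
  have hQM : ∀ q ∈ QQ (R o), q ∈ M := fun q hq => hKM ⟨b.Q_le o hq, hQz q hq⟩
  have hSM : S ≤ M := fun s hs => hKM ⟨b.S_R hs, mem_C.2 (hSz s hs)⟩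
  rw [← hM] at hα hsysM
  obtain ⟨a, ha, c, hc, hna, hnc, hnac⟩ := alpha_two b hLE hz hz1 hKM hα
  have hUeq : cl (R o) M = UM V M := b.cl_R_eq (b.trans_of_X hXM)
  rw [← hUeq] at hα hna hnc hnac
  have hUz := cl_le_zc b hr hz hz1
  have hUle : cl (R o) M ≤ cl (R o) (centralizer ({z} : Set G)) := iSup_le fun m => cj_le_cl (hMz m.2)
  set Uf := cl (R o) (centralizer ({z} : Set G)) with hUf
  have hUfcm : ∀ x ∈ Uf, ∀ y ∈ Uf, x * y = y * x := fun x hx y hy =>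
    (mem_zc.1 (hUz hy)).2.1 x (zc_le _ (hUz hx))
  set U := cl (R o) M with hU
  have hUsq : ∀ x ∈ U, x * x = 1 := fun x hx => by
    rw [← pow_two]; exact (mem_zc.1 (hUz (hUle hx))).2.2
  -- `Q o` acts on `U` as transvections
  have hQU : ∀ q ∈ QQ (R o), ∀ n ∈ U, q * n * q⁻¹ = n ∨ q * n * q⁻¹ = n * r := by
    intro q hq n hn
    have h5 := Q_comm bs (hLE o) hq (hα hn)
    rcases (hr _).1 h5 with h6 | h6
    · left; exact mul_inv_eq_one.1 h6
    · right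
      rw [mul_inv_eq_iff_eq_mul] at h6
      rw [h6]
      exact (b.QR o n (hα hn) r hrR).symm
  have hmv : ∀ q : G, q ∉ centralizer (U : Set G) → ∃ n ∈ U, q * n * q⁻¹ ≠ n := by
    intro q hq
    by_contra hcon
    push Not at hcon
    exact hq (mem_centralizer_iff.2 fun n hn => (mul_inv_eq_iff_eq_mul.1 (hcon n hn)).symm)
  obtain ⟨W, hW, -⟩ := natC_of' hsysM (hQM a ha)
    (hQM c hc) (hQU a ha) (hQU c hc) (hmv a hna) (hmv c hnc) (hmv _ hnac)
  have hWU : W ≤ U := hW.W_le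
  have hWQ : W ≤ QQ (R o) := hWU.trans hα
  -- `V ≤ W`
  have hVW : V ≤ W := by
    obtain ⟨t, ht, v, hv, hne⟩ := exists_mv b hr
    have hv1 : v ≠ 1 := by
      rintro rfl
      exact hne (by rw [mul_one, one_mul])
    obtain ⟨c, hc, e⟩ := exists_conj_X b hr hv hv1
    have h1 := hW.adj r hW.mem hr1 t (hQM t ht) (hQU t ht) c (hXM hc) (by
      rw [e]
      intro h
      exact hne (mul_inv_eq_iff_eq_mul.1 h))
    rw [e] at h1
    have h2 := cj_V_le b hr (k := 1) (one_mem _) hW.mem (v := v) (by rw [cj_one]; exact hv) (by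
      intro hvo
      apply hne
      have h3 := ((hr v).1 hvo).resolve_left hv1
      rw [h3]
      exact b.QR o t ht r hrR) h1
    rwa [cj_one] at h2
  have hKW : ∀ c : G, c * r = r * c → c * z = z * c → ∀ x ∈ W, c * x * c⁻¹ ∈ W := by
    intro c hcr hc
    refine hW.blk c (hKM ⟨(hNr c).2 hcr, mem_C.2 hc⟩) r hW.mem hr1 ?_
    rw [hcr, mul_inv_cancel_right]
    exact hW.mem
  -- `V^h`
  obtain ⟨h, hh, a₀, ha₀, c₀, hc₀, hne₀⟩ := exists_h b hr
  have hhr : h * r = r * h := (hNr h).1 hh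
  have hhr' : h⁻¹ * r = r * h⁻¹ := (hNr h⁻¹).1 (inv_mem hh)
  obtain ⟨y, hy⟩ : ∃ y, y = h * z * h⁻¹ := ⟨_, rfl⟩
  have hzy : z = h⁻¹ * y * h := by rw [hy]; group
  have hyQ : y ∈ ZQ R o := by rw [hy]; exact conj_mem_of_normalizer (N_le_NZQ o hh) hzQ
  have hyy : y * y = 1 := by
    rw [hy]
    calc h * z * h⁻¹ * (h * z * h⁻¹) = h * (z * z) * h⁻¹ := by group
      _ = 1 := by rw [hz2, mul_one, mul_inv_cancel]
  have hcV : c₀ ∉ centralizer (V : Set G) := fun hc => hne₀ (mem_centralizer_iff.1 hc a₀ ha₀)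
  have hW'n : ∀ c : G, c * y = y * c → c * r = r * c → ∀ x ∈ cj h W, c * x * c⁻¹ ∈ cj h W := by
    rintro c hcy hcr _ ⟨x, hx, rfl⟩
    change c * (h * x * h⁻¹) * c⁻¹ ∈ cj h W
    have h1 : (h⁻¹ * c * h) * z = z * (h⁻¹ * c * h) := by
      rw [hzy]
      calc h⁻¹ * c * h * (h⁻¹ * y * h) = h⁻¹ * (c * y) * h := by group
        _ = h⁻¹ * (y * c) * h := by rw [hcy]
        _ = _ := by group
    have h2 : (h⁻¹ * c * h) * r = r * (h⁻¹ * c * h) := by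
      calc h⁻¹ * c * h * r = h⁻¹ * c * (h * r) := by group
        _ = h⁻¹ * (c * r) * h := by rw [hhr]; group
        _ = (h⁻¹ * r) * c * h := by rw [hcr]; group
        _ = r * (h⁻¹ * c * h) := by rw [hhr']; group
    have h3 := hKW _ h2 h1 x hx
    have e : c * (h * x * h⁻¹) * c⁻¹ = h * (h⁻¹ * c * h * x * (h⁻¹ * c * h)⁻¹) * h⁻¹ := by group
    rw [e]
    exact conj_mem_cj h3
  have hW'Q : cj h W ≤ QQ (R o) := by
    have h1 := cj_mono (g := h) hWQ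
    rwa [cj_eq_self_iff.2 (le_normalizer_O2 _ hh)] at h1
  have hW'sq : ∀ x ∈ cj h W, x * x = 1 := by
    rintro _ ⟨x, hx, rfl⟩
    change h * x * h⁻¹ * (h * x * h⁻¹) = 1
    calc h * x * h⁻¹ * (h * x * h⁻¹) = h * (x * x) * h⁻¹ := by group
      _ = 1 := by rw [hW.sq x hx, mul_one, mul_inv_cancel]
  obtain ⟨j, -, hj, -, -⟩ := b.one_lt
  rcases four' bs hj hr hyy hyQ hW'Q hW'sq hW'n (by
    rintro _ ⟨w, hw, rfl⟩ hw1
    change h * w * h⁻¹ ≠ 1 at hw1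
    have hw1' : w ≠ 1 := fun e => hw1 (by rw [e, mul_one, mul_inv_cancel])
    obtain ⟨k, hk, e⟩ := hW.pt w hw hw1'
    have hkz := mem_C.1 (hMz hk)
    refine ⟨h * k * h⁻¹, ?_, ?_, ?_⟩
    · rw [hy]
      calc h * k * h⁻¹ * (h * z * h⁻¹) = h * (k * z) * h⁻¹ := by group
        _ = h * (z * k) * h⁻¹ := by rw [hkz]
        _ = _ := by group
    · change _ = h * w * h⁻¹
      calc h * k * h⁻¹ * r * (h * k * h⁻¹)⁻¹ = h * k * (h⁻¹ * r) * h * k⁻¹ * h⁻¹ := by group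
        _ = h * (k * r * k⁻¹) * h⁻¹ := by rw [hhr']; group
        _ = h * w * h⁻¹ := by rw [e]
    · rintro _ ⟨x, hx, rfl⟩
      change (h * k * h⁻¹)⁻¹ * (h * x * h⁻¹) * (h * k * h⁻¹) ∈ cj h W
      have h1 := hW.blk k⁻¹ (inv_mem hk) w hw hw1' (by
        rw [← e]
        have e2 : k⁻¹ * (k * r * k⁻¹) * k⁻¹⁻¹ = r := by group
        rw [e2]; exact hW.mem) x hx
      have e2 : (h * k * h⁻¹)⁻¹ * (h * x * h⁻¹) * (h * k * h⁻¹) = h * (k⁻¹ * x * k⁻¹⁻¹) * h⁻¹ := by group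
      rw [e2]
      exact conj_mem_cj h1) (cj_mono hVW hc₀) hcV with ⟨a, ha, hX⟩ | ⟨w₁, hw₁, c₁, hc₁, hne₁⟩
  · rcases (hr a).1 ha with rfl | rfl
    · -- `y ∈ C_X`
      rw [one_mul] at hX
      have e1 : cl (R o) (centralizer ({y} : Set G)) = cj h Uf := by
        rw [hUf, AlphaFive.cj_cl, AlphaFive.cj_C, ← hy, cj_eq_self_iff.2 hh]
      have h1 : V ≤ cj h Uf := by
        rw [← e1]
        have := cj_le_cl_of b hr (k := 1) (y := y) (one_mem _) (by rw [cj_one]; exact hX)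
        rwa [cj_one] at this
      have h2 : cj h V ≤ cj h Uf := by
        apply cj_mono
        have := cj_le_cl_of b hr (k := 1) (y := z) (one_mem _) (by rw [cj_one]; exact hzX)
        rwa [cj_one] at this
      apply hne₀
      obtain ⟨x, hx, e3⟩ := h1 ha₀
      obtain ⟨x', hx', e4⟩ := h2 hc₀
      rw [← e3, ← e4]
      change h * x * h⁻¹ * (h * x' * h⁻¹) = h * x' * h⁻¹ * (h * x * h⁻¹)
      calc h * x * h⁻¹ * (h * x' * h⁻¹) = h * (x * x') * h⁻¹ := by group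
        _ = h * (x' * x) * h⁻¹ := by rw [hUfcm x hx x' hx']
        _ = _ := by group
    · -- `r y ∈ C_X`
      refine lemX_false bs hLE (Ne.symm hj) (fun x hx => (hr x).1 hx) hW'Q
        (fun a ha c hc => Omega.TV.EA.comm_of hW'sq ha hc) (j := j) ?_ (cj_mono hVW hc₀) hcV ?_ hzX hz1
      · intro e he
        have her : e * a = a * e := (mem_centralizer_iff.1 (EE_le_cen j he) a (b.R_le o hrR)).symm
        refine hW'n e ?_ her
        have h1 : a * y * e = e * (a * y) := cenX_Q bs (hLE j) hX (EE_le_Q j he)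
        have h2 : a * (y * e) = a * (e * y) := by
          rw [← mul_assoc, h1, ← mul_assoc, her, mul_assoc]
        exact (mul_left_cancel h2).symm
      · have h0 : ∀ x ∈ W, x ∈ ZQ R o → x = 1 ∨ x = a := by
          rcases hW.irr a hW.mem hr1 (W ⊓ ZQ R o) inf_le_left ⟨hW.mem, hrQ⟩ (by
            rintro c hc hcr x ⟨hx, hx'⟩
            exact ⟨hKW c hcr (mem_C.1 (hMz hc)) x hx,
              conj_mem_of_normalizer (N_le_NZQ o ((hNr c).2 hcr)) hx'⟩) with h5 | h5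
          · exact fun x hx hx' => h5 x ⟨hx, hx'⟩
          · exfalso
            obtain ⟨t, ht, v, hv, hne⟩ := exists_mv b hr
            exact hne (ZQ_comm (h5 (hVW hv)).2 ht)
        rintro _ ⟨x, hx, rfl⟩ hxZ
        change h * x * h⁻¹ ∈ ZQ R o at hxZ
        change h * x * h⁻¹ ∈ R o
        have h1 : x ∈ ZQ R o := by
          have h2 := conj_inv_mem_of_normalizer (N_le_NZQ o hh) hxZ
          have e : h⁻¹ * (h * x * h⁻¹) * h = x := by group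
          rwa [e] at h2
        exact conj_mem_of_normalizer hh ((hr x).2 (h0 x hx h1))
  · -- conjugate back
    obtain ⟨w₂, hw₂, rfl⟩ := hw₁
    change c₁ * r * c₁⁻¹ * (h * w₂ * h⁻¹) ≠ h * w₂ * h⁻¹ * (c₁ * r * c₁⁻¹) at hne₁
    rw [hM] at hW
    obtain ⟨Y, hYle, hYs⟩ := hY
    refine part_B b hr hLE hz hz1 hW hWQ hVW hYle hYs (w₂ := w₂) (c₂ := h⁻¹ * c₁ * h) hw₂ ?_ ?_
    · have e : z * r = h⁻¹ * (y * r) * h := by
        rw [hzy]
        calc h⁻¹ * y * h * r = h⁻¹ * y * (h * r) := by group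
          _ = h⁻¹ * (y * r) * h := by rw [hhr]; group
      rw [e]
      calc h⁻¹ * c₁ * h * (h⁻¹ * (y * r) * h) = h⁻¹ * (c₁ * (y * r)) * h := by group
        _ = h⁻¹ * (y * r * c₁) * h := by rw [hc₁]
        _ = _ := by group
    · intro e
      apply hne₁
      have e1 : h⁻¹ * c₁ * h * r * (h⁻¹ * c₁ * h)⁻¹ = h⁻¹ * (c₁ * r * c₁⁻¹) * h := by
        calc h⁻¹ * c₁ * h * r * (h⁻¹ * c₁ * h)⁻¹ = h⁻¹ * c₁ * (h * r) * h⁻¹ * c₁⁻¹ * h := by group
          _ = _ := by rw [hhr]; group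
      rw [e1] at e
      calc c₁ * r * c₁⁻¹ * (h * w₂ * h⁻¹) = h * (h⁻¹ * (c₁ * r * c₁⁻¹) * h * w₂) * h⁻¹ := by group
        _ = h * (w₂ * (h⁻¹ * (c₁ * r * c₁⁻¹) * h)) * h⁻¹ := by rw [e]
        _ = _ := by group

end two

/-- **(α) is dead for the small group `M' = ⟨C_{H₁}(z), X⟩`**, over `S` -/
theorem not_alpha' {G : Type u} [Group G] [Finite G] {ι : Type*} {S P V : Subgroup G}
    {R : ι → Subgroup G} {o : ι} (b : HTT S P V R o) (hLE : ∀ i, LE V R i) {r : G}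
    (hr : ∀ x, x ∈ R o ↔ x = 1 ∨ x = r) {z : G}
    (hz : z ∈ zc S ⊓ centralizer (P : Set G)) (hz1 : z ≠ 1)
    (hsysM : GSysW (MP V R o z) (cl (R o) (MP V R o z)) r)
    (hY : ∃ Y ≤ centralizer ({z * r} : Set G), GSysW (centralizer ({z * r} : Set G)) Y r) :
    ¬ UM V (MP V R o z) ≤ QQ (R o) :=
  not_alpha_aux b hr hLE hz hz1 hsysM hY

/-- the module `Y = ⟨r^{C(y)}⟩`, if `S` is a Sylow group of `C(y)`, `y = z r` -/
theorem exists_Y_of_odd {G : Type u} [Group G] [Finite G] {ι : Type*} {S P V : Subgroup G}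
    {R : ι → Subgroup G} {o : ι} (b : HTT S P V R o) {r : G}
    (hr : ∀ x, x ∈ R o ↔ x = 1 ∨ x = r) {y : G} (hyy : y * y = 1) (hy1 : y ≠ 1)
    (hSy : ∀ s ∈ S, s * y = y * s) (hodd : ¬ 2 ∣ S.relIndex (centralizer ({y} : Set G))) :
    ∃ Y ≤ centralizer ({y} : Set G), GSysW (centralizer ({y} : Set G)) Y r := by
  obtain ⟨C, hC⟩ : ∃ C, C = centralizer ({y} : Set G) := ⟨_, rfl⟩
  have hSC : S ≤ C := by rw [hC]; exact fun s hs => mem_C.2 (hSy s hs)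
  have hloc : TLoc S C := by rw [hC]; exact TLoc.centralizer (by rw [pow_two]; exact hyy) hy1 (hC ▸ hSC)
  rw [← hC] at hodd ⊢
  have hoS : o2 C ≤ S := o2_le_of_sylow b.S_p hodd
  have hSr : ∀ s ∈ S, s * r = r * s := fun s hs => (mem_N_iff b hr).1 (b.S_R hs)
  have h1 : cl (R o) C ≤ zc (o2 C) := by
    refine cl_le ?_ ((Cfsg.Agent.ZN.le_normalizer_o2 _).trans (ZN.normalizer_le_normalizer_zc _))
    intro x hx
    have hxS : ∀ s ∈ S, s * x = x * s := by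
      intro s hs
      rcases (hr x).1 hx with rfl | rfl
      · rw [mul_one, one_mul]
      · exact hSr s hs
    have h2 : x ∈ centralizer (o2 C : Set G) := mem_centralizer_iff.2 fun s hs => hxS s (hoS hs)
    have h3 : x ∈ o2 C := hloc.char2 b.char2 ⟨hSC (b.V_le_S (b.R_le o hx)), h2⟩
    exact ZN.mem_zc.2 ⟨h3, fun c hc => mem_centralizer_iff.1 h2 c hc, by rw [pow_two]; exact b.V_sq x (b.R_le o hx)⟩
  have hsq : ∀ x ∈ cl (R o) C, x * x = 1 := fun x hx => by rw [← pow_two]; exact (ZN.mem_zc.1 (h1 hx)).2.2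
  have hnor : ∀ c ∈ C, ∀ n ∈ cl (R o) C, c * n * c⁻¹ ∈ cl (R o) C := fun c hc n hn =>
    conj_mem_of_normalizer (le_normalizer_cl _ _ hc) hn
  refine ⟨cl (R o) C, h1.trans ((ZN.zc_le _).trans (ZN.o2_le _)), hsq, hnor, le_cl _ _ (r_mem b hr), r_ne b hr, ?_⟩
  intro U hU hCU c hc h2 h3
  refine chain_of_core hsq hnor (core_of_T hSC b.S_p hodd ?_) hU hCU hc h2 h3
  intro s hs
  rw [mem_centralizer_iff]
  intro x hx
  rcases (hr x).1 hx with rfl | rfl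
  · rw [mul_one, one_mul]
  · exact (hSr s hs).symm

end Cfsg.Agent.Omega.HT.AlphaP
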