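import Cfsg.Agent.Omega.HT.Main
import Cfsg.Agent.Omega.HT.AlphaP

/-!
# II.0h1, `q = 2`, over a 2-group `S`: `HT/Main` with `HT/AlphaP` inserted

`main_core` : the instance has to give, for the element `c ∈ Z₀` with `Sig V R o c`, an element `z ∈ Z₀#`, `c = 1` or
`c = z`, with `Core V R o r z` (`O₂(M_z / C(U_z)) = 1`) and a module `Y` for `C(z r)`.
-/

set_option autoImplicit false
set_option linter.unusedSectionVars false

namespace Cfsg.Agent.Omega.HT.Main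

open Subgroup Cfsg Cfsg.Agent.ZN Cfsg.Agent.Omega.BTwo Cfsg.Agent.Omega.HT Cfsg.Agent.Omega.HT.EntryTv
open Cfsg.Agent.Omega.HT.EntryTs Cfsg.Agent.Omega.HOneTwo
open Cfsg.Agent.Omega.HTwo.Hat Cfsg.Agent.Omega.HTwo.ThmA Cfsg.Agent.Omega.MinPar
open Cfsg.Agent.Omega.HOne.TvDef
open Cfsg.Agent.Omega.HTwo.EntryTv (QF NF ME QF_conj NF_conj NF_base NF_gen cen_zpowers ME_z)
open Cfsg.Agent.Omega.HTwo.AlphaP (MP)
open Cfsg.Agent.Omega.HT.TComp (GSysW)

universe u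

variable {G : Type u} [Group G] [Finite G] {ι : Type*} {S P V : Subgroup G}
  {R : ι → Subgroup G} {o : ι}

/-- `GSysW` for `M_z` from `Core` -/
theorem gsys_of_core (b : HTT S P V R o) {r z : G} (hr : ∀ x, x ∈ R o ↔ x = 1 ∨ x = r)
    (hz : z ∈ zc S ⊓ centralizer (P : Set G)) (hz1 : z ≠ 1) (h : Core V R o r z) :
    GSysW (MP V R o z) (cl (R o) (MP V R o z)) r := by
  have hr1 : r ≠ 1 := Two.r_ne b hr
  have hE : zpowers z ≤ zc S ⊓ centralizer (P : Set G) := zpowers_le_cz hz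
  have hE1 : zpowers z ≠ ⊥ := fun h => hz1 (zpowers_eq_bot.1 h)
  have hUU : UU (ME V R o (zpowers z)) r = cl (R o) (MP V R o z) := by
    rw [UU_eq b hr hr1 hE (X_le_ME b), ME_z, b.cl_R_eq (b.trans_of_X ?_)]
    rw [← ME_z]; exact X_le_ME b
  rw [← hUU]
  have eM : MP V R o z = ME V R o (zpowers z) := (ME_z V R o z).symm
  rw [eM]
  have sq : ∀ x ∈ UU (ME V R o (zpowers z)) r, x * x = 1 := fun x hx => UU_sq b hr hr1 hE hE1 hx
  have nor : ∀ c ∈ ME V R o (zpowers z), ∀ n ∈ UU (ME V R o (zpowers z)) r,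
      c * n * c⁻¹ ∈ UU (ME V R o (zpowers z)) r := fun c hc n hn => M_norm_UU b hr hr1 hE hc hn
  exact
    { sq := sq
      nor := nor
      mem := Om_le_UU Om_base
      ne := hr1
      chain := fun U hU hCU c hc h1 h2 =>
        HT.TComp.chain_of_core sq nor (fun B hB hn h2 b' hb n hn' =>
          h B hB hn (fun x hx u hu => h2 x hx u hu) b' hb n hn') hU hCU hc h1 h2 }

/-- **AlphaP over `S`** -/
theorem not_alpha (b : HTT S P V R o) (hLE : ∀ i, LE V R i) {r z : G} (hr : ∀ x, x ∈ R o ↔ x = 1 ∨ x = r)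
    (hz : z ∈ zc S ⊓ centralizer (P : Set G)) (hz1 : z ≠ 1) (h : Core V R o r z)
    (hY : ∃ Y ≤ centralizer ({z * r} : Set G), GSysW (centralizer ({z * r} : Set G)) Y r) :
    ¬ UM V (MP V R o z) ≤ QQ (R o) :=
  AlphaP.not_alpha' b hLE hr hz hz1 (gsys_of_core b hr hz hz1 h) hY

/-- **the end of II.0h1, `q = 2`, over a 2-group**, with AlphaP inserted -/
theorem main_core (b : HTT S P V R o) (hLE : ∀ i, LE V R i) {r : G} (hr : ∀ x, x ∈ R o ↔ x = 1 ∨ x = r)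
    (hodd : ¬ 2 ∣ S.relIndex (JunAB.MZ S V R))
    (hz : ∀ c ∈ zc S ⊓ centralizer (P : Set G), Sig V R o c →
      ∃ z ∈ zc S ⊓ centralizer (P : Set G), z ≠ 1 ∧ (c = 1 ∨ c = z) ∧ Core V R o r z ∧
        ∃ Y ≤ centralizer ({z * r} : Set G), GSysW (centralizer ({z * r} : Set G)) Y r) :
    ∀ x ∈ zc S ⊓ centralizer (P : Set G), ∀ y ∈ zc S ⊓ centralizer (P : Set G), x ≠ 1 → y ≠ 1 → x = y := by
  refine main b hLE hr hodd fun _ c hc hs => ?_
  obtain ⟨z, hz, hz1, hcz, hcore, hY⟩ := hz c hc hs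
  exact ⟨z, hz, hz1, hcz, hcore, not_alpha b hLE hr hz hz1 hcore hY⟩

/-- `Core` if `S` has odd index in `M_z` -/
theorem core_of_odd (b : HTT S P V R o) {r z : G} (hr : ∀ x, x ∈ R o ↔ x = 1 ∨ x = r)
    (hz : z ∈ zc S ⊓ centralizer (P : Set G)) (hz1 : z ≠ 1) (hodd : ¬ 2 ∣ S.relIndex (MP V R o z)) :
    Core V R o r z := by
  have hr1 : r ≠ 1 := Two.r_ne b hr
  rw [← ME_z] at hodd
  exact fun B hB hn h2 => o2 b hr hr1 (zpowers_le_cz hz) (fun h => hz1 (zpowers_eq_bot.1 h)) hodd B hB hn h2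

end Cfsg.Agent.Omega.HT.Main
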