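import Cfsg.Agent.Omega.HT.Basic
import Cfsg.Agent.Omega.HOneTwo.Dich

/-!
# `HTT`: the frame `BTS` and the data `Dt` for `z ∈ C_Z(P)`
-/

set_option autoImplicit false
set_option linter.unusedSectionVars false

namespace Cfsg.Agent.Omega.HT

open Subgroup Cfsg Cfsg.Agent.ZN Cfsg.Agent.MinSimple.VModule Cfsg.Agent.Omega.BTwo
open Cfsg.Agent.Omega.MinPar Cfsg.Agent.Omega.HOneTwo

universe u

variable {G : Type u} [Group G] {ι : Type*}

variable [Finite G] {S P V : Subgroup G} {R : ι → Subgroup G} {o : ι} (b : HTT S P V R o)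
include b

theorem HTT.toBTS : BTS V R where
  toBT := b.toBT
  nonloc := fun i T hT _ _ h1 h2 => b.nonloc i T hT (b.P_V.trans h1) h2
  cenQ := b.cenQ

theorem HTT.dt {z : G} (hz : z ∈ zc S ⊓ centralizer (P : Set G)) (hz1 : z ≠ 1) :
    Dt V R z (centralizer ({z} : Set G)) where
  M_eq := rfl
  X_M := b.X_le_cen hz
  V_M := b.V_le_zc_o2 (b.isLoc_cen hz.1 hz1) (b.X_le_cen hz)
  z_Q := by
    intro i
    obtain ⟨x, hx, e⟩ := b.trans_X_one o i
    have h1 := b.zc_le_zc_Q hz.1
    have h2 : x * z * x⁻¹ = z := by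
      rw [mem_centralizer_iff.1 (b.cz_le hz) x hx, mul_inv_cancel_right]
    have h3 : cj x (zc (QQ (R o))) = zc (QQ (R i)) := by
      rw [← b.cj_QQ e]
      exact (zc_map (MulAut.conj x).toMonoidHom (MulAut.conj x).injective _).symm
    rw [← h3, ← h2]
    exact conj_mem_cj h1

end Cfsg.Agent.Omega.HT
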