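import Cfsg.Agent.Omega.HOne.JunIrr

/-!
# LEMMA T with all transvections, over a 2-group `T` of odd index in `C`

* `chain_of_sylow`, `gsys_of_sylow`, `natC_full_of_sylow` : `T : Subgroup G` a 2-group of odd index in `C`;
* `natC_full_of_gsys` : from `GSys C N r` only.
-/

set_option autoImplicit false

namespace Cfsg.Agent.Omega.HT.JunIrr

open Subgroup Cfsg.Agent.MinSimple Cfsg.Agent.MinSimple.Basic Cfsg.Agent.Omega.BTwo Cfsg.Agent.Omega.HOneTwo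
open Cfsg.Agent.Omega.HTwo.TComp Cfsg.Agent.Omega.HOne.JunIrr Cfsg.Agent.Omega.TV
open Cfsg.Agent.ZN

variable {G : Type*} [Group G]

/-- the group acting trivially on `U` and `N / U` acts trivially on `N = ⟨A^C⟩` -/
theorem chain_of_sylow [Finite G] {T C A : Subgroup G} (hTp : IsPGroup 2 T)
    (hTo : ¬ 2 ∣ T.relIndex C) (hTC : T ≤ C)
    (hA : T ≤ centralizer (A : Set G)) (sq : ∀ x ∈ cl A C, x * x = 1) {U : Subgroup G}
    (hU : U ≤ cl A C) (hCU : ∀ c ∈ C, ∀ u ∈ U, c * u * c⁻¹ ∈ U) {c : G} (hc : c ∈ C)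
    (h1 : ∀ u ∈ U, c * u * c⁻¹ = u) (h2 : ∀ n ∈ cl A C, c * n * c⁻¹ * n⁻¹ ∈ U) :
    ∀ n ∈ cl A C, c * n * c⁻¹ = n := by
  set N := cl A C with hN
  have hNC : ∀ c ∈ C, ∀ n ∈ N, c * n * c⁻¹ ∈ N := fun c hc n hn =>
    conj_mem_of_normalizer (le_normalizer_cl A C hc) hn
  let K : Subgroup G :=
    { carrier := {c | c ∈ C ∧ (∀ u ∈ U, c * u * c⁻¹ = u) ∧ ∀ n ∈ N, c * n * c⁻¹ * n⁻¹ ∈ U}
      one_mem' := ⟨C.one_mem, fun u _ => by group, fun n _ => by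
        have : (1 : G) * n * 1⁻¹ * n⁻¹ = 1 := by group
        rw [this]; exact U.one_mem⟩
      mul_mem' := by
        rintro x y ⟨hx, hx1, hx2⟩ ⟨hy, hy1, hy2⟩
        refine ⟨C.mul_mem hx hy, fun u hu => ?_, fun n hn => ?_⟩
        · have e : x * y * u * (x * y)⁻¹ = x * (y * u * y⁻¹) * x⁻¹ := by group
          rw [e, hy1 u hu, hx1 u hu]
        · have e : x * y * n * (x * y)⁻¹ * n⁻¹ =
              (x * (y * n * y⁻¹) * x⁻¹ * (y * n * y⁻¹)⁻¹) * (y * n * y⁻¹ * n⁻¹) := by group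
          rw [e]
          exact U.mul_mem (hx2 _ (hNC y hy n hn)) (hy2 n hn)
      inv_mem' := by
        rintro x ⟨hx, hx1, hx2⟩
        refine ⟨C.inv_mem hx, fun u hu => ?_, fun n hn => ?_⟩
        · nth_rewrite 1 [← hx1 u hu]
          group
        · have h3 := hx2 _ (hNC _ (C.inv_mem hx) n hn)
          have e : x⁻¹ * n * x⁻¹⁻¹ * n⁻¹ =
              (x * (x⁻¹ * n * x⁻¹⁻¹) * x⁻¹ * (x⁻¹ * n * x⁻¹⁻¹)⁻¹)⁻¹ := by group
          rw [e]
          exact U.inv_mem h3 }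
  have hKC : K ≤ C := fun x hx => hx.1
  have hKn : C ≤ normalizer (K : Set G) := by
    have key : ∀ g ∈ C, ∀ x ∈ K, g * x * g⁻¹ ∈ K := by
      rintro g hg x ⟨hx, hx1, hx2⟩
      refine ⟨C.mul_mem (C.mul_mem hg hx) (C.inv_mem hg), fun u hu => ?_, fun n hn => ?_⟩
      · have h3 := hx1 _ (hCU _ (C.inv_mem hg) u hu)
        have e : g * x * g⁻¹ * u * (g * x * g⁻¹)⁻¹ = g * (x * (g⁻¹ * u * g⁻¹⁻¹) * x⁻¹) * g⁻¹ := by group
        rw [e, h3]; group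
      · have h3 := hCU g hg _ (hx2 _ (hNC _ (C.inv_mem hg) n hn))
        have e : g * x * g⁻¹ * n * (g * x * g⁻¹)⁻¹ * n⁻¹ =
            g * (x * (g⁻¹ * n * g⁻¹⁻¹) * x⁻¹ * (g⁻¹ * n * g⁻¹⁻¹)⁻¹) * g⁻¹ := by group
        rw [e]; exact h3
    intro g hg
    rw [mem_normalizer_iff]
    intro x
    refine ⟨fun hx => key g hg x hx, fun hx => ?_⟩
    have h3 := key _ (C.inv_mem hg) _ hx
    have e : g⁻¹ * (g * x * g⁻¹) * g⁻¹⁻¹ = x := by group
    rwa [e] at h3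
  have h5 : K ≤ centralizer (N : Set G) := by
    refine le_cen_cl_of_pow hTC hTp hTo hA hKC hKn ?_
    rintro x ⟨hx, hx1, hx2⟩
    refine ⟨1, ?_⟩
    rw [pow_one, mem_centralizer_iff]
    intro n hn
    have h3 := hx2 n hn
    set d := x * n * x⁻¹ * n⁻¹ with hd
    have h4 : x * n = d * n * x := by rw [hd]; group
    have h6 : x * d = d * x := mul_inv_eq_iff_eq_mul.1 (hx1 d h3)
    calc n * x ^ 2 = (d * d) * n * x ^ 2 := by rw [sq d (hU h3)]; group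
      _ = d * (d * n * x) * x := by rw [pow_two]; group
      _ = (d * x) * n * x := by rw [← h4]; group
      _ = x * (d * n * x) := by rw [← h6]; group
      _ = x ^ 2 * n := by rw [← h4, pow_two]; group
  intro n hn
  have h6 : c ∈ K := ⟨hc, h1, h2⟩
  have h7 := mem_centralizer_iff.1 (h5 h6) n hn
  rw [← h7]; group

/-- `C ≥ T` Sylow, `r ∈ Z(T)`, `N = ⟨r^C⟩` elementary -/
theorem gsys_of_sylow [Finite G] {T C A : Subgroup G} {r : G} (hTp : IsPGroup 2 T)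
    (hTo : ¬ 2 ∣ T.relIndex C) (hTC : T ≤ C) (hT : ∀ t ∈ T, t * r = r * t)
    (hA : ∀ x, x ∈ A ↔ x = 1 ∨ x = r) (hr : r ≠ 1)
    (sq : ∀ x ∈ cl A C, x * x = 1) : GSys C (cl A C) r where
  sq := sq
  nor := fun _ hc _ hn => conj_mem_of_normalizer (le_normalizer_cl A C hc) hn
  mem := le_cl A C ((hA r).2 (Or.inr rfl))
  ne := hr
  gen := by
    refine iSup_le fun m => ?_
    rintro _ ⟨x, hx, rfl⟩
    change (m : G) * x * (m : G)⁻¹ ∈ _
    rcases (hA x).1 hx with rfl | rfl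
    · rw [mul_one, mul_inv_cancel]; exact one_mem _
    · exact subset_closure ⟨m, m.2, rfl⟩
  chain := by
    intro U hU hCU c hc h1 h2
    refine chain_of_sylow hTp hTo hTC ?_ sq hU hCU hc h1 h2
    intro t ht
    rw [mem_centralizer_iff]
    intro x hx
    rcases (hA x).1 hx with rfl | rfl
    · rw [one_mul, mul_one]
    · exact (hT t ht).symm

/-- **LEMMA T**, with all transvections -/
theorem natC_full_of_gsys {G : Type*} [Group G] [Finite G] {C N : Subgroup G} {r : G} (hG : GSys C N r)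
    {a b : G} (ha : a ∈ C) (hb : b ∈ C)
    (hta : ∀ n ∈ N, a * n * a⁻¹ = n ∨ a * n * a⁻¹ = n * r)
    (htb : ∀ n ∈ N, b * n * b⁻¹ = n ∨ b * n * b⁻¹ = n * r)
    (hna : ∃ n ∈ N, a * n * a⁻¹ ≠ n) (hnb : ∃ n ∈ N, b * n * b⁻¹ ≠ n)
    (hnab : ∃ n ∈ N, a * b * n * (a * b)⁻¹ ≠ n) : ∃ W, NatC C N W r ∧ Full C W := by
  obtain ⟨W, hW⟩ := natC_of hG ha hb hta htb hna hnb hnab
  exact ⟨W, hW, full_of_natC hG ha hb hta htb hna hnb hnab hW⟩

/-- **LEMMA T**, with all transvections -/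
theorem natC_full_of_sylow {G : Type*} [Group G] [Finite G] {T C A : Subgroup G} {r : G} (hTp : IsPGroup 2 T)
    (hTo : ¬ 2 ∣ T.relIndex C) (hTC : T ≤ C) (hT : ∀ t ∈ T, t * r = r * t)
    (hA : ∀ x, x ∈ A ↔ x = 1 ∨ x = r) (hr : r ≠ 1)
    (sq : ∀ x ∈ cl A C, x * x = 1) {a b : G} (ha : a ∈ C) (hb : b ∈ C)
    (hta : ∀ n ∈ cl A C, a * n * a⁻¹ = n ∨ a * n * a⁻¹ = n * r)
    (htb : ∀ n ∈ cl A C, b * n * b⁻¹ = n ∨ b * n * b⁻¹ = n * r)
    (hna : ∃ n ∈ cl A C, a * n * a⁻¹ ≠ n) (hnb : ∃ n ∈ cl A C, b * n * b⁻¹ ≠ n)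
    (hnab : ∃ n ∈ cl A C, a * b * n * (a * b)⁻¹ ≠ n) : ∃ W, NatC C (cl A C) W r ∧ Full C W :=
  natC_full_of_gsys (gsys_of_sylow hTp hTo hTC hT hA hr sq) ha hb hta htb hna hnb hnab

end Cfsg.Agent.Omega.HT.JunIrr
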