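import Cfsg.Agent.Omega.HTwo.ThmA

/-!
# LEMMA E over a 2-group `T` (#17094 (C), #17600 (F3))

`V`, `R i = {1, r}` as in `BTS`; `T` is a 2-group, `T ≤ N(V) ∩ N(R i)`, `2 ∤ |N(R i) : T|`.
`Good r e` : `r ∈ Z(O₂(C(e)))`.

* `commute_of_bipartite`, `exists_inv`, `cj_le` : the lemmas of `HTwo.Par` over `T`;
* `le_T` : `LE V R j` for all `j`, if there is a subgroup `A ≤ C_X` with `Good r y` for all `1 ≠ y ∈ A`, such that
  for every central involution `e` of `T` in `C_X` either `e` and `r e` are good, or `A` lies in every subgroup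
  which contains `e` and is normalised by `N(R i)`.
-/

set_option autoImplicit false

namespace Cfsg.Agent.Omega.HT.LemE

open Subgroup Cfsg.Agent.Omega.BTwo Cfsg.Agent.Omega.HTwo Cfsg.Agent.Omega.HTwo.Par
  Cfsg.Agent.Omega.HTwo.ThmA

variable {G : Type*} [Group G]

/-! ### over `T` -/

/-- the orbit version over `T` -/
theorem commute_of_bipartite [Finite G] {V K T : Subgroup G} (hTV : T ≤ normalizer (V : Set G))
    (hodd : ¬ 2 ∣ T.relIndex K) (P : Subgroup G → Prop)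
    (h1 : ∀ k ∈ K, ∀ l ∈ K, P (cj k V) → P (cj l V) → ∀ a ∈ cj k V, ∀ c ∈ cj l V, a * c = c * a)
    (h2 : ∀ k ∈ K, ∀ l ∈ K, ¬ P (cj k V) → ¬ P (cj l V) → ∀ a ∈ cj k V, ∀ c ∈ cj l V, a * c = c * a) :
    ∀ k ∈ K, ∀ a ∈ V, ∀ c ∈ cj k V, a * c = c * a := by
  by_contra hcon
  push Not at hcon
  obtain ⟨k0, hk0, a0, ha0, c0, hc0, hne⟩ := hcon
  set N := (normalizer (V : Set G)).subgroupOf K with hN
  let ψ : K ⧸ N → Subgroup G := Quotient.lift (fun k : K => cj (k : G) V) (by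
    intro k l hkl
    have h3 : k⁻¹ * l ∈ N := QuotientGroup.leftRel_apply.1 hkl
    have h4 : (k : G)⁻¹ * (l : G) ∈ normalizer (V : Set G) := by
      simpa using mem_subgroupOf.1 h3
    have h5 := congrArg (cj (k : G)) (cj_eq_self_iff.2 h4)
    rw [cj_mul, cj_cj_inv] at h5
    exact h5.symm)
  have hψ : ∀ k : K, ψ (QuotientGroup.mk k) = cj (k : G) V := fun _ => rfl
  have hsm : ∀ (k : K) (x : K ⧸ N), ψ (k • x) = cj (k : G) (ψ x) := by
    intro k x
    induction x using QuotientGroup.induction_on with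
    | H l =>
      change ψ (QuotientGroup.mk (k * l)) = cj (k : G) (ψ (QuotientGroup.mk l))
      rw [hψ, hψ, coe_mul, cj_mul]
  let adj : K ⧸ N → K ⧸ N → Prop := fun x y => ∃ a ∈ ψ x, ∃ c ∈ ψ y, a * c ≠ c * a
  have hinv : ∀ (k : K) (x y : K ⧸ N), adj x y → adj (k • x) (k • y) := by
    rintro k x y ⟨a, ha, c, hc, hac⟩
    refine ⟨k * a * (k : G)⁻¹, ?_, k * c * (k : G)⁻¹, ?_, fun h => hac ?_⟩
    · rw [hsm]; exact conj_mem_cj ha
    · rw [hsm]; exact conj_mem_cj hc
    · have e1 : (k : G) * a * (k : G)⁻¹ * (k * c * (k : G)⁻¹) = k * (a * c) * (k : G)⁻¹ := by group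
      have e2 : (k : G) * c * (k : G)⁻¹ * (k * a * (k : G)⁻¹) = k * (c * a) * (k : G)⁻¹ := by group
      rw [e1, e2] at h
      exact mul_left_cancel (mul_right_cancel h)
  have heven : Even (Nat.card (K ⧸ N)) := by
    refine even_card (adj := adj) ?_ ?_ (A := {x | P (ψ x)}) ?_ ?_
      (x := QuotientGroup.mk 1) (y := QuotientGroup.mk ⟨k0, hk0⟩) ?_
    · rintro x y ⟨a, ha, c, hc, hac⟩
      exact ⟨c, hc, a, ha, hac.symm⟩
    · intro x y
      obtain ⟨k, hk⟩ := MulAction.exists_smul_eq K x y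
      refine ⟨MulAction.toPerm k, fun u v => ⟨hinv k u v, fun h => ?_⟩, hk⟩
      have := hinv k⁻¹ _ _ h
      simpa using this
    · intro x hx y hy
      induction x using QuotientGroup.induction_on with
      | H k =>
        induction y using QuotientGroup.induction_on with
        | H l =>
          rintro ⟨a, ha, c, hc, hac⟩
          exact hac (h1 k k.2 l l.2 hx hy a ha c hc)
    · intro x hx y hy
      induction x using QuotientGroup.induction_on with
      | H k =>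
        induction y using QuotientGroup.induction_on with
        | H l =>
          rintro ⟨a, ha, c, hc, hac⟩
          exact hac (h2 k k.2 l l.2 hx hy a ha c hc)
    · refine ⟨a0, ?_, c0, ?_, hne⟩
      · rw [hψ, coe_one, cj_one]; exact ha0
      · rw [hψ]; exact hc0
  have hod : ¬ 2 ∣ Nat.card (K ⧸ N) := fun h =>
    hodd (h.trans (relIndex_dvd_of_le_left K hTV))
  exact hod heven.two_dvd

/-- a 2-group `E` normalised by `T` lies in `T`, if `2 ∤ |K : T|` -/
theorem le_of_odd [Finite G] {K T E : Subgroup G} (hT : IsPGroup 2 T) (hTK : T ≤ K)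
    (hodd : ¬ 2 ∣ T.relIndex K) (hE : IsPGroup 2 E) (hEK : E ≤ K) (hTE : T ≤ normalizer (E : Set G)) : E ≤ T := by
  have hU : IsPGroup 2 (E ⊔ T : Subgroup G) := IsPGroup.to_sup_of_normal_left' hE hT hTE
  have h3 := Subgroup.relIndex_mul_relIndex _ _ _ (le_sup_right : T ≤ E ⊔ T) (sup_le hEK hTK)
  have hfact : Fact (Nat.Prime 2) := ⟨Nat.prime_two⟩
  obtain ⟨n, hn⟩ := IsPGroup.iff_card.1 hU
  have h4 : T.relIndex (E ⊔ T) ∣ 2 ^ n := by
    rw [← hn]
    exact relIndex_dvd_card _ _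
  obtain ⟨m, -, hm⟩ := (Nat.dvd_prime_pow Nat.prime_two).1 h4
  rcases Nat.eq_zero_or_pos m with h0 | h0
  · rw [h0, pow_zero, relIndex_eq_one] at hm
    exact le_sup_left.trans hm
  · exfalso
    apply hodd
    rw [← h3, hm]
    exact Dvd.dvd.mul_right (dvd_pow_self 2 h0.ne') _

/-- an involution of a nontrivial 2-group `E ≤ T` normalised by `T`, central in `T` -/
theorem exists_inv [Finite G] {T E : Subgroup G} (hT : IsPGroup 2 T) (hE1 : E ≠ ⊥) (hET : E ≤ T)
    (hTE : T ≤ normalizer (E : Set G)) : ∃ e ∈ E, e ≠ 1 ∧ e * e = 1 ∧ ∀ s ∈ T, e * s = s * e := by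
  have hn : (E.subgroupOf T).Normal := by
    refine ⟨?_⟩
    rintro ⟨x, hxS⟩ hx ⟨g, hg⟩
    exact mem_subgroupOf.2 (conj_mem_of_normalizer (hTE hg) (mem_subgroupOf.1 hx))
  have hne : E.subgroupOf T ≠ ⊥ := by
    intro h
    rw [subgroupOf_eq_bot, disjoint_iff, inf_eq_left.2 hET] at h
    exact hE1 h
  have : Fact (Nat.Prime 2) := ⟨Nat.prime_two⟩
  have : Group.IsNilpotent T := hT.isNilpotent
  have h1 := Lib.NormalAbelian.normal_inf_center_ne_bot (E.subgroupOf T) hne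
  obtain ⟨x, hx1⟩ := (Subgroup.ne_bot_iff_exists_ne_one).mp h1
  have hx := x.2
  obtain ⟨k, hk⟩ := hT (x : T)
  have hx1' : (x : T) ≠ 1 := fun e => hx1 (Subtype.ext e)
  have hex : ∃ n : ℕ, (x : T) ^ 2 ^ n = 1 := ⟨k, hk⟩
  classical
  set n := Nat.find hex with hn'
  have hn1 : (x : T) ^ 2 ^ n = 1 := Nat.find_spec hex
  have hn0 : n ≠ 0 := by
    intro e
    rw [e] at hn1
    apply hx1'
    simpa using hn1
  obtain ⟨m, hm⟩ := Nat.exists_eq_succ_of_ne_zero hn0
  set y := (x : T) ^ 2 ^ m with hy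
  have hy1 : y ≠ 1 := Nat.find_min hex (by omega)
  have hy2 : y * y = 1 := by
    rw [hy, ← pow_two, ← pow_mul, ← pow_succ]
    rw [hm] at hn1
    exact hn1
  have hyU : y ∈ E.subgroupOf T := pow_mem hx.1 _
  have hyc : y ∈ center T := pow_mem hx.2 _
  refine ⟨y, mem_subgroupOf.1 hyU, fun h => hy1 (Subtype.ext h), congrArg Subtype.val hy2, ?_⟩
  intro s hs
  have := mem_center_iff.mp hyc ⟨s, hs⟩
  exact (congrArg Subtype.val this).symm

/-- `r ∈ Z(O₂(C(e)))` -/
def Good (r e : G) : Prop :=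
  r ∈ O2 (centralizer ({e} : Set G)) ⊓ centralizer (O2 (centralizer ({e} : Set G)) : Set G)

variable {ι : Type*} {V : Subgroup G} {R : ι → Subgroup G}

/-- if `e` centralises `X^k` and `r ∈ Z(O₂(C(e)))`, then `V^k ≤ Z(O₂(C(e)))` -/
theorem cj_le (b : BT V R) {i : ι} {r : G} (hr : ∀ x ∈ R i, x = 1 ∨ x = r) {e : G} (hg : Good r e) {k : G}
    (hk : k * r = r * k) (h : e ∈ centralizer (cj k (XX V R) : Set G)) :
    cj k V ≤ O2 (centralizer ({e} : Set G)) ⊓ centralizer (O2 (centralizer ({e} : Set G)) : Set G) := by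
  set M := centralizer ({e} : Set G) with hM
  have hN : M ≤ normalizer ((O2 M ⊓ centralizer (O2 M : Set G) : Subgroup G) : Set G) := by
    intro g hg
    have h1 := le_normalizer_O2 M hg
    have h2 := normalizer_le_normalizer_centralizer _ h1
    rw [← cj_eq_self_iff, cj_inf, cj_eq_self_iff.2 h1, cj_eq_self_iff.2 h2]
  rintro _ ⟨v, hv, rfl⟩
  change k * v * k⁻¹ ∈ _
  obtain ⟨j, hj⟩ := b.R_cov v hv
  obtain ⟨x, hx, e1⟩ := b.trans_X_one i j
  rw [← e1, mem_cj] at hj
  rcases hr _ hj with h0 | h0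
  · have h1 : v = 1 := by
      have := congrArg (fun y => x * y * x⁻¹) h0
      simp only [mul_one, mul_inv_cancel] at this
      rw [← this]; group
    rw [h1, mul_one, mul_inv_cancel]
    exact one_mem _
  · have h1 : v = x * r * x⁻¹ := by rw [← h0]; group
    have h2 : k * x * k⁻¹ ∈ M := by
      rw [hM, mem_centralizer_singleton_iff]
      exact mem_centralizer_iff.1 h _ (conj_mem_cj hx)
    have h3 : k * v * k⁻¹ = (k * x * k⁻¹) * r * (k * x * k⁻¹)⁻¹ := by
      have h4 : k⁻¹ * r * k = r := by rw [mul_assoc, ← hk]; group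
      calc k * v * k⁻¹ = (k * x * k⁻¹) * (k * r * k⁻¹) * (k * x * k⁻¹)⁻¹ := by rw [h1]; group
        _ = (k * x * k⁻¹) * r * (k * x * k⁻¹)⁻¹ := by rw [hk]; group
    rw [h3]
    exact conj_mem_of_normalizer (hN h2) hg

/-- **LEMMA E over `T`** -/
theorem le_T [Finite G] (b : BTS V R) {i : ι} {r : G} (hr : ∀ x ∈ R i, x = 1 ∨ x = r) (hri : r ∈ R i)
    {T : Subgroup G} (hT : IsPGroup 2 T) (hTV : T ≤ normalizer (V : Set G))
    (hTR : T ≤ normalizer (R i : Set G)) (hodd : ¬ 2 ∣ T.relIndex (normalizer (R i : Set G)))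
    (hnc : ∃ k ∈ normalizer (R i : Set G), ∃ v ∈ V, ∃ w ∈ cj k V, v * w ≠ w * v)
    {A : Subgroup G} (hA3 : ∃ y ∈ A, ∃ y' ∈ A, y ≠ 1 ∧ y' ≠ 1 ∧ y * y' ≠ 1) (hAX : A ≤ CenX V R)
    (hAg : ∀ y ∈ A, y ≠ 1 → Good r y)
    (hdec : ∀ e ∈ T, e ≠ 1 → e * e = 1 → (∀ t ∈ T, e * t = t * e) → e ∈ CenX V R →
      (Good r e ∧ Good r (r * e)) ∨
        ∀ Λ : Subgroup G, normalizer (R i : Set G) ≤ normalizer (Λ : Set G) → e ∈ Λ → A ≤ Λ) (j : ι) :
    LE V R j := by
  refine le_all b.toBT (i := i) (fun Λ hΛ hN => ?_) j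
  by_contra hΛR
  set K := normalizer (R i : Set G) with hK
  have hr1 : r ≠ 1 := by
    rintro rfl
    refine b.R_ne i ((eq_bot_iff_forall _).2 fun x hx => ?_)
    rcases hr x hx with h | h <;> exact h
  have hrr : r * r = 1 := b.V_sq r (b.R_le i hri)
  have hKr : ∀ k ∈ K, k * r = r * k := by
    intro k hk
    have h1 := conj_mem_of_normalizer hk hri
    rcases hr _ h1 with h | h
    · exfalso
      apply hr1
      have := congrArg (fun y => k⁻¹ * y * k) h
      simp only [mul_one, inv_mul_cancel] at this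
      rw [← this]; group
    · rw [mul_inv_eq_iff_eq_mul] at h
      exact h
  -- `E = R i Λ`
  set E := R i ⊔ Λ with hE
  have hKE : K ≤ normalizer (E : Set G) := by
    intro k hk
    rw [← cj_eq_self_iff, hE, cj_sup, cj_eq_self_iff.2 hk, cj_eq_self_iff.2 (hN hk)]
  have hEm : ∀ l ∈ E, ∃ a ∈ R i, a * l ∈ CenX V R := by
    intro l hl
    have h1 : E ≤ RC b.toBT i := by
      refine sup_le (fun a ha => ⟨a⁻¹, inv_mem ha, ?_⟩) hΛ
      rw [inv_mul_cancel]
      exact one_mem _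
    exact h1 hl
  -- elements of `E` modulo `X^k`
  have hEk : ∀ k ∈ K, ∀ e ∈ E, e ∈ centralizer (cj k (XX V R) : Set G) ∨
      r * e ∈ centralizer (cj k (XX V R) : Set G) := by
    intro k hk e he
    have h1 : k⁻¹ * e * k ∈ E := conj_inv_mem_of_normalizer (hKE hk) he
    obtain ⟨a, ha, h2⟩ := hEm _ h1
    rw [centralizer_cj, mem_cj, mem_cj]
    rcases hr a ha with rfl | rfl
    · rw [one_mul] at h2
      exact Or.inl h2
    · right
      have h3 : k⁻¹ * (a * e) * k = a * (k⁻¹ * e * k) := by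
        have h4 : k⁻¹ * a = a * k⁻¹ := by
          rw [inv_mul_eq_iff_eq_mul, ← mul_assoc, hKr k hk, mul_inv_cancel_right]
        calc k⁻¹ * (a * e) * k = (k⁻¹ * a) * e * k := by group
          _ = _ := by rw [h4]; group
      rw [h3]; exact h2
  have hE0 : E ⊓ CenX V R ≠ ⊥ := by
    intro h
    apply hΛR
    intro x hx
    obtain ⟨a, ha, hm⟩ := hΛ x hx
    have h1 : a * x ∈ E ⊓ CenX V R :=
      ⟨mul_mem ((le_sup_left : R i ≤ E) ha) ((le_sup_right : Λ ≤ E) hx), hm⟩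
    rw [h, mem_bot, mul_eq_one_iff_eq_inv] at h1
    have h2 : x = a⁻¹ := by rw [h1, inv_inv]
    rw [h2]; exact inv_mem ha
  have hTE : T ≤ normalizer ((E ⊓ CenX V R : Subgroup G) : Set G) := by
    intro s hs
    have h1 := b.NV_le_NCenX (hTV hs)
    rw [← cj_eq_self_iff, cj_inf, cj_eq_self_iff.2 (hKE (hTR hs)), cj_eq_self_iff.2 h1]
  have hE2 : IsPGroup 2 (E ⊓ CenX V R : Subgroup G) := b.CenX_isPGroup.to_le inf_le_right
  have hEK : E ⊓ CenX V R ≤ K := by
    refine inf_le_right.trans ?_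
    refine (b.CenX_le_cen.trans (centralizer_le (b.R_le i))).trans (centralizer_le_normalizer _)
  have hET := le_of_odd hT hTR hodd hE2 hEK hTE
  obtain ⟨e, he, he1, hee, heT⟩ := exists_inv hT hE0 hET hTE
  have ab : ∀ f : G, ∀ a ∈ O2 (centralizer ({f} : Set G)) ⊓
      centralizer (O2 (centralizer ({f} : Set G)) : Set G),
      ∀ c ∈ O2 (centralizer ({f} : Set G)) ⊓ centralizer (O2 (centralizer ({f} : Set G)) : Set G),
      a * c = c * a := fun f a ha c hc => mem_centralizer_iff.1 hc.2 a ha.1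
  obtain ⟨k0, hk0, v0, hv0, w0, hw0, hne⟩ := hnc
  rcases hdec e (hET he) he1 hee heT he.2 with ⟨g1, g2⟩ | hA
  · refine hne (commute_of_bipartite hTV hodd
      (fun L => ∀ k ∈ K, cj k V = L → e ∈ centralizer (cj k (XX V R) : Set G)) ?_ ?_ k0 hk0 v0 hv0 w0 hw0)
    · intro k hk l hl h1 h2 a ha c hc'
      exact ab e a (cj_le b.toBT hr g1 (hKr k hk) (h1 k hk rfl) ha) c
        (cj_le b.toBT hr g1 (hKr l hl) (h2 l hl rfl) hc')
    · have key : ∀ k ∈ K, ¬ (∀ k' ∈ K, cj k' V = cj k V → e ∈ centralizer (cj k' (XX V R) : Set G)) →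
          ∃ k' ∈ K, cj k' V = cj k V ∧ r * e ∈ centralizer (cj k' (XX V R) : Set G) := by
        intro k hk h
        push Not at h
        obtain ⟨k', hk', e1, hne⟩ := h
        exact ⟨k', hk', e1, (hEk k' hk' e he.1).resolve_left hne⟩
      intro k hk l hl h1 h2 a ha c hc'
      obtain ⟨k', hk', e1, h3⟩ := key k hk h1
      obtain ⟨l', hl', e2, h4⟩ := key l hl h2
      rw [← e1] at ha
      rw [← e2] at hc'
      exact ab (r * e) a (cj_le b.toBT hr g2 (hKr k' hk') h3 ha) c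
        (cj_le b.toBT hr g2 (hKr l' hl') h4 hc')
  · -- `A ≤ E`
    have hAE : A ≤ E := hA E hKE he.1
    obtain ⟨y, hy, y', hy', y1, y1', y1''⟩ := hA3
    have hfin : ∀ z ∈ A, z ≠ 1 → z ∈ centralizer (cj k0 (XX V R) : Set G) → False := by
      intro z hz hz1 hzk
      have g1 := hAg z hz hz1
      have h1 := cj_le b.toBT hr g1 (hKr k0 hk0) hzk hw0
      have h2 : z ∈ centralizer (cj 1 (XX V R) : Set G) := by
        rw [cj_one]; exact hAX hz
      have h3 := cj_le b.toBT hr g1 (by rw [one_mul, mul_one]) h2 (by rw [cj_one]; exact hv0)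
      exact hne (ab z _ h3 _ h1)
    rcases hEk k0 hk0 y (hAE hy) with h | h
    · exact hfin y hy y1 h
    rcases hEk k0 hk0 y' (hAE hy') with h' | h'
    · exact hfin y' hy' y1' h'
    refine hfin (y * y') (mul_mem hy hy') y1'' ?_
    -- `(r y)(r y') = y y'`
    have hry : r * y = y * r := mem_centralizer_iff.1 (b.CenX_le_cen (hAX hy)) r (b.R_le i hri)
    have e1 : r * y * (r * y') = y * y' := by
      calc r * y * (r * y') = (r * y) * r * y' := by group
        _ = y * (r * r) * y' := by rw [hry]; group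
        _ = y * y' := by rw [hrr, mul_one]
    rw [← e1]
    exact mul_mem h h'

end Cfsg.Agent.Omega.HT.LemE
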