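import Cfsg.Agent.Omega.HT.EndCore
import Cfsg.Agent.Lib.GoldschmidtFusion

/-!
# (OT) and the instance `HTT` from the data `OtD` of a line over `T`

* `OtD.ot` : `O₂(H)` centralises `V` for every `H ≥ ⟨T, X⟩` (#17249 (OT));
* `OtD.htt` : `HTT T (T ⊔ X) V R o`, from `BTS V R`, `OtD T V X r`, `X = ⟨W i⟩`, and `Ω₁Z(T) ≤ O₂(C(v))` for `v ∈ V#`;
* `OtD.mem_Z0` : an element of `Ω₁Z(T) ∩ C(X)` lies in `Z₀`;
* `OtD.not_alpha` : not (alpha) for `z ∈ Z₀#` centralised by `X₂`, `OtD T V₂ X₂ r₂`, `X₂ ≤ C(r)`; `OtD.false_of` : the end.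
-/

set_option autoImplicit false
set_option linter.unusedSectionVars false

namespace Cfsg.Agent.Omega.HT.OtCore

open Subgroup Cfsg Cfsg.Agent.MinSimple.VModule Cfsg.Agent.Omega.HOneTwo Cfsg.Agent.Omega.HT.TComp Cfsg.Agent.Omega.BTwo
open Cfsg.Agent.ZN (zc o2 le_normalizer_o2)
open Cfsg.Agent.Omega.HTwo.ThmA (LE)
open Cfsg.Agent.Omega.HTwo.AlphaP (MP)

universe u

variable {G : Type u} [Group G] [Finite G]

namespace OtD

variable {T V X H : Subgroup G} {r : G} (h : OtD T V X r)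
include h

theorem V_comm {v w : G} (hv : v ∈ V) (hw : w ∈ V) : v * w = w * v := by
  have h1 := h.V_sq _ (mul_mem hv hw)
  calc v * w = v * w * (v * w) * (w⁻¹ * v⁻¹) := by group
    _ = w⁻¹ * v⁻¹ := by rw [h1, one_mul]
    _ = w * v := by rw [inv_eq_of_mul_eq_one_left (h.V_sq v hv), inv_eq_of_mul_eq_one_left (h.V_sq w hw)]

theorem V_p : IsPGroup 2 V := by
  rintro ⟨x, hx⟩
  exact ⟨1, Subtype.ext (by simpa [pow_two] using h.V_sq x hx)⟩

/-- a 2-group `E ≤ C(r)` normalised by `T` lies in `T` -/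
theorem le_T {E : Subgroup G} (hE : IsPGroup 2 E) (hEr : E ≤ centralizer ({r} : Set G))
    (hTE : T ≤ normalizer (E : Set G)) : E ≤ T := by
  have hT2 : T ≤ centralizer ({r} : Set G) := fun t ht => mem_centralizer_singleton_iff.2 (h.T_r t ht)
  have h2 : IsPGroup 2 (E ⊔ T : Subgroup G) := IsPGroup.to_sup_of_normal_left' hE h.T_p hTE
  have h4 := card_dvd_card hT2 h.odd h2 (sup_le hEr hT2)
  have h5 : T = E ⊔ T := eq_of_le_of_card_ge le_sup_right (Nat.le_of_dvd Nat.card_pos h4)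
  rw [h5]; exact le_sup_left

/-- `X` is transitive on `V#` -/
theorem trans2 {v w : G} (hv : v ∈ V) (hw : w ∈ V) (hv1 : v ≠ 1) (hw1 : w ≠ 1) : ∃ x ∈ X, x * v * x⁻¹ = w := by
  obtain ⟨a, ha, e⟩ := h.trans v hv hv1
  obtain ⟨b, hb, e'⟩ := h.trans w hw hw1
  refine ⟨b * a⁻¹, mul_mem hb (inv_mem ha), ?_⟩
  calc b * a⁻¹ * v * (b * a⁻¹)⁻¹ = b * (a⁻¹ * v * a) * b⁻¹ := by group
    _ = b * r * b⁻¹ := by rw [← e]; group
    _ = w := e'

/-- a 2-subgroup of `N(V)` normalised by `X` centralises `V` -/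
theorem cen_of_norm {N : Subgroup G} (hN2 : IsPGroup 2 N) (hNV : N ≤ normalizer (V : Set G))
    (hXN : X ≤ normalizer (N : Set G)) : N ≤ centralizer (V : Set G) := by
  obtain ⟨w, hw, hw1, -, hwN⟩ := exists_inv hN2 h.V_p (fun h0 => h.r_ne (by
    have := h.r_mem
    rwa [h0, mem_bot] at this)) hNV
  intro x hx
  rw [mem_centralizer_iff]
  intro u hu
  by_cases hu1 : u = 1
  · rw [hu1, one_mul, mul_one]
  obtain ⟨d, hd, hdu⟩ := h.trans2 hw hu hw1 hu1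
  have h1 : d⁻¹ * x * d ∈ N := by
    have := (mem_normalizer_iff.1 (hXN (inv_mem hd)) x).1 hx
    rwa [inv_inv] at this
  have h2 := hwN _ h1
  rw [← hdu]
  calc d * w * d⁻¹ * x = d * (w * (d⁻¹ * x * d)) * d⁻¹ := by group
    _ = x * (d * w * d⁻¹) := by rw [h2]; group

/-- **(OT)** of #17249: `O₂(H)` centralises `V` for every `H ≥ ⟨T, X⟩`. -/
theorem ot (hTH : T ≤ H) (hXH : X ≤ H) : o2 H ≤ centralizer (V : Set G) := by
  have hfact : Fact (Nat.Prime 2) := ⟨Nat.prime_two⟩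
  have hO2 : IsPGroup 2 (o2 H) := ZN.isPGroup_o2 H
  have hHO := ZN.le_normalizer_o2 H
  have conj : ∀ {A B : Subgroup G}, A ≤ normalizer (B : Set G) → ∀ {a b : G}, a ∈ A → b ∈ B → a * b * a⁻¹ ∈ B :=
    fun {A B} hAB {a b} ha hb => (mem_normalizer_iff.1 (hAB ha) b).1 hb
  have norm : ∀ {A B : Subgroup G}, (∀ a ∈ A, ∀ b ∈ B, a * b * a⁻¹ ∈ B) → A ≤ normalizer (B : Set G) :=
    fun {A B} hAB => HOne.TvHSide.le_normalizer_of hAB
  -- `O ∩ N(V)` centralises `V`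
  have hN : o2 H ⊓ normalizer (V : Set G) ≤ centralizer (V : Set G) := by
    refine h.cen_of_norm (hO2.to_le inf_le_left) inf_le_right (norm fun d hd x hx => ⟨conj hHO (hXH hd) hx.1, ?_⟩)
    exact mul_mem (mul_mem (h.X_V hd) hx.2) ((normalizer (V : Set G)).inv_mem (h.X_V hd))
  obtain ⟨O₀, hO₀⟩ : ∃ O₀, O₀ = o2 H ⊓ centralizer (V : Set G) := ⟨_, rfl⟩
  have hcV : normalizer (V : Set G) ≤ normalizer (centralizer (V : Set G) : Set G) :=
    normalizer_le_normalizer_centralizer V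
  have hTO₀ : T ≤ normalizer (O₀ : Set G) := by
    refine norm fun t ht x hx => ?_
    rw [hO₀] at hx ⊢
    exact ⟨conj hHO (hTH ht) hx.1, (mem_normalizer_iff.1 (hcV (h.T_V ht)) x).1 hx.2⟩
  have hT0 : ∀ x ∈ o2 H, x * r = r * x → x ∈ O₀ ∧ x ∈ T := by
    have hle : o2 H ⊓ centralizer ({r} : Set G) ≤ T := by
      refine h.le_T (hO2.to_le inf_le_left) inf_le_right (norm fun t ht x hx => ⟨conj hHO (hTH ht) hx.1, ?_⟩)
      have ht' : t ∈ centralizer ({r} : Set G) := mem_centralizer_singleton_iff.2 (h.T_r t ht)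
      exact mul_mem (mul_mem ht' hx.2) ((centralizer ({r} : Set G)).inv_mem ht')
    intro x hx hxv
    have h1 : x ∈ T := hle ⟨hx, mem_centralizer_singleton_iff.2 hxv⟩
    rw [hO₀]
    exact ⟨⟨hx, hN ⟨hx, h.T_V h1⟩⟩, h1⟩
  have hO₀V : O₀ ≤ centralizer (V : Set G) := by rw [hO₀]; exact inf_le_right
  have hO₀T : O₀ ≤ T := fun x hx =>
    (hT0 x (by rw [hO₀] at hx; exact hx.1) (mem_centralizer_iff.1 (hO₀V hx) r h.r_mem).symm).2
  -- suppose `O > O_0`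
  by_contra hcon
  have hlt : O₀ < o2 H := by
    refine lt_of_le_of_ne (by rw [hO₀]; exact inf_le_left) fun e => hcon ?_
    rw [← e]
    exact hO₀V
  have hlt2 := Lib.GoldschmidtFusion.lt_inf_normalizer hO2 hlt
  obtain ⟨w, hw, hwO₀, hwT⟩ := HOne.TvThirteen.exists_fixed_mod (S := T)
    (B := o2 H ⊓ normalizer (O₀ : Set G)) (A := O₀) h.T_p (hO2.to_le inf_le_left)
    (fun t ht x hx => ⟨conj hHO (hTH ht) hx.1, mul_mem (mul_mem (hTO₀ ht) hx.2)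
      ((normalizer (O₀ : Set G)).inv_mem (hTO₀ ht))⟩) (fun t ht x hx => conj hTO₀ ht hx)
    (fun t ht x hx => (mem_normalizer_iff.1 ht.2 x).1 hx) (not_le_of_gt hlt2)
  have hwn : w ∈ normalizer (O₀ : Set G) := hw.2
  have hwn' : ∀ x ∈ O₀, w⁻¹ * x * w ∈ O₀ := fun x hx => by
    have := (mem_normalizer_iff.1 (inv_mem hwn) x).1 hx
    rwa [inv_inv] at this
  -- `T_* := C_T(V)`
  obtain ⟨Ts, hTs⟩ : ∃ Ts, Ts = T ⊓ centralizer (V : Set G) := ⟨_, rfl⟩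
  have hO₀Ts : O₀ ≤ Ts := by rw [hTs]; exact le_inf hO₀T hO₀V
  have hTsT : Ts ≤ T := by rw [hTs]; exact inf_le_left
  have hTsV : Ts ≤ centralizer (V : Set G) := by rw [hTs]; exact inf_le_right
  have hTsw : ∀ t ∈ Ts, w⁻¹ * t * w ∈ Ts := by
    intro t ht
    have h1 : t⁻¹ * w * t * w⁻¹ ∈ O₀ := by
      have := hwT t⁻¹ (inv_mem (hTsT ht))
      rwa [inv_inv] at this
    have h2 := hwn' _ h1
    have e : w⁻¹ * t * w = t * (w⁻¹ * (t⁻¹ * w * t * w⁻¹) * w)⁻¹ := by group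
    rw [e]
    exact mul_mem ht (inv_mem (hO₀Ts h2))
  have hTsw' : ∀ t ∈ Ts, w * t * w⁻¹ ∈ Ts := by
    intro t ht
    have h1 := hwT t (hTsT ht)
    have e : w * t * w⁻¹ = (t * w * t⁻¹ * w⁻¹)⁻¹ * t := by group
    rw [e]
    exact mul_mem (inv_mem (hO₀Ts h1)) ht
  have hVTs : V ≤ Ts := by
    rw [hTs]
    exact le_inf h.V_T fun x hx => mem_centralizer_iff.2 fun u hu => h.V_comm hu hx
  obtain ⟨a, ha, b, hb, hab, hz⟩ := h.zt
  -- `c = b^w`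
  obtain ⟨c, hc⟩ : ∃ c, c = w * b * w⁻¹ := ⟨_, rfl⟩
  have hcTs : c ∈ Ts := by rw [hc]; exact hTsw' b (hVTs hb)
  have hcc : ∀ t ∈ T, t ∈ centralizer (V : Set G) → t * c = c * t := by
    intro t ht htV
    have h1 := mem_centralizer_iff.1 (hTsV (hTsw t (by rw [hTs]; exact ⟨ht, htV⟩))) b hb
    rw [hc]
    calc t * (w * b * w⁻¹) = w * ((w⁻¹ * t * w) * b) * w⁻¹ := by group
      _ = w * b * w⁻¹ * t := by rw [← h1]; group
  have ho : w * a * w⁻¹ * a⁻¹ ∈ O₀ := by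
    have h1 := inv_mem (hwT a ha)
    have e : (a * w * a⁻¹ * w⁻¹)⁻¹ = w * a * w⁻¹ * a⁻¹ := by group
    rwa [e] at h1
  have hOc : ∀ o ∈ O₀, o * c = c * o := fun o ho => hcc o (hO₀T ho) (hO₀V ho)
  have hOr : ∀ o ∈ O₀, o * r = r * o := fun o ho => (mem_centralizer_iff.1 (hO₀V ho) r h.r_mem).symm
  have key : w * r * w⁻¹ = c⁻¹ * ((w * a * w⁻¹ * a⁻¹) * (a * c * a⁻¹) * (w * a * w⁻¹ * a⁻¹)⁻¹) := by
    have e : r = b⁻¹ * (a * b * a⁻¹) := by rw [hab, inv_mul_cancel_left]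
    calc w * r * w⁻¹ = w * (b⁻¹ * (a * b * a⁻¹)) * w⁻¹ := by rw [← e]
      _ = _ := by rw [hc]; group
  have hcc1 : c * c = 1 := by
    calc c * c = w * (b * b) * w⁻¹ := by rw [hc]; group
      _ = 1 := by rw [h.V_sq b hb]; group
  rcases hz c (hTsT hcTs) hcc1 hcc with h1 | h1
  · rw [h1, hOc _ ho, mul_inv_cancel_right, inv_mul_cancel] at key
    exact h.r_ne (by
      calc r = w⁻¹ * (w * r * w⁻¹) * w := by group
        _ = 1 := by rw [key]; group)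
  · rw [h1] at key
    have h2 : (w * a * w⁻¹ * a⁻¹) * (c * r) = c * r * (w * a * w⁻¹ * a⁻¹) := by
      calc (w * a * w⁻¹ * a⁻¹) * (c * r) = ((w * a * w⁻¹ * a⁻¹) * c) * r := by group
        _ = c * ((w * a * w⁻¹ * a⁻¹) * r) := by rw [hOc _ ho]; group
        _ = _ := by rw [hOr _ ho]; group
    rw [h2, mul_inv_cancel_right, inv_mul_cancel_left] at key
    exact hwO₀ (hT0 w hw.1 (mul_inv_eq_iff_eq_mul.1 key)).1

end OtD

section inst

variable {T V : Subgroup G} {r : G} {ι : Type*} {R : ι → Subgroup G} {o : ι}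

/-- the subgroups `R i` have order 2 -/
theorem OtD.card_R (b : BT V R) (hr : ∀ x, x ∈ R o ↔ x = 1 ∨ x = r) (hr1 : r ≠ 1) (i : ι) : Nat.card (R i) = 2 := by
  obtain ⟨x, -, hx⟩ := b.trans_X_one o i
  rw [← hx, card_cj]
  have e : (R o : Set G) = {1, r} := by
    ext y
    simp only [SetLike.mem_coe, Set.mem_insert_iff, Set.mem_singleton_iff]
    exact hr y
  have h1 : ((R o : Subgroup G) : Set G).ncard = 2 := by rw [e, Set.ncard_pair (Ne.symm hr1)]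
  exact h1

/-- `N(R i) = C(v)` for `1 ≠ v ∈ R i` -/
theorem OtD.normalizer_R {A : Subgroup G} (hA : Nat.card A = 2) {v : G} (hv : v ∈ A) (hv1 : v ≠ 1) :
    normalizer (A : Set G) = centralizer ({v} : Set G) := by
  apply le_antisymm
  · intro g hg
    have h2 := normalizer_le_cen_of_card hA hg
    exact mem_centralizer_singleton_iff.2 (mem_centralizer_iff.1 h2 v hv).symm
  · intro g hg
    refine centralizer_le_normalizer _ (mem_centralizer_iff.2 fun y hy => ?_)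
    by_cases hy1 : y = 1
    · rw [hy1, one_mul, mul_one]
    · rw [eq_of_card_two hA hv hv1 hy hy1]
      exact (mem_centralizer_singleton_iff.1 hg).symm

/-- **The instance `HTT` from `OtD`.** `zq` : `Ω₁Z(T) ≤ O₂(C(v))` for `v ∈ V#`. -/
theorem OtD.htt (b : BTS V R) (hr : ∀ x, x ∈ R o ↔ x = 1 ∨ x = r) (h : OtD T V (XX V R) r)
    (hc : IsCharacteristicTwoType G) (zq : ∀ v ∈ V, v ≠ 1 → zc T ≤ o2 (centralizer ({v} : Set G))) :
    HTT T (T ⊔ XX V R) V R o where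
  toBT := b.toBT
  card_R := OtD.card_R b.toBT hr h.r_ne
  char2 := hc
  S_p := h.T_p
  S_odd := by
    rw [OtD.normalizer_R (OtD.card_R b.toBT hr h.r_ne o) ((hr r).2 (Or.inr rfl)) h.r_ne]
    exact h.odd
  S_V := h.T_V
  S_R := by
    rw [OtD.normalizer_R (OtD.card_R b.toBT hr h.r_ne o) ((hr r).2 (Or.inr rfl)) h.r_ne]
    exact fun t ht => mem_centralizer_singleton_iff.2 (h.T_r t ht)
  S_P := le_sup_left
  P_V := sup_le h.T_V b.X_le_NV
  P_trans j := by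
    obtain ⟨x, hx, e⟩ := b.toBT.trans_X_one o j
    exact ⟨x, mem_sup_right hx, e⟩
  P_Z x hx z hz := by
    have h1 : T ⊔ XX V R ≤ cenMod V (zc T) := by
      refine sup_le (fun t ht => ⟨h.T_V ht, fun z hz => ?_⟩) (iSup_le fun j w hw => ⟨b.W_le_NV j hw, fun z hz => ?_⟩)
      · rw [((ZN.mem_zc.1 hz).2.1 t ht), mul_inv_cancel_right, mul_inv_cancel]
        exact one_mem _
      · obtain ⟨v, hv, hv1⟩ := b.exists_ne j
        have hzQ : z ∈ QQ (R j) := by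
          change z ∈ o2 (normalizer (R j : Set G))
          rw [OtD.normalizer_R (OtD.card_R b.toBT hr h.r_ne j) hv hv1]
          exact zq v (b.R_le j hv) hv1 hz
        have h3 := b.WQ j hzQ hw
        have e : w * z * w⁻¹ * z⁻¹ = (z * w * z⁻¹ * w⁻¹)⁻¹ := by group
        rw [e]
        exact inv_mem (b.R_le j h3)
    exact (h1 hx).2 z hz
  loc _ hT hX _ _ := h.ot hT hX

/-- an element of `Ω₁Z(T) ∩ C(X)` lies in `Z₀` -/
theorem OtD.mem_Z0 {z : G} (hz : z ∈ zc T) (hX : z ∈ CenX V R) :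
    z ∈ zc T ⊓ centralizer ((T ⊔ XX V R : Subgroup G) : Set G) := by
  refine ⟨hz, ?_⟩
  have h2 : T ⊔ XX V R ≤ centralizer ({z} : Set G) :=
    sup_le (fun t ht => mem_centralizer_singleton_iff.2 ((ZN.mem_zc.1 hz).2.1 t ht)) fun x hx =>
      mem_centralizer_singleton_iff.2 (mem_centralizer_iff.1 hX x hx)
  exact mem_centralizer_iff.2 fun x hx => mem_centralizer_singleton_iff.1 (h2 hx)

/-- **not (alpha)** for `z ∈ Z₀#` centralised by `X₂` : `OtD` at a second line `V₂`, `X₂ ≤ C(r)`. -/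
theorem OtD.not_alpha (b : BTS V R) (hr : ∀ x, x ∈ R o ↔ x = 1 ∨ x = r) (h : OtD T V (XX V R) r)
    (hc : IsCharacteristicTwoType G) (zq : ∀ v ∈ V, v ≠ 1 → zc T ≤ o2 (centralizer ({v} : Set G)))
    (hLE : ∀ i, LE V R i) {z : G} (hz : z ∈ zc T) (hzX : z ∈ CenX V R) (hz1 : z ≠ 1)
    {V₂ X₂ : Subgroup G} {r₂ : G} (h2 : OtD T V₂ X₂ r₂) (hXr : ∀ x ∈ X₂, x * r = r * x)
    (hXz : ∀ x ∈ X₂, x * z = z * x) : ¬ UM V (MP V R o z) ≤ QQ (R o) :=
  EndCore.not_alpha (OtD.htt b hr h hc zq) hr h hLE (OtD.mem_Z0 hz hzX) hz1 h2 hXr hXz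
    fun _ hT hX _ _ => h2.ot hT hX

/-- **the end**: two lines `V`, `V₂` over `T`; `z₀ ≠ z₁` in `Z₀#`, `z₀` centralised by `X₂`; for every `c ∈ Z₀` with
`Sig V R o c`: `c = 1`, or `c` is centralised by `X₂`. -/
theorem OtD.false_of (b : BTS V R) (hr : ∀ x, x ∈ R o ↔ x = 1 ∨ x = r) (h : OtD T V (XX V R) r)
    (hc : IsCharacteristicTwoType G) (zq : ∀ v ∈ V, v ≠ 1 → zc T ≤ o2 (centralizer ({v} : Set G)))
    (hLE : ∀ i, LE V R i) {z₀ z₁ : G} (hz₀ : z₀ ∈ zc T) (hz₀X : z₀ ∈ CenX V R) (h0 : z₀ ≠ 1)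
    (hz₁ : z₁ ∈ zc T) (hz₁X : z₁ ∈ CenX V R) (h1 : z₁ ≠ 1) (hne : z₁ ≠ z₀)
    {V₂ X₂ : Subgroup G} {r₂ : G} (h2 : OtD T V₂ X₂ r₂) (hXr : ∀ x ∈ X₂, x * r = r * x)
    (hXz : ∀ x ∈ X₂, x * z₀ = z₀ * x)
    (hcc : ∀ c ∈ zc T, c ∈ CenX V R → Sig V R o c → c = 1 ∨ ∀ x ∈ X₂, x * c = c * x) : False := by
  have hna : ∀ {z : G}, z ∈ zc T → z ∈ CenX V R → z ≠ 1 → (∀ x ∈ X₂, x * z = z * x) →
      ¬ UM V (MP V R o z) ≤ QQ (R o) := fun hz hzX hz1 hXz =>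
    OtD.not_alpha b hr h hc zq hLE hz hzX hz1 h2 hXr hXz
  apply hne
  refine EndCore.main (OtD.htt b hr h hc zq) hLE hr h (fun _ c hcz hs => ?_) z₁ (OtD.mem_Z0 hz₁ hz₁X) z₀
    (OtD.mem_Z0 hz₀ hz₀X) h1 h0
  have hcX : c ∈ CenX V R := centralizer_le (fun x hx => mem_sup_right hx) hcz.2
  rcases hcc c hcz.1 hcX hs with h3 | h3
  · exact ⟨z₀, OtD.mem_Z0 hz₀ hz₀X, h0, Or.inl h3, hna hz₀ hz₀X h0 hXz⟩
  · by_cases h4 : c = 1
    · exact ⟨z₀, OtD.mem_Z0 hz₀ hz₀X, h0, Or.inl h4, hna hz₀ hz₀X h0 hXz⟩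
    · exact ⟨c, hcz, h4, Or.inr rfl, hna hcz.1 hcX h4 h3⟩

end inst

end Cfsg.Agent.Omega.HT.OtCore
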