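import Cfsg.Agent.Omega.HT.End
import Cfsg.Agent.Omega.HT.AlphaY

/-!
# II.0h1, `q = 2`, over a 2-group `S`: the abstract end, with `AlphaY` inserted

`false_of` : `HTT S P V R o`, LEMMA E, `S` of odd index in `⟨C(Ω₁Z(S)), X⟩`, two different elements of `Z₀#`, and for
every `c ∈ Z₀` with `Sig V R o c` an element `z ∈ Z₀#`, `c = 1` or `c = z`, with `Core V R o r z` and
`⟨r^{C(z r)}⟩` centralised by `V`: contradiction.
`false_of_odd` : the same with `S` of odd index in `⟨C(r) ∩ C(z), X⟩` instead of `Core`.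
-/

set_option autoImplicit false
set_option linter.unusedSectionVars false

namespace Cfsg.Agent.Omega.HT.Main

open Subgroup Cfsg Cfsg.Agent.ZN Cfsg.Agent.Omega.BTwo Cfsg.Agent.Omega.HT
open Cfsg.Agent.Omega.HTwo.ThmA (LE)
open Cfsg.Agent.Omega.HTwo.AlphaP (MP)

universe u

variable {G : Type u} [Group G] [Finite G] {ι : Type*} {S P V : Subgroup G}
  {R : ι → Subgroup G} {o : ι}

/-- `V` centralises `⟨r^{C(z r)}⟩` -/
def YV (V : Subgroup G) (r z : G) : Prop :=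
  ∀ g : G, g * (z * r) = z * r * g → ∀ v ∈ V, v * (g * r * g⁻¹) = g * r * g⁻¹ * v

/-- odd index in a larger subgroup -/
theorem odd_of_le {A B : Subgroup G} (hSA : S ≤ A) (hAB : A ≤ B) (h : ¬ 2 ∣ S.relIndex B) :
    ¬ 2 ∣ S.relIndex A := by
  intro h2
  apply h
  rw [← relIndex_mul_relIndex _ _ _ hSA hAB]
  exact h2.mul_right _

/-- **the abstract end over `S`** -/
theorem false_of_y (b : HTT S P V R o) (hLE : ∀ i, LE V R i) {r : G} (hr : ∀ x, x ∈ R o ↔ x = 1 ∨ x = r)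
    (hodd : ¬ 2 ∣ S.relIndex (JunAB.MZ S V R))
    (hz : ∀ c ∈ zc S ⊓ centralizer (P : Set G), Sig V R o c →
      ∃ z ∈ zc S ⊓ centralizer (P : Set G), z ≠ 1 ∧ (c = 1 ∨ c = z) ∧ Core V R o r z ∧ YV V r z)
    {x y : G} (hx : x ∈ zc S ⊓ centralizer (P : Set G)) (hy : y ∈ zc S ⊓ centralizer (P : Set G))
    (hx1 : x ≠ 1) (hy1 : y ≠ 1) (hxy : x ≠ y) : False := by
  refine hxy (main b hLE hr hodd (fun _ c hc hs => ?_) x hx y hy hx1 hy1)
  obtain ⟨z, hz, hz1, hcz, hcore, hY⟩ := hz c hc hs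
  exact ⟨z, hz, hz1, hcz, hcore,
    AlphaY.not_alpha b hr hLE hz hz1 (gsys_of_core b hr hz hz1 hcore) hY⟩

/-- **the abstract end over `S`**, `S` of odd index in `M_z` -/
theorem false_of_odd (b : HTT S P V R o) (hLE : ∀ i, LE V R i) {r : G} (hr : ∀ x, x ∈ R o ↔ x = 1 ∨ x = r)
    (hodd : ¬ 2 ∣ S.relIndex (JunAB.MZ S V R))
    (hz : ∀ c ∈ zc S ⊓ centralizer (P : Set G), Sig V R o c →
      ∃ z ∈ zc S ⊓ centralizer (P : Set G), z ≠ 1 ∧ (c = 1 ∨ c = z) ∧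
        ¬ 2 ∣ S.relIndex (MP V R o z) ∧ YV V r z)
    {x y : G} (hx : x ∈ zc S ⊓ centralizer (P : Set G)) (hy : y ∈ zc S ⊓ centralizer (P : Set G))
    (hx1 : x ≠ 1) (hy1 : y ≠ 1) (hxy : x ≠ y) : False := by
  refine false_of_y b hLE hr hodd (fun c hc hs => ?_) hx hy hx1 hy1 hxy
  obtain ⟨z, hz, hz1, hcz, ho, hY⟩ := hz c hc hs
  exact ⟨z, hz, hz1, hcz, core_of_odd b hr hz hz1 ho, hY⟩

/-- `S ≤ M_z` -/
theorem S_le_MP (b : HTT S P V R o) {z : G} (hz : z ∈ zc S ⊓ centralizer (P : Set G)) : S ≤ MP V R o z := by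
  intro s hs
  exact mem_sup_left (mem_inf.2 ⟨b.S_R hs, mem_centralizer_singleton_iff.2 ((mem_zc.1 hz.1).2.1 s hs)⟩)

end Cfsg.Agent.Omega.HT.Main
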