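import Cfsg.Agent.Omega.HT.LineOf
import Cfsg.Agent.Omega.HT.EndY

/-!
# LEMMA J, generic parts (bb OMEGA #20002, helper666)

* `Ln.cen_of` : `K` normalised by `X`, `N_K(V)` induces a 2-group on `V = {1, a, b, ab}`: `N_K(V) ≤ C(V)`;
* `loc_of` : `O₂(M) ≤ C(V)` from "`T` has odd index in `T K`";
* `core_of_J` : `Core` (`O₂(M / C_M(U)) = 1`) from the same.
-/

set_option autoImplicit false
set_option linter.unusedSectionVars false

namespace Cfsg.Agent.Omega.HT.LineOf

open Subgroup Cfsg Cfsg.Agent.ZN Cfsg.Agent.Omega.BTwo Cfsg.Agent.Omega.HT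
open Cfsg.Agent.Omega.HT.EntryTv Cfsg.Agent.Omega.HTwo.EntryTv
open Cfsg.Agent.Omega.HOne.TvDef
open Cfsg.Agent.Omega.HOneTwo (cl le_cl le_normalizer_cl UM)

universe u

variable {G : Type u} [Group G]

/-- `g` permutes the points like `σ` -/
def Act (a b : G) (g : G) (σ : Fin 3 → Fin 3) : Prop := ∀ i, g * dd a b i * g⁻¹ = dd a b (σ i)

theorem fun_cases : ∀ σ : Fin 3 → Fin 3, (∀ i j, σ i = σ j → i = j) → (∀ i, σ i = i) ∨ (∀ i, σ (σ (σ i)) = i) ∨
    ∃ i j l, i ≠ j ∧ i ≠ l ∧ j ≠ l ∧ σ i = i ∧ σ j = l ∧ σ l = j := by decide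

theorem mem_of_coprime {H : Subgroup G} {g : G} {m n : ℕ} (hmn : Nat.Coprime m n) (h1 : g ^ m ∈ H) (h2 : g ^ n ∈ H) :
    g ∈ H := by
  obtain ⟨u, v, e⟩ := Nat.isCoprime_iff_coprime.2 hmn
  have : g = (g ^ m) ^ u * (g ^ n) ^ v := by
    rw [← zpow_natCast g m, ← zpow_natCast g n, ← zpow_mul, ← zpow_mul, ← zpow_add, mul_comm (m : ℤ) u,
      mul_comm (n : ℤ) v, e, zpow_one]
  rw [this]
  exact mul_mem (zpow_mem h1 u) (zpow_mem h2 v)

namespace Ln

variable {a b : G} (h : Ln a b)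
include h

theorem exists_act {g : G} (hg : g ∈ normalizer (ln h : Set G)) : ∃ σ, Act a b g σ := by
  have h1 : ∀ i, ∃ j, g * dd a b i * g⁻¹ = dd a b j := by
    intro i
    have h1 : g * dd a b i * g⁻¹ ∈ ln h := BTwo.conj_mem_of_normalizer hg (h.dd_mem i)
    rcases h1 with e | ⟨j, e⟩
    · exact absurd (conj_eq_one_iff.1 e) (h.dd_ne i)
    · exact ⟨j, e⟩
  exact ⟨fun i => (h1 i).choose, fun i => (h1 i).choose_spec⟩

theorem act_inj {g : G} {σ : Fin 3 → Fin 3} (hg : Act a b g σ) : ∀ i j, σ i = σ j → i = j := by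
  intro i j e
  have h1 := (hg i).trans ((congrArg (dd a b) e).trans (hg j).symm)
  exact h.dd_inj (mul_left_cancel (mul_right_cancel h1))

theorem mem_cen_iff {g : G} : g ∈ centralizer (ln h : Set G) ↔ Act a b g id := by
  constructor
  · intro hg i
    rw [← mem_centralizer_iff.1 hg _ (h.dd_mem i)]
    exact mul_inv_cancel_right _ _
  · intro hg
    rw [mem_centralizer_iff]
    rintro x (rfl | ⟨i, rfl⟩)
    · rw [one_mul, mul_one]
    · exact (mul_inv_eq_iff_eq_mul.1 (hg i)).symm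

omit h in
theorem act_mul {g g' : G} {σ σ' : Fin 3 → Fin 3} (hg : Act a b g σ) (hg' : Act a b g' σ') :
    Act a b (g * g') (fun i => σ (σ' i)) := fun i => by
  calc g * g' * dd a b i * (g * g')⁻¹ = g * (g' * dd a b i * g'⁻¹) * g⁻¹ := by group
    _ = dd a b (σ (σ' i)) := by rw [hg' i, hg]

/-- a 3-cycle whose power `2 ^ n` is trivial -/
theorem cen_of_three {g : G} {σ : Fin 3 → Fin 3} (hg : Act a b g σ) (h3 : ∀ i, σ (σ (σ i)) = i) {n : ℕ}
    (hn : g ^ 2 ^ n ∈ centralizer (ln h : Set G)) : g ∈ centralizer (ln h : Set G) := by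
  refine mem_of_coprime (m := 2 ^ n) (n := 3) (Nat.Coprime.pow_left n (by norm_num)) hn ?_
  rw [h.mem_cen_iff]
  have h1 := act_mul (act_mul hg hg) hg
  intro i
  have e : g ^ 3 = g * g * g := by rw [pow_succ, pow_two]
  rw [e, h1 i]
  show dd a b (σ (σ (σ i))) = dd a b i
  rw [h3]

/-- `N_K(V)` centralises `V` -/
theorem cen_of (b' : BT (ln h) (pts a b)) {K : Subgroup G} (hX : XX (ln h) (pts a b) ≤ normalizer (K : Set G))
    (h2 : ∀ g ∈ K, g ∈ normalizer (ln h : Set G) → ∃ n : ℕ, g ^ 2 ^ n ∈ centralizer (ln h : Set G)) {g : G}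
    (hgK : g ∈ K) (hgN : g ∈ normalizer (ln h : Set G)) : g ∈ centralizer (ln h : Set G) := by
  obtain ⟨σ, hσ⟩ := h.exists_act hgN
  obtain ⟨n, hn⟩ := h2 g hgK hgN
  rcases fun_cases σ (h.act_inj hσ) with h0 | h0 | ⟨i, j, l, hij, hil, hjl, e1, e2, e3⟩
  · rw [h.mem_cen_iff]
    intro i
    rw [hσ i, h0 i]
    rfl
  · exact h.cen_of_three hσ h0 hn
  · exfalso
    obtain ⟨y, hy, f1, f2⟩ := b'.trans_X (i := i) (j := j) (k := j) (l := l) hij hjl
    have conv : ∀ {i j : Fin 3}, cj y (pts a b i) = pts a b j → y * dd a b i * y⁻¹ = dd a b j := by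
      intro i j e
      have h1 : y * dd a b i * y⁻¹ ∈ pts a b j := by rw [← e]; exact conj_mem_cj (mem_zpowers _)
      exact (h.mem_pts.1 h1).resolve_left fun e => h.dd_ne i (conj_eq_one_iff.1 e)
    have g1 := conv f1
    have g2 := conv f2
    have g3 : y * dd a b l * y⁻¹ = dd a b i := by
      rw [← h.dd_mul hij hil hjl]
      calc y * (dd a b i * dd a b j) * y⁻¹ = (y * dd a b i * y⁻¹) * (y * dd a b j * y⁻¹) := by group
        _ = dd a b i := by rw [g1, g2]; exact h.dd_mul hjl hij.symm hil.symm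
    have inv : ∀ {i j : Fin 3}, y * dd a b i * y⁻¹ = dd a b j → y⁻¹ * dd a b j * y = dd a b i := by
      intro i j e; rw [← e]; group
    -- the conjugate
    obtain ⟨g', hg'⟩ : ∃ g', g' = y * g * y⁻¹ := ⟨_, rfl⟩
    have hg'K : g' ∈ K := by rw [hg']; exact BTwo.conj_mem_of_normalizer (hX hy) hgK
    have k1 : g' * dd a b j * g'⁻¹ = dd a b j := by
      calc g' * dd a b j * g'⁻¹ = y * (g * (y⁻¹ * dd a b j * y) * g⁻¹) * y⁻¹ := by rw [hg']; group
        _ = dd a b j := by rw [inv g1, hσ, e1, g1]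
    have k2 : g' * dd a b l * g'⁻¹ = dd a b i := by
      calc g' * dd a b l * g'⁻¹ = y * (g * (y⁻¹ * dd a b l * y) * g⁻¹) * y⁻¹ := by rw [hg']; group
        _ = dd a b i := by rw [inv g2, hσ, e2, g3]
    have k3 : g' * dd a b i * g'⁻¹ = dd a b l := by
      calc g' * dd a b i * g'⁻¹ = y * (g * (y⁻¹ * dd a b i * y) * g⁻¹) * y⁻¹ := by rw [hg']; group
        _ = dd a b l := by rw [inv g3, hσ, e3, g2]
    -- the 3-cycle `g g'`
    have m1 : g * g' * dd a b i * (g * g')⁻¹ = dd a b j := by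
      calc g * g' * dd a b i * (g * g')⁻¹ = g * (g' * dd a b i * g'⁻¹) * g⁻¹ := by group
        _ = dd a b j := by rw [k3, hσ, e3]
    have m2 : g * g' * dd a b j * (g * g')⁻¹ = dd a b l := by
      calc g * g' * dd a b j * (g * g')⁻¹ = g * (g' * dd a b j * g'⁻¹) * g⁻¹ := by group
        _ = dd a b l := by rw [k1, hσ, e2]
    have m3 : g * g' * dd a b l * (g * g')⁻¹ = dd a b i := by
      calc g * g' * dd a b l * (g * g')⁻¹ = g * (g' * dd a b l * g'⁻¹) * g⁻¹ := by group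
        _ = dd a b i := by rw [k2, hσ, e1]
    have hg'N : g' ∈ normalizer (ln h : Set G) := by
      rw [hg']
      exact mul_mem (mul_mem (b'.X_le_NV hy) hgN) (inv_mem (b'.X_le_NV hy))
    have hNN : g * g' ∈ normalizer (ln h : Set G) := mul_mem hgN hg'N
    obtain ⟨τ, hτ⟩ := h.exists_act hNN
    obtain ⟨n', hn'⟩ := h2 _ (mul_mem hgK hg'K) hNN
    have t1 : τ i = j := h.dd_inj ((hτ i).symm.trans m1)
    have t2 : τ j = l := h.dd_inj ((hτ j).symm.trans m2)
    have t3 : τ l = i := h.dd_inj ((hτ l).symm.trans m3)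
    have hall : ∀ s : Fin 3, s = i ∨ s = j ∨ s = l := by
      intro s
      by_cases s1 : s = i
      · exact Or.inl s1
      by_cases s2 : s = j
      · exact Or.inr (Or.inl s2)
      · exact Or.inr (Or.inr (third_eq hij.symm hil.symm hjl s1 s2))
    have h3 : ∀ s, τ (τ (τ s)) = s := by
      intro s
      rcases hall s with rfl | rfl | rfl
      · rw [t1, t2, t3]
      · rw [t2, t3, t1]
      · rw [t3, t1, t2]
    have h4 := h.cen_of_three hτ h3 hn'
    rw [h.mem_cen_iff] at h4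
    exact hij (h.dd_inj ((h4 i).symm.trans m1))

end Ln

section J

variable [Finite G] {ι : Type*} {S P V : Subgroup G} {R : ι → Subgroup G} {o : ι}

/-- **`Core` from LEMMA J** -/
theorem core_of_J (b : HTT S P V R o) {r : G} (hr : ∀ x, x ∈ R o ↔ x = 1 ∨ x = r) {z : G}
    (hz : z ∈ zc S ⊓ centralizer (P : Set G))
    (hJ : ∀ K : Subgroup G, S ≤ normalizer (K : Set G) → XX V R ≤ normalizer (K : Set G) →
      (∀ g ∈ K, ∃ n : ℕ, g ^ 2 ^ n ∈ centralizer (V : Set G)) → ¬ 2 ∣ S.relIndex (S ⊔ K)) :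
    Main.Core V R o r z := by
  unfold Main.Core
  intro B hB hn h2
  have hr1 : r ≠ 1 := Two.r_ne b hr
  have hE : zpowers z ≤ zc S ⊓ centralizer (P : Set G) := by rw [zpowers_le]; exact hz
  obtain ⟨M, hM⟩ : ∃ M, M = ME V R o (zpowers z) := ⟨_, rfl⟩
  obtain ⟨U, hU⟩ : ∃ U, U = UU M r := ⟨_, rfl⟩
  rw [← hM] at hB hn h2 ⊢
  rw [← hU] at h2 ⊢
  have hSM : S ≤ M := by rw [hM]; exact S_le_ME b hE
  have hXM : XX V R ≤ M := by rw [hM]; exact X_le_ME b
  have hMB : M ≤ normalizer (B : Set G) := fun m hm => BTwo.mem_normalizer_of_conj fun x hx => hn m hm x hx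
  have hMU : M ≤ normalizer (U : Set G) := fun m hm => BTwo.mem_normalizer_of_conj fun u hu => by
    rw [hU, hM] at hu ⊢
    rw [hM] at hm
    exact M_norm_UU b hr hr1 hE hm hu
  have hVU : V ≤ U := by
    rw [hU, UU_eq b hr hr1 hE hXM]
    exact le_cl _ _
  have hrU : r ∈ U := by rw [hU]; exact Om_le_UU Om_base
  have hodd := hJ B (hSM.trans hMB) (hXM.trans hMB) fun g hg => ⟨1, by
    rw [pow_one, pow_two, mem_centralizer_iff]
    exact fun v hv => (h2 g hg v (hVU hv)).symm⟩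
  have hle : S ⊔ B ≤ M := sup_le hSM hB
  -- `B` centralises `r`
  have key : ∀ x ∈ B, x * r = r * x := by
    intro x hx
    obtain ⟨s, hs, c, hc, rfl⟩ := HOne.TvHSide.exists_mul (H := S ⊔ B) (C := centralizer (U : Set G)) (K := B) b.S_p hodd
      ((hle.trans hMU).trans (normalizer_le_normalizer_centralizer _)) le_sup_right
      (hSM.trans hMB) (fun y hy => ⟨1, by
        rw [pow_one, pow_two, mem_centralizer_iff]
        exact fun v hv => (h2 y hy v hv).symm⟩) hx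
    have hsr : s * r = r * s := by
      have h1 := b.S_R hs
      rw [normalizer_eq b hr] at h1
      exact mem_centralizer_singleton_iff.1 h1
    have hcr : c * r = r * c := (mem_centralizer_iff.1 hc r hrU).symm
    rw [mul_assoc, hcr, ← mul_assoc, hsr, mul_assoc]
  intro x hx u hu
  have hle2 : U ≤ centralizer ({x} : Set G) := by
    rw [hU]
    show closure (Om M r) ≤ _
    rw [closure_le]
    rintro _ ⟨m, hm, rfl⟩
    refine mem_centralizer_singleton_iff.2 ?_
    have h1 : m⁻¹ * x * m ∈ B := by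
      have := hn m⁻¹ (inv_mem hm) x hx
      rwa [inv_inv] at this
    have h3 := key _ h1
    calc m * r * m⁻¹ * x = m * (r * (m⁻¹ * x * m)) * m⁻¹ := by group
      _ = m * (m⁻¹ * x * m * r) * m⁻¹ := by rw [h3]
      _ = x * (m * r * m⁻¹) := by group
  exact (mem_centralizer_singleton_iff.1 (hle2 hu)).symm

end J

/-- **`loc` from LEMMA J** -/
theorem loc_of [Finite G] {a b : G} (h : Ln a b) (b' : BT (ln h) (pts a b)) {T : Subgroup G} (hT : IsPGroup 2 T)
    (hTV : T ≤ normalizer (ln h : Set G))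
    (hJ : ∀ K : Subgroup G, T ≤ normalizer (K : Set G) → XX (ln h) (pts a b) ≤ normalizer (K : Set G) →
      (∀ g ∈ K, ∃ n : ℕ, g ^ 2 ^ n ∈ centralizer (ln h : Set G)) → ¬ 2 ∣ T.relIndex (T ⊔ K)) {M : Subgroup G}
    (hTM : T ≤ M) (hXM : XX (ln h) (pts a b) ≤ M) : o2 M ≤ centralizer (ln h : Set G) := by
  have hn := le_normalizer_o2 M
  have hp : ∀ g ∈ o2 M, ∃ n : ℕ, g ^ 2 ^ n ∈ centralizer (ln h : Set G) := by
    intro g hg
    obtain ⟨n, e⟩ := (MinSimple.VModule.o2_isPGroup M) ⟨g, hg⟩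
    refine ⟨n, ?_⟩
    have e1 : g ^ 2 ^ n = 1 := by simpa using congrArg Subtype.val e
    rw [e1]; exact one_mem _
  have hodd := hJ (o2 M) (hTM.trans hn) (hXM.trans hn) hp
  have h1 : IsPGroup 2 (T ⊔ o2 M : Subgroup G) :=
    IsPGroup.to_sup_of_normal_right' hT (MinSimple.VModule.o2_isPGroup M) (hTM.trans hn)
  have h2 := card_dvd_card le_sup_left hodd h1 le_rfl
  have h3 : T = T ⊔ o2 M := eq_of_le_of_card_ge le_sup_left (Nat.le_of_dvd Nat.card_pos h2)
  have hle : o2 M ≤ T := le_sup_right.trans h3.symm.le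
  intro g hg
  exact h.cen_of b' (hXM.trans hn) (fun g hg _ => hp g hg) hg (hTV (hle hg))

end Cfsg.Agent.Omega.HT.LineOf
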