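import Cfsg.Agent.Omega.HOneTwo.BSTrick
import Cfsg.Agent.Omega.HT.Basic

/-!
# The BS-trick over a 2-group `S` which is Sylow in `N(R o)` (not in `G`)

Port of `HOneTwo/BSTrick` to `HTT S P V R o`:
* `exists_A` : the 2-group `O₂(C(f)) ≥ U` for `1 ≠ f` centralised by `M ≥ S, X`;
* `eq_z` : `TvH M r t Q N`, `JConst M r t Q N c`, `JEnd M r Q N c`, `S, X ≤ M ≤ C(z)`, `z ∈ Z₀`,
  `N r = ⟨Z₀^{C(r)}⟩` : `c = z`;
* `jend` : `JEnd M r Q N z`.
-/

set_option autoImplicit false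

namespace Cfsg.Agent.Omega.HT.BSTrick

open Subgroup Cfsg Cfsg.Agent.ZN Cfsg.Agent.Omega.MinPar
open Cfsg.Agent.Omega.BTwo hiding UU
open Cfsg.Agent.MinSimple.VModule (o2_isPGroup)
open Cfsg.Agent.Omega.HOne.TvDef
open Cfsg.Agent.Omega.HOne.TvHSide (red_of)
open Cfsg.Agent.Omega.HOneTwo.BSTrick (le_normalizer_N eq_of)

universe u

variable {G : Type u} [Group G] [Finite G] {ι : Type*} {S P V : Subgroup G} {R : ι → Subgroup G} {o : ι}
  {M : Subgroup G} {r t z c : G} {Q N : G → Subgroup G}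

/-- `O₂(C(f)) ≥ U` -/
theorem exists_A (b : HTT S P V R o) (hSM : S ≤ M) (hXM : XX V R ≤ M) (hr : r ∈ R o) {f : G}
    (hff : f * f = 1) (hf1 : f ≠ 1) (hMf : ∀ m ∈ M, m * f = f * m) :
    ∃ A : Subgroup G, IsPGroup 2 A ∧ UU M r ≤ A ∧ ∀ x, x * f = f * x → ∀ a ∈ A, x * a * x⁻¹ ∈ A := by
  have hM : M ≤ centralizer ({f} : Set G) := by
    intro m hm
    rw [mem_centralizer_singleton_iff]
    exact hMf m hm
  have hloc : TLoc S (centralizer ({f} : Set G)) :=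
    TLoc.centralizer (by rw [sq]; exact hff) hf1 (hSM.trans hM)
  have h2 := hloc.char2 b.char2
  have h3 := b.loc _ (hSM.trans hM) (hXM.trans hM) hloc.o2_ne h2
  have hrV : r ∈ V := b.R_le o hr
  have hrf : r ∈ centralizer ({f} : Set G) :=
    hM (hSM (b.V_le_S hrV))
  have hrc : r ∈ centralizer (o2 (centralizer ({f} : Set G)) : Set G) := by
    rw [mem_centralizer_iff]
    intro y hy
    exact (mem_centralizer_iff.1 (h3 hy) r hrV).symm
  have hro : r ∈ o2 (centralizer ({f} : Set G)) := h2 ⟨hrf, hrc⟩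
  refine ⟨o2 (centralizer ({f} : Set G)), o2_isPGroup _, ?_, ?_⟩
  · unfold UU
    rw [closure_le]
    rintro _ ⟨m, hm, rfl⟩
    exact (mem_normalizer_iff.1 (MinSimple.VModule.le_normalizer_o2 _ (hM hm)) r).1 hro
  · intro x hx a ha
    exact (mem_normalizer_iff.1 (MinSimple.VModule.le_normalizer_o2 _
      ((mem_centralizer_singleton_iff).2 hx)) a).1 ha

omit [Finite G] in
/-- `N(R o) = C(r)` -/
theorem normalizer_eq (b : HTT S P V R o) (hr : ∀ x, x ∈ R o ↔ x = 1 ∨ x = r) :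
    normalizer (R o : Set G) = centralizer ({r} : Set G) := by
  have hrR : r ∈ R o := (hr r).2 (Or.inr rfl)
  apply le_antisymm
  · intro x hx
    rw [mem_centralizer_singleton_iff]
    exact (mem_centralizer_iff.1 (HOneTwo.normalizer_le_cen_of_card (b.card_R o) hx) r hrR).symm
  · intro x hx
    rw [mem_centralizer_singleton_iff] at hx
    refine centralizer_le_normalizer _ ?_
    rw [mem_centralizer_iff]
    intro y hy
    rcases (hr y).1 hy with rfl | rfl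
    · rw [one_mul, mul_one]
    · exact hx.symm

/-- **`c₀ = z` over `T`** -/
theorem eq_z (b : HTT S P V R o) (hr : ∀ x, x ∈ R o ↔ x = 1 ∨ x = r) (h : TvH M r t Q N)
    (hc : JConst M r t Q N c) (hE : JEnd M r Q N c) {Z₀ : Set G} (hSM : S ≤ M) (hXM : XX V R ≤ M)
    (hZS : ∀ x ∈ S, ∀ y ∈ Z₀, x * y = y * x) (hZN : Z₀ ⊆ N r)
    (hNN : N r ≤ closure {x | ∃ g ∈ centralizer ({r} : Set G), ∃ y ∈ Z₀, g * y * g⁻¹ = x})
    (hz : z ∈ Z₀) (hz1 : z ≠ 1) (hzz : z * z = 1) (hMz : ∀ m ∈ M, m * z = z * m) : c = z := by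
  have hrR : r ∈ R o := (hr r).2 (Or.inr rfl)
  have hN := normalizer_eq b hr
  have hSr : S ≤ centralizer ({r} : Set G) := by rw [← hN]; exact b.S_R
  have hodd : ¬ 2 ∣ S.relIndex (centralizer ({r} : Set G)) := by rw [← hN]; exact b.S_odd
  exact eq_of h hc hE (red_of hSr b.S_p hodd hZS (le_normalizer_N h) hZN hNN) (hZN hz) hz1 hzz hMz
    fun f hff hf1 hMf => exists_A b hSM hXM hrR hff hf1 hMf

/-- `JEnd` for the constant `z` -/
theorem jend (b : HTT S P V R o) (hr : ∀ x, x ∈ R o ↔ x = 1 ∨ x = r) (h : TvH M r t Q N)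
    (hm : ∃ c, JConst M r t Q N c ∧ JEnd M r Q N c) {Z₀ : Set G} (hSM : S ≤ M) (hXM : XX V R ≤ M)
    (hZS : ∀ x ∈ S, ∀ y ∈ Z₀, x * y = y * x) (hZN : Z₀ ⊆ N r)
    (hNN : N r ≤ closure {x | ∃ g ∈ centralizer ({r} : Set G), ∃ y ∈ Z₀, g * y * g⁻¹ = x})
    (hz : z ∈ Z₀) (hz1 : z ≠ 1) (hzz : z * z = 1) (hMz : ∀ m ∈ M, m * z = z * m) :
    JEnd M r Q N z := by
  obtain ⟨c, hc, hE⟩ := hm
  rw [← eq_z b hr h hc hE hSM hXM hZS hZN hNN hz hz1 hzz hMz]
  exact hE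

end Cfsg.Agent.Omega.HT.BSTrick
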