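import Cfsg.Agent.Omega.HT.FillA
import Cfsg.Agent.Omega.HT.AlphaP

/-!
# `HTT`: `O₂(M / C_M(U)) = 1` if `|S|` is at least half the order of every 2-subgroup

* `core_X` : for `M ≥ S, X`, `U = ⟨(R o)^M⟩` elementary abelian (703's `FillA` for `HTT`);
* `core_Y` : two situations `b`, `b₂` over the same `S`; `M ≥ S, X₂`: for `⟨(R o)^M⟩ ⟨(R₂ o₂)^M⟩`;
* `gsys_X`, `gsys_MP`, `exists_Y` : the structures `GSysW`; `not_alpha_two`.
-/

set_option autoImplicit false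
set_option linter.unusedSectionVars false

namespace Cfsg.Agent.Omega.HT.Core

open Subgroup Cfsg Cfsg.Agent.ZN Cfsg.Agent.Omega.BTwo
open Cfsg.Agent.Omega.MinPar Cfsg.Agent.Omega.HOneTwo Cfsg.Agent.Omega.HT.TComp
open Cfsg.Agent.Omega.HTwo.AlphaFive (mem_C)
open Cfsg.Agent.Omega.HTwo.AlphaP (MP)
open Cfsg.Agent.Omega.HTwo.ThmA (LE)

universe u

variable {G : Type u} [Group G] [Finite G] {ι : Type*} {S P V : Subgroup G} {R : ι → Subgroup G} {o : ι}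

/-- a 2-group `U ≤ N` normalised by `S`, `S` of odd index in `N` -/
theorem le_of_odd {S U N : Subgroup G} (hS : IsPGroup 2 S) (hSN : S ≤ N) (hodd : ¬ 2 ∣ S.relIndex N)
    (hU : IsPGroup 2 U) (hUN : U ≤ N) (hSU : S ≤ normalizer (U : Set G)) : U ≤ S := by
  have h1 : IsPGroup 2 (U ⊔ S : Subgroup G) := IsPGroup.to_sup_of_normal_left' hU hS hSU
  have h2 := card_dvd_card hSN hodd h1 (sup_le hUN hSN)
  have h3 : S = U ⊔ S := eq_of_le_of_card_ge le_sup_right (Nat.le_of_dvd Nat.card_pos h2)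
  rw [h3]
  exact le_sup_left

/-- squares 1 -/
theorem comm_of_sq {N : Subgroup G} (sq : ∀ x ∈ N, x * x = 1) {x y : G} (hx : x ∈ N) (hy : y ∈ N) :
    x * y = y * x := by
  have e1 := sq _ (N.mul_mem hx hy)
  calc x * y = x * (x * y * (x * y)) * y := by rw [e1, mul_one]
    _ = (x * x) * (y * x) * (y * y) := by group
    _ = y * x := by rw [sq x hx, sq y hy, one_mul, mul_one]

theorem isPGroup_of_sq {N : Subgroup G} (sq : ∀ x ∈ N, x * x = 1) : IsPGroup 2 N := by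
  intro x
  refine ⟨1, ?_⟩
  rw [pow_one, pow_two]
  exact Subtype.ext (sq _ x.2)

variable (b : HTT S P V R o)
include b

/-- `⟨(R o)^M⟩ ≤ S` if it is elementary abelian -/
theorem cl_le_S {M : Subgroup G} (hSM : S ≤ M) (sq : ∀ x ∈ cl (R o) M, x * x = 1) : cl (R o) M ≤ S := by
  refine le_of_odd b.S_p b.S_R b.S_odd (isPGroup_of_sq sq) ?_ (hSM.trans (le_normalizer_cl _ _))
  refine le_trans ?_ (centralizer_le_normalizer _)
  intro x hx
  rw [mem_centralizer_iff]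
  intro y hy
  exact comm_of_sq sq (le_cl _ _ hy) hx

/-- **FILL-IN (a)** for `HTT`: `O₂(M / C_M(U)) = 1`, `U = ⟨(R o)^M⟩` -/
theorem core_X (hcard : ∀ Q : Subgroup G, IsPGroup 2 Q → Nat.card Q ≤ 2 * Nat.card S) {M : Subgroup G}
    (hSM : S ≤ M) (hXM : XX V R ≤ M) (sq : ∀ x ∈ cl (R o) M, x * x = 1)
    (B : Subgroup G) (hB : B ≤ M) (hn : ∀ m ∈ M, ∀ b ∈ B, m * b * m⁻¹ ∈ B)
    (h2 : ∀ b ∈ B, ∀ u ∈ cl (R o) M, b * b * u = u * (b * b)) : ∀ b ∈ B, ∀ u ∈ cl (R o) M, b * u = u * b := by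
  obtain ⟨r, hr1, hrr, hr⟩ := b.exists_gen o
  have hrR : r ∈ R o := (hr r).2 (Or.inr rfl)
  have hrV : r ∈ V := b.R_le o hrR
  have hSr : ∀ s ∈ S, s * r = r * s := fun s hs =>
    (mem_centralizer_iff.1 (normalizer_le_cen_of_card (b.card_R o) (b.S_R hs)) r hrR).symm
  have hVU : V ≤ cl (R o) M := by
    rw [b.cl_R_eq (fun i => b.trans_of_X hXM i)]
    exact le_cl V M
  obtain ⟨j, -, hj, -, -⟩ := b.one_lt
  obtain ⟨a, haj, ha1⟩ := b.exists_ne j
  refine FillA.fillA (M := M) (T := S) (U := cl (R o) M) (A := ⊥) (V := V) (D := zc S ⊓ centralizer (P : Set G))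
    (p := r) (a := a) b.S_p hSM hSr ?_ hcard ?_ sq (cl_le_S b hSM sq) ?_ hVU hrV hr1 (b.R_le j haj) ha1 ?_ ?_ ?_ ?_ ?_ ?_
    B hB hn h2
  · intro h
    apply b.S_odd
    have h1 : S ≤ M ⊓ centralizer ({r} : Set G) := fun s hs => ⟨hSM hs, mem_C.2 (hSr s hs)⟩
    have h3 : M ⊓ centralizer ({r} : Set G) ≤ normalizer (R o : Set G) := by
      rintro g ⟨-, hg⟩
      refine centralizer_le_normalizer _ (mem_centralizer_iff.2 fun x hx => ?_)
      rcases (hr x).1 hx with rfl | rfl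
      · rw [one_mul, mul_one]
      · exact (mem_C.1 hg).symm
    rw [← relIndex_mul_relIndex _ _ _ h1 h3]
    exact Dvd.dvd.mul_right h _
  · intro m hm u hu
    exact conj_mem_of_normalizer (le_normalizer_cl _ _ hm) hu
  · refine cl_le ?_ ?_
    · intro x hx
      rcases (hr x).1 hx with rfl | rfl
      · exact one_mem _
      · exact subset_closure ⟨1, one_mem _, by group⟩
    · intro m hm
      refine HOne.TvHSide.le_normalizer_of (A := M) (fun m hm x hx => ?_) hm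
      have h1 : closure {x | ∃ m ∈ M, x = m * r * m⁻¹} ≤
          (closure {x | ∃ m ∈ M, x = m * r * m⁻¹}).comap (MulAut.conj m).toMonoidHom := by
        rw [closure_le]
        rintro _ ⟨k, hk, rfl⟩
        refine subset_closure ⟨m * k, mul_mem hm hk, ?_⟩
        change m * (k * r * k⁻¹) * m⁻¹ = _
        group
      exact h1 hx
  · rintro rfl
    exact hr1 (b.eq_one (Ne.symm hj) hrR haj)
  · intro t ht v hv
    exact conj_mem_of_normalizer (b.S_V ht) hv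
  · intro v hv hv1
    obtain ⟨i, hi⟩ := b.R_cov v hv
    obtain ⟨x, hx, e⟩ := b.trans_X_one o i
    refine ⟨x, hXM hx, fun d hd => ?_, fun w hw => conj_mem_of_normalizer (b.P_V (b.X_le_P hx)) hw, ?_⟩
    · exact mem_centralizer_iff.1 hd.2 x (b.X_le_P hx)
    · have h1 : x * r * x⁻¹ ∈ R i := by rw [← e]; exact conj_mem_cj hrR
      exact (eq_of_card_two (b.card_R i) hi hv1 h1 (fun h => hr1 (conj_eq_one_iff.1 h)))
  · intro d hd hdV
    have h1 : d ∈ V ⊓ (zc S ⊓ centralizer (P : Set G)) := ⟨hdV, hd⟩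
    rw [b.R_inf_cz] at h1
    exact mem_bot.1 h1
  · intro y hy
    rw [mem_bot.1 hy]
    exact ⟨one_mem _, by rw [one_mul, mul_one]⟩
  · intro c hc hcc hcS _
    have h1 : c ∈ zc S := mem_zc.2 ⟨hc, fun s hs => hcS s hs, by rw [pow_two]; exact hcc⟩
    obtain ⟨ρ, hρ, d, hd, rfl⟩ := b.exists_zc h1
    refine ⟨d, hd, ?_⟩
    rcases (hr ρ).1 hρ with rfl | rfl
    · exact Or.inl (one_mul _)
    · exact Or.inr rfl

/-- `GSysW` for `M ≥ S, X` -/
theorem gsys_X (hcard : ∀ Q : Subgroup G, IsPGroup 2 Q → Nat.card Q ≤ 2 * Nat.card S) {r : G} (hr1 : r ≠ 1)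
    (hr : r ∈ R o) {M : Subgroup G} (hSM : S ≤ M) (hXM : XX V R ≤ M) (sq : ∀ x ∈ cl (R o) M, x * x = 1) :
    GSysW M (cl (R o) M) r := by
  have nor : ∀ c ∈ M, ∀ n ∈ cl (R o) M, c * n * c⁻¹ ∈ cl (R o) M := fun c hc n hn =>
    conj_mem_of_normalizer (le_normalizer_cl _ _ hc) hn
  refine ⟨sq, nor, le_cl _ _ hr, hr1, ?_⟩
  intro U hU hCU c hc h2 h3
  exact chain_of_core sq nor (core_X b hcard hSM hXM sq) hU hCU hc h2 h3

/-- the closure is elementary abelian for `X, S ≤ M ≤ C(z)` -/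
theorem sq_of_le {M : Subgroup G} {z : G} (hz : z ∈ zc S ⊓ centralizer (P : Set G)) (hz1 : z ≠ 1)
    (hM : M ≤ centralizer ({z} : Set G)) : ∀ x ∈ cl (R o) M, x * x = 1 := by
  intro x hx
  have h1 : cl (R o) M ≤ cl V (centralizer ({z} : Set G)) := by
    refine cl_le ((b.R_le o).trans (le_cl _ _)) (hM.trans (le_normalizer_cl _ _))
  have h3 := b.cl_V_le (b.isLoc_cen hz.1 hz1) (b.X_le_cen hz) (h1 hx)
  rw [← pow_two]
  exact (mem_zc.1 h3).2.2

/-- `GSysW` for `X, S ≤ M ≤ C(z)` -/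
theorem gsys_of_le (hcard : ∀ Q : Subgroup G, IsPGroup 2 Q → Nat.card Q ≤ 2 * Nat.card S) {r : G} (hr1 : r ≠ 1)
    (hr : r ∈ R o) {M : Subgroup G} (hSM : S ≤ M) (hXM : XX V R ≤ M) {z : G}
    (hz : z ∈ zc S ⊓ centralizer (P : Set G)) (hz1 : z ≠ 1) (hM : M ≤ centralizer ({z} : Set G)) :
    GSysW M (cl (R o) M) r :=
  gsys_X b hcard hr1 hr hSM hXM (sq_of_le b hz hz1 hM)

theorem S_le_MP {z : G} (hz : z ∈ zc S ⊓ centralizer (P : Set G)) : S ≤ MP V R o z := by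
  refine le_trans ?_ le_sup_left
  intro s hs
  exact ⟨b.S_R hs, mem_C.2 ((mem_zc.1 hz.1).2.1 s hs)⟩

theorem MP_le {z : G} (hz : z ∈ zc S ⊓ centralizer (P : Set G)) :
    MP V R o z ≤ centralizer ({z} : Set G) :=
  sup_le inf_le_right (b.X_le_cen hz)

/-- the hypothesis `hsysM` of `AlphaP.not_alpha'` -/
theorem gsys_MP (hcard : ∀ Q : Subgroup G, IsPGroup 2 Q → Nat.card Q ≤ 2 * Nat.card S) {r : G} (hr1 : r ≠ 1)
    (hr : r ∈ R o) {z : G} (hz : z ∈ zc S ⊓ centralizer (P : Set G)) (hz1 : z ≠ 1) :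
    GSysW (MP V R o z) (cl (R o) (MP V R o z)) r :=
  gsys_of_le b hcard hr1 hr (S_le_MP b hz) le_sup_right hz hz1 (MP_le b hz)

/-- the core statement for `MP` -/
theorem core_MP (hcard : ∀ Q : Subgroup G, IsPGroup 2 Q → Nat.card Q ≤ 2 * Nat.card S) {z : G}
    (hz : z ∈ zc S ⊓ centralizer (P : Set G)) (hz1 : z ≠ 1)
    (B : Subgroup G) (hB : B ≤ MP V R o z) (hn : ∀ m ∈ MP V R o z, ∀ b ∈ B, m * b * m⁻¹ ∈ B)
    (h2 : ∀ b ∈ B, ∀ u ∈ cl (R o) (MP V R o z), b * b * u = u * (b * b)) :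
    ∀ b ∈ B, ∀ u ∈ cl (R o) (MP V R o z), b * u = u * b :=
  core_X b hcard (S_le_MP b hz) le_sup_right (sq_of_le b hz hz1 (MP_le b hz)) B hB hn h2

section Y

variable {ι₂ : Type*} {P₂ V₂ : Subgroup G} {R₂ : ι₂ → Subgroup G} {o₂ : ι₂} (b₂ : HTT S P₂ V₂ R₂ o₂)
include b₂

/-- the core for `⟨(R o)^M⟩ ⟨(R₂ o₂)^M⟩`, `M ≥ S, X₂` -/
theorem core_Y (hcard : ∀ Q : Subgroup G, IsPGroup 2 Q → Nat.card Q ≤ 2 * Nat.card S) {M : Subgroup G}
    (hSM : S ≤ M) (hXM : XX V₂ R₂ ≤ M) (sq₂ : ∀ x ∈ cl (R₂ o₂) M, x * x = 1)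
    (B : Subgroup G) (hB : B ≤ M) (hn : ∀ m ∈ M, ∀ b ∈ B, m * b * m⁻¹ ∈ B)
    (h2 : ∀ b ∈ B, ∀ u ∈ cl (R o) M ⊔ cl (R₂ o₂) M, b * b * u = u * (b * b)) :
    ∀ b ∈ B, ∀ u ∈ cl (R o) M ⊔ cl (R₂ o₂) M, b * u = u * b := by
  have h3 : ∀ b ∈ B, ∀ u ∈ cl (R₂ o₂) M, b * u = u * b :=
    core_X b₂ hcard hSM hXM sq₂ B hB hn (fun b hb u hu => h2 b hb u (mem_sup_right hu))
  -- `B ≤ N(R₂ o₂)`
  have hBN : B ≤ normalizer (R₂ o₂ : Set G) := by
    intro x hx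
    refine centralizer_le_normalizer _ (mem_centralizer_iff.2 fun y hy => ?_)
    exact (h3 x hx y (le_cl _ _ hy)).symm
  have hSo : ¬ 2 ∣ S.relIndex (M ⊓ normalizer (R₂ o₂ : Set G)) := by
    intro h
    apply b₂.S_odd
    rw [← relIndex_mul_relIndex _ _ _ (le_inf hSM b₂.S_R) inf_le_right]
    exact Dvd.dvd.mul_right h _
  have hSA : S ≤ centralizer (R o : Set G) := b.S_R.trans (normalizer_le_cen_of_card (b.card_R o))
  have hle : cl (R o) (M ⊓ normalizer (R₂ o₂ : Set G)) ≤ cl (R o) M :=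
    cl_le (le_cl _ _) (inf_le_left.trans (le_normalizer_cl _ _))
  have h4 := core_of_T (T := S) (C := M ⊓ normalizer (R₂ o₂ : Set G)) (A := R o) (le_inf hSM b₂.S_R) b.S_p hSo hSA
    B (le_inf hB hBN) (fun c hc x hx => hn c hc.1 x hx)
    (fun x hx n hn' => h2 x hx n (mem_sup_left (hle hn')))
  have h5 : ∀ x ∈ B, ∀ u ∈ cl (R o) M, x * u = u * x := by
    intro x hx u hu
    have h6 : cl (R o) M ≤ centralizer (B : Set G) := by
      refine cl_le ?_ ?_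
      · intro y hy
        rw [mem_centralizer_iff]
        intro c hc
        exact h4 c hc y (le_cl _ _ hy)
      · intro m hm
        refine normalizer_le_normalizer_centralizer _ ?_
        exact HOne.TvHSide.le_normalizer_of (A := M) (fun m hm x hx => hn m hm x hx) hm
    exact mem_centralizer_iff.1 (h6 hu) x hx
  intro x hx u hu
  have h6 : cl (R o) M ⊔ cl (R₂ o₂) M ≤ centralizer ({x} : Set G) := by
    refine sup_le ?_ ?_
    · intro y hy
      exact mem_C.2 (h5 x hx y hy).symm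
    · intro y hy
      exact mem_C.2 (h3 x hx y hy).symm
  exact (mem_C.1 (h6 hu)).symm

/-- the module `Y = ⟨(R o)^C⟩ ⟨(R₂ o₂)^C⟩` for `C = C(y)`, `y` an involution centralised by `S` and `X₂` -/
theorem exists_Y (hcard : ∀ Q : Subgroup G, IsPGroup 2 Q → Nat.card Q ≤ 2 * Nat.card S) {r : G} (hr1 : r ≠ 1)
    (hr : r ∈ R o) {y : G} (hyy : y * y = 1) (hy1 : y ≠ 1) (hSy : ∀ s ∈ S, s * y = y * s)
    (hXy : XX V₂ R₂ ≤ centralizer ({y} : Set G)) :
    ∃ Y ≤ centralizer ({y} : Set G), GSysW (centralizer ({y} : Set G)) Y r := by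
  obtain ⟨C, hC⟩ : ∃ C, C = centralizer ({y} : Set G) := ⟨_, rfl⟩
  have hSC : S ≤ C := by rw [hC]; exact fun s hs => mem_C.2 (hSy s hs)
  have hloc : TLoc S C := by rw [hC]; exact TLoc.centralizer (by rw [pow_two]; exact hyy) hy1 (hC ▸ hSC)
  rw [← hC] at hXy ⊢
  have hCO : C ≤ normalizer (o2 C : Set G) := le_normalizer_o2 _
  -- `O₂(C) ≤ S`
  have hoS : o2 C ≤ S := by
    refine le_of_odd b.S_p b₂.S_R b₂.S_odd (MinSimple.VModule.o2_isPGroup _) ?_ (hSC.trans hCO)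
    exact (b₂.o2_le_cen hloc hXy).trans ((centralizer_le (b₂.R_le o₂)).trans (centralizer_le_normalizer _))
  have hSA : S ≤ centralizer (R o : Set G) := b.S_R.trans (normalizer_le_cen_of_card (b.card_R o))
  have h1 : cl (R o) C ≤ zc (o2 C) := by
    refine cl_le ?_ (hCO.trans (normalizer_le_normalizer_zc _))
    intro x hx
    have hxc : ∀ s ∈ S, s * x = x * s := fun s hs => (mem_centralizer_iff.1 (hSA hs) x hx).symm
    have h2 : x ∈ centralizer (o2 C : Set G) := mem_centralizer_iff.2 fun s hs => hxc s (hoS hs)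
    have h3 : x ∈ o2 C := hloc.char2 b.char2 ⟨hSC (b.V_le_S (b.R_le o hx)), h2⟩
    exact mem_zc.2 ⟨h3, fun c hc => hxc c (hoS hc), by rw [pow_two]; exact b.V_sq x (b.R_le o hx)⟩
  have h2 : cl (R₂ o₂) C ≤ zc (o2 C) :=
    (cl_le ((b₂.R_le o₂).trans (le_cl _ _)) (le_normalizer_cl _ _)).trans (b₂.cl_V_le hloc hXy)
  have hN : cl (R o) C ⊔ cl (R₂ o₂) C ≤ zc (o2 C) := sup_le h1 h2
  have sq : ∀ x ∈ cl (R o) C ⊔ cl (R₂ o₂) C, x * x = 1 := fun x hx => by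
    rw [← pow_two]; exact (mem_zc.1 (hN hx)).2.2
  have nor : ∀ c ∈ C, ∀ n ∈ cl (R o) C ⊔ cl (R₂ o₂) C, c * n * c⁻¹ ∈ cl (R o) C ⊔ cl (R₂ o₂) C := by
    intro c hc n hn
    refine conj_mem_of_normalizer ?_ hn
    have e1 := cj_eq_self_iff.2 (le_normalizer_cl (R o) C hc)
    have e2 := cj_eq_self_iff.2 (le_normalizer_cl (R₂ o₂) C hc)
    rw [← cj_eq_self_iff, cj_sup, e1, e2]
  refine ⟨cl (R o) C ⊔ cl (R₂ o₂) C, hN.trans ((zc_le _).trans (o2_le _)), sq, nor,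
    mem_sup_left (le_cl _ _ hr), hr1, ?_⟩
  intro U hU hCU c hc h3 h4
  exact chain_of_core sq nor (core_Y b b₂ hcard hSC hXy (fun x hx => sq x (mem_sup_right hx))) hU hCU hc h3 h4

/-- **(α) is dead** for `z ∈ C_Z(P)`, if `X₂ ≤ C(z r)` -/
theorem not_alpha_two (hLE : ∀ i, LE V R i)
    (hcard : ∀ Q : Subgroup G, IsPGroup 2 Q → Nat.card Q ≤ 2 * Nat.card S) {r : G}
    (hr : ∀ x, x ∈ R o ↔ x = 1 ∨ x = r) {z : G} (hz : z ∈ zc S ⊓ centralizer (P : Set G)) (hz1 : z ≠ 1)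
    (hX : ∀ x ∈ XX V₂ R₂, x * (z * r) = z * r * x) :
    ¬ UM V (MP V R o z) ≤ QQ (R o) := by
  have hr1 : r ≠ 1 := AlphaP.r_ne b hr
  have hrR : r ∈ R o := (hr r).2 (Or.inr rfl)
  have hrr : r * r = 1 := b.V_sq r (b.R_le o hrR)
  have hzz : z * z = 1 := by rw [← pow_two]; exact (mem_zc.1 hz.1).2.2
  have hSr : ∀ s ∈ S, s * r = r * s := fun s hs =>
    (mem_centralizer_iff.1 (normalizer_le_cen_of_card (b.card_R o) (b.S_R hs)) r hrR).symm
  have hSz : ∀ s ∈ S, s * z = z * s := (mem_zc.1 hz.1).2.1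
  have hzr : z * r = r * z := (hSz r (b.V_le_S (b.R_le o hrR))).symm
  refine AlphaP.not_alpha' b hLE hr hz hz1 (gsys_MP b hcard hr1 hrR hz hz1)
    (exists_Y b b₂ hcard hr1 hrR ?_ ?_ ?_ (fun x hx => mem_C.2 (hX x hx)))
  · calc z * r * (z * r) = z * (r * z) * r := by group
      _ = (z * z) * (r * r) := by rw [← hzr]; group
      _ = 1 := by rw [hzz, hrr, mul_one]
  · intro h
    have h1 : z = r := by
      calc z = z * r * r := by rw [mul_assoc, hrr, mul_one]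
        _ = r := by rw [h, one_mul]
    have h3 : r ∈ V ⊓ (zc S ⊓ centralizer (P : Set G)) := ⟨b.R_le o hrR, h1 ▸ hz⟩
    rw [b.R_inf_cz] at h3
    exact hr1 (mem_bot.1 h3)
  · intro s hs
    calc s * (z * r) = (s * z) * r := by group
      _ = z * (s * r) := by rw [hSz s hs]; group
      _ = z * r * s := by rw [hSr s hs]; group

end Y

end Cfsg.Agent.Omega.HT.Core
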