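import Cfsg.Agent.Omega.HT.Basic
import Cfsg.Agent.Omega.HTwo.EntryTv

/-!
# II.0h1, `q = 2`, over a 2-group `S` Sylow in `N(R o)`: from `HTT` to the setting (H) of `HOne.TvDef`

Port of `HTwo/EntryTv` to `HTT`; `LE V R i` (LEMMA E) at all points is a hypothesis. `QF`, `NF`, `ME` are the
definitions of `HTwo/EntryTv`.

* `bts`, `dt` : `BTS V R`, `Dt V R z (C(z))`;
* `tvH0`, `tvH`, `tvS`.
-/

set_option autoImplicit false
set_option linter.unusedSectionVars false

namespace Cfsg.Agent.Omega.HT.EntryTv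

open Subgroup Cfsg Cfsg.Agent.ZN Cfsg.Agent.Omega.BTwo Cfsg.Agent.Omega.HT
open Cfsg.Agent.Omega.HOneTwo (cl cj_le_cl le_cl le_normalizer_cl cl_le eq_of_card_two normalizer_le_cen_of_card UM Dt)
open Cfsg.Agent.Omega.HTwo.Hat Cfsg.Agent.Omega.HTwo.ThmA Cfsg.Agent.Omega.MinPar
open Cfsg.Agent.Omega.HOne.TvDef
open Cfsg.Agent.Omega.HTwo.EntryTv (QF NF ME QF_conj NF_conj NF_base)

universe u

section main

variable {G : Type u} [Group G] [Finite G] {ι : Type*} {S P V : Subgroup G}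
  {R : ι → Subgroup G} {o : ι} (b : HTT S P V R o) (hLE : ∀ i, LE V R i)

include b

theorem bts : BTS V R where
  toBT := b.toBT
  nonloc := fun i T hT _ _ h1 h2 => b.nonloc i T hT (b.P_V.trans h1) h2
  cenQ := b.cenQ

/-- a 2-subgroup of `N(R o)` normalised by `S` lies in `S` -/
theorem le_S_of_norm {U : Subgroup G} (hU : IsPGroup 2 U) (hUN : U ≤ normalizer (R o : Set G))
    (hS : S ≤ normalizer (U : Set G)) : U ≤ S := by
  have h1 : IsPGroup 2 (U ⊔ S : Subgroup G) := IsPGroup.to_sup_of_normal_left' hU b.S_p hS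
  have h2 := Nat.le_of_dvd Nat.card_pos (card_dvd_card b.S_R b.S_odd h1 (sup_le hUN b.S_R))
  have h3 : S = U ⊔ S := eq_of_le_of_card_ge le_sup_right h2
  rw [h3]
  exact le_sup_left

theorem dt {z : G} (hz : z ∈ zc S ⊓ centralizer (P : Set G)) (hz1 : z ≠ 1) :
    Dt V R z (centralizer ({z} : Set G)) where
  M_eq := rfl
  X_M := b.X_le_cen hz
  V_M := b.V_le_zc_o2 (b.isLoc_cen hz.1 hz1) (b.X_le_cen hz)
  z_Q := by
    intro i
    obtain ⟨x, hx, e⟩ := b.trans_X_one o i
    have h1 := b.zc_le_zc_Q hz.1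
    have h2 : x * z * x⁻¹ = z := by
      rw [mem_centralizer_iff.1 (b.cz_le hz) x hx, mul_inv_cancel_right]
    have h3 : cj x (zc (QQ (R o))) = zc (QQ (R i)) := by
      rw [← b.cj_QQ e]
      exact (zc_map (MulAut.conj x).toMonoidHom (MulAut.conj x).injective _).symm
    rw [← h3, ← h2]
    exact conj_mem_cj h1

/-- `N(R i) = C(s)`, `s` the involution of `R i` -/
theorem normalizer_eq {i : ι} {s : G} (hs : ∀ x, x ∈ R i ↔ x = 1 ∨ x = s) :
    normalizer (R i : Set G) = centralizer ({s} : Set G) := by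
  apply le_antisymm
  · intro x hx
    rw [mem_centralizer_singleton_iff]
    exact (mem_centralizer_iff.1 (normalizer_le_cen_of_card (b.card_R i) hx) s ((hs s).2 (Or.inr rfl))).symm
  · intro x hx
    rw [mem_centralizer_singleton_iff] at hx
    refine centralizer_le_normalizer _ ?_
    rw [mem_centralizer_iff]
    intro y hy
    rcases (hs y).1 hy with rfl | rfl
    · rw [one_mul, mul_one]
    · exact hx.symm

theorem QF_eq {i : ι} {s : G} (hs : ∀ x, x ∈ R i ↔ x = 1 ∨ x = s) : QF s = QQ (R i) := by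
  unfold QF
  rw [← normalizer_eq b hs]

/-- `r t` is the third involution -/
theorem mul_mem_third {i j k : ι} (hij : i ≠ j) (hki : k ≠ i) (hkj : k ≠ j) {s t : G}
    (hs : s ∈ R i) (hs1 : s ≠ 1) (ht : t ∈ R j) (ht1 : t ≠ 1) : s * t ∈ R k := by
  obtain ⟨l, hl⟩ := b.R_cov _ (mul_mem (b.R_le i hs) (b.R_le j ht))
  have hli : l ≠ i := by
    rintro rfl
    have h1 : t ∈ R l := by
      have := mul_mem (inv_mem hs) hl
      rwa [inv_mul_cancel_left] at this
    exact ht1 (b.eq_one hij h1 ht)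
  have hlj : l ≠ j := by
    rintro rfl
    have h1 : s ∈ R l := by
      have := mul_mem hl (inv_mem ht)
      rwa [mul_inv_cancel_right] at this
    exact hs1 (b.eq_one hij hs h1)
  rcases b.eq_of_ne (l := l) hij (Ne.symm hki) (Ne.symm hkj) with h | h | h
  · exact absurd h hli
  · exact absurd h hlj
  · rwa [h] at hl

/-- `Q i` moves the involution of `R j` -/
theorem exists_q {i j : ι} (hij : i ≠ j) {s t : G} (hs : s ∈ R i) (hs1 : s ≠ 1) (ht : t ∈ R j) (ht1 : t ≠ 1) :
    ∃ q ∈ QQ (R i), q * t * q⁻¹ = s * t := by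
  obtain ⟨k, hki, hkj⟩ := b.third i j
  obtain ⟨w, hw, e⟩ := b.trans i (Ne.symm hij) hki
  refine ⟨w, b.W_le_Q i hw, ?_⟩
  have h1 : w * t * w⁻¹ ∈ R k := by rw [← e]; exact conj_mem_cj ht
  have h2 := mul_mem_third b hij hki hkj hs hs1 ht ht1
  have h3 : s * t ≠ 1 := by
    intro h
    have h4 : s = t⁻¹ := eq_inv_of_mul_eq_one_left h
    exact hs1 (b.eq_one hij hs (h4 ▸ inv_mem ht))
  exact eq_of_card_two (b.card_R k) h2 h3 h1 (fun h => ht1 (conj_eq_one_iff.1 h))

variable {r : G} (hr : ∀ x, x ∈ R o ↔ x = 1 ∨ x = r) (hr1 : r ≠ 1) {E : Subgroup G}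
  (hE : E ≤ zc S ⊓ centralizer (P : Set G)) (hE1 : E ≠ ⊥)

include hE

theorem E_cenX : E ≤ CenX V R := hE.trans b.cz_le

theorem X_le_cenE : XX V R ≤ centralizer (E : Set G) := by
  have h1 : E ≤ centralizer (XX V R : Set G) := hE.trans b.cz_le
  exact le_centralizer_iff.1 h1

theorem S_le_cenE : S ≤ centralizer (E : Set G) := by
  intro s hs
  rw [mem_centralizer_iff]
  exact fun e he => ((ZN.mem_zc.1 (hE he).1).2.1 s hs).symm

theorem ME_le_cen : ME V R o E ≤ centralizer (E : Set G) := sup_le inf_le_right (X_le_cenE b hE)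

theorem S_le_ME : S ≤ ME V R o E :=
  (le_inf b.S_R (S_le_cenE b hE)).trans le_sup_left

theorem Q_le_ME : QQ (R o) ≤ ME V R o E := b.Q_le_S.trans (S_le_ME b hE)

omit hE in
theorem X_le_ME : XX V R ≤ ME V R o E := by
  have _ := b
  exact le_sup_right

theorem Qi_le_ME (i : ι) : QQ (R i) ≤ ME V R o E := by
  obtain ⟨x, hx, e⟩ := b.trans_X_one o i
  rw [← b.cj_QQ e, cj_le_iff]
  intro q hq
  exact mul_mem (mul_mem (X_le_ME b hx) (Q_le_ME b hE hq)) (inv_mem (X_le_ME b hx))

omit hE in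
theorem V_le_X : V ≤ XX V R := by
  obtain ⟨i⟩ := b.toBT.nonempty
  exact (V_le_WW V (R i)).trans (W_le_X V R i)

include hr in
omit hE in
theorem exists_X {v : G} (hv : v ∈ V) (hv1 : v ≠ 1) : ∃ c ∈ XX V R, c * r * c⁻¹ = v :=
by
  obtain ⟨j, hj⟩ := b.R_cov v hv
  obtain ⟨x, hx, e⟩ := b.trans_X_one o j
  have hr1 : r ≠ 1 := by
    obtain ⟨s, hs1, -, hs⟩ := b.exists_gen o
    rintro rfl
    have := (hr s).1 ((hs s).2 (Or.inr rfl))
    rcases this with h | h
    · exact hs1 h
    · exact hs1 h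
  refine ⟨x, hx, ?_⟩
  have h1 : x * r * x⁻¹ ∈ R j := by rw [← e]; exact conj_mem_cj ((hr r).2 (Or.inr rfl))
  have h2 : x * r * x⁻¹ ≠ 1 := fun h => hr1 (conj_eq_one_iff.1 h)
  exact eq_of_card_two (b.card_R j) hj hv1 h1 h2

include hr hr1 in
/-- `⟨r^M⟩ = ⟨V^M⟩` for `M ≥ X` -/
theorem UU_eq {M : Subgroup G} (hX : XX V R ≤ M) : UU M r = UM V M := by
  apply le_antisymm
  · show closure (Om M r) ≤ UM V M
    rw [closure_le]
    rintro _ ⟨m, hm, rfl⟩
    exact cj_le_cl hm (conj_mem_cj (b.R_le o ((hr r).2 (Or.inr rfl))))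
  · refine cl_le ?_ ?_
    · intro v hv
      by_cases hv1 : v = 1
      · rw [hv1]; exact one_mem _
      obtain ⟨c, hc, rfl⟩ := exists_X b hr hv hv1
      exact subset_closure ⟨c, hX hc, rfl⟩
    · intro m hm
      rw [← cj_eq_self_iff]
      have key : ∀ m ∈ M, cj m (UU M r) ≤ UU M r := by
        intro m hm
        rw [cj_le_iff]
        intro x hx
        change x ∈ closure (Om M r) at hx
        change m * x * m⁻¹ ∈ closure (Om M r)
        induction hx using closure_induction with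
        | mem x hx =>
          obtain ⟨k, hk, rfl⟩ := hx
          exact subset_closure ⟨m * k, mul_mem hm hk, by group⟩
        | one => rw [mul_one, mul_inv_cancel]; exact one_mem _
        | mul x y _ _ hx hy =>
          have : m * (x * y) * m⁻¹ = (m * x * m⁻¹) * (m * y * m⁻¹) := by group
          rw [this]; exact mul_mem hx hy
        | inv x _ hx =>
          have : m * x⁻¹ * m⁻¹ = (m * x * m⁻¹)⁻¹ := by group
          rw [this]; exact inv_mem hx
      apply le_antisymm (key m hm)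
      have h1 := cj_mono (g := m) (key m⁻¹ (inv_mem hm))
      rwa [cj_cj_inv] at h1

include hr hr1 hE1

/-- `U` is abelian, in `Ω₁(Z(O₂(C(e))))` -/
theorem UU_le : ∃ z ∈ E, z ≠ 1 ∧ UU (ME V R o E) r ≤ UM V (centralizer ({z} : Set G)) ∧
    z ∈ zc S ⊓ centralizer (P : Set G) := by
  obtain ⟨⟨z, hz⟩, hz1⟩ := (Subgroup.ne_bot_iff_exists_ne_one).1 hE1
  refine ⟨z, hz, fun e => hz1 (Subtype.ext e), ?_, hE hz⟩
  rw [UU_eq b hr hr1 hE (X_le_ME b)]
  refine cl_le (le_cl _ _) ?_
  refine le_trans ?_ (le_normalizer_cl V _)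
  refine (ME_le_cen b hE).trans (centralizer_le ?_)
  rintro _ rfl
  exact hz

theorem UU_comm {u v : G} (hu : u ∈ UU (ME V R o E) r) (hv : v ∈ UU (ME V R o E) r) : u * v = v * u := by
  obtain ⟨z, -, hz1, h1, h2⟩ := UU_le b hr hr1 hE hE1
  exact (dt b h2 hz1).U_comm (h1 hu) (h1 hv)

theorem UU_sq {u : G} (hu : u ∈ UU (ME V R o E) r) : u * u = 1 := by
  obtain ⟨z, -, hz1, h1, h2⟩ := UU_le b hr hr1 hE hE1
  exact (dt b h2 hz1).U_sq (h1 hu)

theorem UU_le_cenV : UU (ME V R o E) r ≤ centralizer (V : Set G) := by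
  obtain ⟨z, -, hz1, h1, h2⟩ := UU_le b hr hr1 hE hE1
  exact h1.trans (dt b h2 hz1).U_le_cen

theorem UU_pgroup : IsPGroup 2 (UU (ME V R o E) r) := by
  rintro ⟨x, hx⟩
  refine ⟨1, Subtype.ext ?_⟩
  show x ^ 2 ^ 1 = 1
  rw [pow_one, pow_two]
  exact UU_sq b hr hr1 hE hE1 hx

omit hE1 in
theorem M_norm_UU {m u : G} (hm : m ∈ ME V R o E) (hu : u ∈ UU (ME V R o E) r) :
    m * u * m⁻¹ ∈ UU (ME V R o E) r := by
  rw [UU_eq b hr hr1 hE (X_le_ME b)] at hu ⊢
  exact conj_mem_of_normalizer (le_normalizer_cl V _ hm) hu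

omit hE1 hr1 in
include hLE in
theorem E_cen_Q (i : ι) : E ≤ centralizer (QQ (R i) : Set G) := by
  have h1 := (E_cenX b hE).trans (cenX_le_ZQ (bts b) hLE i)
  exact h1.trans inf_le_right

omit hE1 in
include hLE in
/-- `N r ≤ C(Q r)` -/
theorem NF_le : NF r E r ≤ centralizer (QQ (R o) : Set G) := by
  unfold NF
  rw [closure_le]
  rintro _ ⟨g, hg, e, he, rfl⟩
  have h1 : g ∈ normalizer (R o : Set G) := by
    rw [normalizer_eq b hr, mem_centralizer_singleton_iff]
    exact mul_inv_eq_iff_eq_mul.1 hg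
  exact conj_mem_of_normalizer (normalizer_le_normalizer_centralizer _ (le_normalizer_O2 _ h1))
    (E_cen_Q b hLE hr hE o he)

omit hE1 in
theorem ZC_le : centralizer (QQ (R o) : Set G) ≤ QQ (R o) := by
  intro x hx
  have h1 : r ∈ QQ (R o) := b.V_Q o (b.R_le o ((hr r).2 (Or.inr rfl)))
  have h2 : x ∈ centralizer ({r} : Set G) := by
    rw [mem_centralizer_singleton_iff]
    exact (mem_centralizer_iff.1 hx r h1).symm
  rw [← normalizer_eq b hr] at h2
  exact b.cenQ o (mem_inf.2 ⟨h2, hx⟩)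

omit hE1 in
/-- `H₁` normalises `N r` -/
theorem H_norm_NF : normalizer (R o : Set G) ≤ normalizer (NF r E r : Set G) := by
  have _ := hE
  refine HOne.TvHSide.le_normalizer_of fun g hg x hx => ?_
  rw [normalizer_eq b hr, mem_centralizer_singleton_iff] at hg
  have h1 := NF_conj (g := g) hx
  have h2 : g * r * g⁻¹ = r := by rw [hg, mul_inv_cancel_right]
  rwa [h2] at h1

omit hE1 in
include hLE in
theorem NF_comm {m n : G} (hm : m ∈ NF r E r) (hn : n ∈ NF r E r) : m * n = n * m := by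
  have h1 := NF_le b hLE hr hr1 hE hm
  have h2 := ZC_le b hr hr1 hE (NF_le b hLE hr hr1 hE hn)
  exact (mem_centralizer_iff.1 h1 n h2).symm

omit hE1 in
include hLE in
theorem NF_sq {n : G} (hn : n ∈ NF r E r) : n * n = 1 := by
  have key : ∀ n ∈ NF r E r, n ∈ NF r E r ∧ n * n = 1 := by
    intro n hn
    unfold NF at hn
    induction hn using closure_induction with
    | mem x hx =>
      have h0 : x ∈ NF r E r := subset_closure hx
      obtain ⟨g, hg, e, he, rfl⟩ := hx
      refine ⟨h0, ?_⟩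
      have h1 : e * e = 1 := by rw [← pow_two]; exact (ZN.mem_zc.1 (hE he).1).2.2
      calc g * e * g⁻¹ * (g * e * g⁻¹) = g * (e * e) * g⁻¹ := by group
        _ = 1 := by rw [h1]; group
    | one => exact ⟨one_mem _, one_mul 1⟩
    | mul x y _ _ hx hy =>
      refine ⟨mul_mem hx.1 hy.1, ?_⟩
      have h1 := NF_comm b hLE hr hr1 hE hx.1 hy.1
      calc x * y * (x * y) = x * (y * x) * y := by group
        _ = (x * x) * (y * y) := by rw [← h1]; group
        _ = 1 := by rw [hx.2, hy.2, one_mul]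
    | inv x _ hx => exact ⟨inv_mem hx.1, by rw [← mul_inv_rev, hx.2, inv_one]⟩
  exact (key n hn).2

/-- `C_U(N r) ≤ Q r` -/
theorem UN {u : G} (hu : u ∈ UU (ME V R o E) r) (h : ∀ n ∈ NF r E r, u * n = n * u) : u ∈ QQ (R o) := by
  set U := UU (ME V R o E) r with hU
  set C := normalizer (R o : Set G) ⊓ centralizer (NF r E r : Set G) with hC
  have hCM : C ≤ ME V R o E := by
    refine le_trans (inf_le_inf_left _ (centralizer_le ?_)) le_sup_left
    exact fun e he => NF_base he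
  have hUN : U ≤ normalizer (R o : Set G) := (UU_le_cenV b hr hr1 hE hE1).trans (b.cen_le_N o)
  have key : U ⊓ centralizer (NF r E r : Set G) ≤ O2 (normalizer (R o : Set G)) := by
    refine le_O2_of_chain (B := C) (C := C) (inf_le_inf_right _ hUN) le_rfl inf_le_left
      ((UU_pgroup b hr hr1 hE hE1).to_le inf_le_left) ?_ ?_ ?_
    · rintro g hg u ⟨hu, hu'⟩
      exact ⟨M_norm_UU b hr hr1 hE (hCM hg) hu, HTwo.Hat.cmem hg.2 hu'⟩
    · exact fun g hg x hx => HTwo.Hat.cmem hg hx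
    · rintro g hg x ⟨hx, hx'⟩
      refine mem_inf.2 ⟨HTwo.Hat.cmem hg hx, ?_⟩
      exact conj_mem_of_normalizer
        (normalizer_le_normalizer_centralizer _ (H_norm_NF b hr hr1 hE hg)) hx'
  refine key (mem_inf.2 ⟨hu, ?_⟩)
  rw [mem_centralizer_iff]
  exact fun n hn => (h n hn).symm

omit hE1 in
/-- 2-reduced, for every normal subgroup of `H₁` -/
theorem hred (K : Subgroup G) (hK : K ≤ normalizer (R o : Set G))
    (hn : normalizer (R o : Set G) ≤ normalizer (K : Set G))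
    (h2 : ∀ x ∈ K, ∃ k : ℕ, x ^ 2 ^ k ∈ centralizer (NF r E r : Set G)) :
    K ≤ centralizer (NF r E r : Set G) := by
  refine HOne.TvHSide.red_of (S := S) (Z₀ := (E : Set G)) b.S_R b.S_p
    b.S_odd (fun x hx e he => (ZN.mem_zc.1 (hE he).1).2.1 x hx)
    (H_norm_NF b hr hr1 hE) (fun e he => NF_base he) ?_ K hK hn h2
  unfold NF
  rw [closure_le]
  rintro _ ⟨g, hg, e, he, rfl⟩
  refine subset_closure ⟨g, ?_, e, he, rfl⟩
  rw [normalizer_eq b hr, mem_centralizer_singleton_iff]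
  exact mul_inv_eq_iff_eq_mul.1 hg

omit hE1 in
/-- the subgroup of `H₁` which acts trivially on `N r / R` centralises `N r` -/
theorem red {u : G} (hu : u ∈ normalizer (R o : Set G))
    (h : ∀ n ∈ NF r E r, u * n * u⁻¹ * n⁻¹ = 1 ∨ u * n * u⁻¹ * n⁻¹ = r) :
    ∀ n ∈ NF r E r, u * n = n * u := by
  set N := NF r E r with hN
  set H := normalizer (R o : Set G) with hH
  have hrH : ∀ g ∈ H, g * r = r * g := by
    intro g hg
    rw [hH, normalizer_eq b hr, mem_centralizer_singleton_iff] at hg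
    exact hg
  let K : Subgroup G :=
    { carrier := {x | x ∈ H ∧ ∀ n ∈ N, x * n * x⁻¹ * n⁻¹ ∈ R o}
      one_mem' := ⟨one_mem _, fun n _ => by
        have : (1 : G) * n * 1⁻¹ * n⁻¹ = 1 := by group
        rw [this]; exact one_mem _⟩
      mul_mem' := by
        rintro x y ⟨hx, hx'⟩ ⟨hy, hy'⟩
        refine ⟨mul_mem hx hy, fun n hn => ?_⟩
        have h1 : y * n * y⁻¹ ∈ N := conj_mem_of_normalizer (H_norm_NF b hr hr1 hE hy) hn
        have e : x * y * n * (x * y)⁻¹ * n⁻¹ =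
            (x * (y * n * y⁻¹) * x⁻¹ * (y * n * y⁻¹)⁻¹) * (y * n * y⁻¹ * n⁻¹) := by group
        rw [e]
        exact mul_mem (hx' _ h1) (hy' n hn)
      inv_mem' := by
        rintro x ⟨hx, hx'⟩
        refine ⟨inv_mem hx, fun n hn => ?_⟩
        have h1 : x⁻¹ * n * x⁻¹⁻¹ ∈ N := conj_mem_of_normalizer (H_norm_NF b hr hr1 hE (inv_mem hx)) hn
        rw [inv_inv] at h1
        have e : x⁻¹ * n * x⁻¹⁻¹ * n⁻¹ = (x * (x⁻¹ * n * x) * x⁻¹ * (x⁻¹ * n * x)⁻¹)⁻¹ := by group
        rw [e]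
        exact inv_mem (hx' _ h1) }
  have hKH : K ≤ H := fun x hx => hx.1
  have hHK : H ≤ normalizer (K : Set G) := by
    refine HOne.TvHSide.le_normalizer_of ?_
    rintro g hg x ⟨hx, hx'⟩
    refine ⟨mul_mem (mul_mem hg hx) (inv_mem hg), fun n hn => ?_⟩
    have h1 : g⁻¹ * n * g⁻¹⁻¹ ∈ N := conj_mem_of_normalizer (H_norm_NF b hr hr1 hE (inv_mem hg)) hn
    rw [inv_inv] at h1
    have e : g * x * g⁻¹ * n * (g * x * g⁻¹)⁻¹ * n⁻¹ =
        g * (x * (g⁻¹ * n * g) * x⁻¹ * (g⁻¹ * n * g)⁻¹) * g⁻¹ := by group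
    rw [e]
    exact conj_mem_of_normalizer hg (hx' _ h1)
  have hK2 : ∀ x ∈ K, ∃ k : ℕ, x ^ 2 ^ k ∈ centralizer (N : Set G) := by
    rintro x ⟨hx, hx'⟩
    refine ⟨1, ?_⟩
    rw [mem_centralizer_iff, pow_one, pow_two]
    intro n hn
    set f := x * n * x⁻¹ * n⁻¹ with hf
    have hfR := hx' n hn
    have hff : f * f = 1 := b.V_sq f (b.R_le o hfR)
    have hxf : x * f = f * x := by
      rcases (hr f).1 hfR with h1 | h1
      · rw [h1, one_mul, mul_one]
      · rw [h1]; exact hrH x hx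
    have h1 : x * n = f * n * x := by rw [hf]; group
    have h2 : x * x * n = n * (x * x) := by
      calc x * x * n = x * (x * n) := by group
        _ = (x * f) * n * x := by rw [h1]; group
        _ = f * (x * n) * x := by rw [hxf]; group
        _ = (f * f) * n * (x * x) := by rw [h1]; group
        _ = n * (x * x) := by rw [hff, one_mul]
    exact h2.symm
  have huK : u ∈ K := ⟨hu, fun n hn => by
    rcases h n hn with h1 | h1
    · rw [h1]; exact one_mem _
    · rw [h1]; exact (hr r).2 (Or.inr rfl)⟩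
  have h3 := hred b hr hr1 hE K hKH hHK hK2 huK
  exact fun n hn => (mem_centralizer_iff.1 h3 n hn).symm

variable {j : ι} (hj : j ≠ o) {t : G} (ht : ∀ x, x ∈ R j ↔ x = 1 ∨ x = t) (ht1 : t ≠ 1)

include hj ht ht1

omit hE1 in
theorem gen {T : Subgroup G} (h1 : ∀ m ∈ ME V R o E, m * r = r * m → m ∈ T) (h2 : QQ (R o) ≤ T)
    (h3 : QQ (R j) ≤ T) : ME V R o E ≤ T := by
  refine sup_le ?_ ?_
  · intro m hm
    refine h1 m (mem_sup_left hm) ?_
    have h4 : m ∈ centralizer ({r} : Set G) := by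
      rw [← normalizer_eq b hr]; exact hm.1
    rwa [mem_centralizer_singleton_iff] at h4
  · refine iSup_le fun k => ?_
    by_cases hk : k = o
    · rw [hk]; exact (b.W_le_Q o).trans h2
    by_cases hk' : k = j
    · rw [hk']; exact (b.W_le_Q j).trans h3
    obtain ⟨w, hw, e⟩ := b.trans o hj hk
    have hwT : w ∈ T := h2 (b.W_le_Q o hw)
    rw [← b.cj_WW e, cj_le_iff]
    exact fun x hx => mul_mem (mul_mem hwT (h3 (b.W_le_Q j hx))) (inv_mem hwT)

include hLE in
/-- **from `HT` to (H)** (without `noPar`) -/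
theorem tvH0 (hbeta : ∃ u ∈ UU (ME V R o E) r, u ∉ QF r) : TvH0 (ME V R o E) r t QF (NF r E) := by
  have hQr : QF r = QQ (R o) := QF_eq b hr
  have hQt : QF t = QQ (R j) := QF_eq b ht
  have hrR : r ∈ R o := (hr r).2 (Or.inr rfl)
  have htR : t ∈ R j := (ht t).2 (Or.inr rfl)
  exact
    { Qc := fun g s x hx => QF_conj hx
      Nc := fun g s x hx => NF_conj hx
      r_sq := b.V_sq r (b.R_le o hrR)
      r_ne := hr1
      t_ne := ht1
      t_ne_r := by
        rintro rfl
        exact ht1 (b.eq_one hj htR hrR)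
      Q_le := by rw [hQr]; exact Q_le_ME b hE
      r_mem := by rw [hQr]; exact b.V_Q o (b.R_le o hrR)
      t_mem := by rw [hQr]; exact b.V_Q o (b.R_le j htR)
      Q_comm := by
        rw [hQr]
        intro x hx y hy
        exact (hr _).1 (HTwo.ThmA.Q_comm (bts b) (hLE o) hx hy)
      Q_sq := by
        rw [hQr]
        intro x hx
        exact (hr _).1 (HTwo.ThmA.Q_sq (bts b) (hLE o) hx)
      ZC_le := by
        show centralizer (QF r : Set G) ≤ QF r
        rw [hQr]; exact ZC_le b hr hr1 hE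
      N_le := by
        show NF r E r ≤ centralizer (QF r : Set G)
        rw [hQr]; exact NF_le b hLE hr hr1 hE
      q12 := by rw [hQr]; exact exists_q b (Ne.symm hj) hrR hr1 htR ht1
      q21 := by
        rw [hQt]
        obtain ⟨q, hq, e⟩ := exists_q b hj htR ht1 hrR hr1
        exact ⟨q, hq, by rw [e, b.V_comm r (b.R_le o hrR) t (b.R_le j htR)]⟩
      gen := by
        intro T h1 h2 h3
        rw [hQr] at h2
        rw [hQt] at h3
        exact gen b hr hr1 hE hj ht ht1 h1 h2 h3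
      Qt_le := by rw [hQt]; exact Qi_le_ME b hE j
      ab := by
        intro m hm
        exact UU_comm b hr hr1 hE hE1 (subset_closure ⟨m, hm, rfl⟩) (subset_closure ⟨1, one_mem _, by group⟩)
      UN := by
        rw [hQr]
        exact fun u hu h => UN b hr hr1 hE hE1 hu h
      ZQ := by
        intro x hx hxt
        rw [hQt] at hxt
        have hx' : x ∈ centralizer (QQ (R o) : Set G) := by
          have : x ∈ centralizer (QF r : Set G) := hx
          rwa [hQr] at this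
        have h1 : x ∈ ZQ R o := ⟨ZC_le b hr hr1 hE hx', hx'⟩
        obtain ⟨a, ha, h2⟩ := ZQ_Q (bts b) (Ne.symm hj) h1 hxt
        have h3 : a * x ∈ centralizer (QF t : Set G) := by
          rw [hQt]; exact (cenX_le_ZQ (bts b) hLE j h2).2
        rcases (hr a).1 ha with rfl | rfl
        · rw [one_mul] at h3; exact Or.inl h3
        · exact Or.inr h3
      red := by
        intro u hu h
        exact red b hr hr1 hE ((UU_le_cenV b hr hr1 hE hE1).trans (b.cen_le_N o) hu) h
      beta := hbeta }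

include hLE in
/-- **from `HT` to (H)** -/
theorem tvH (hbeta : ∃ u ∈ UU (ME V R o E) r, u ∉ QF r)
    (hpar : ∀ x y, Adj (ME V R o E) r t r x → Adj (ME V R o E) r t r y → x * y ∈ ZC QF r → y = x ∨ y = r * x) :
    TvH (ME V R o E) r t QF (NF r E) :=
  { toTvH0 := tvH0 b hLE hr hr1 hE hE1 hj ht ht1 hbeta, noPar := hpar }

include hLE in
/-- **from `HT` to the Sylow part of (H)** -/
theorem tvS : TvS (ME V R o E) S r t (NF r E) := by
  have hrR : r ∈ R o := (hr r).2 (Or.inr rfl)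
  have htR : t ∈ R j := (ht t).2 (Or.inr rfl)
  obtain ⟨k, hko, hkj⟩ := b.third o j
  refine
    { S_le := S_le_ME b hE
      S_p := b.S_p
      S_r := fun x hx => by
        have := b.S_R hx
        rwa [normalizer_eq b hr, mem_centralizer_singleton_iff] at this
      S_t := ?_
      N_S := ?_
      hside := ?_ }
  · intro x hx
    obtain ⟨l, hl⟩ := b.perm x (b.S_V hx) j
    have hlo : l ≠ o := by
      rintro rfl
      exact hj (b.R_index (cj_injective (hl.trans (cj_eq_self_iff.2 (b.S_R hx)).symm)))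
    have h1 : x * t * x⁻¹ ∈ R l := by rw [← hl]; exact conj_mem_cj htR
    have h2 : x * t * x⁻¹ ≠ 1 := fun h => ht1 (conj_eq_one_iff.1 h)
    by_cases hlj : l = j
    · left
      rw [hlj] at h1
      exact ((ht _).1 h1).resolve_left h2
    · right
      have h3 := mul_mem_third b (Ne.symm hj) hlo hlj hrR hr1 htR ht1
      have h4 : r * t ≠ 1 := by
        intro h
        have h5 : r = t⁻¹ := eq_inv_of_mul_eq_one_left h
        exact hr1 (b.eq_one (Ne.symm hj) hrR (h5 ▸ inv_mem htR))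
      exact eq_of_card_two (b.card_R l) h3 h4 h1 h2
  · -- `N t ≤ C_{Q_t}(V) ≤ O₂(C(V)) ≤ S`
    obtain ⟨x, hx, e⟩ := b.trans_X_one o j
    have hxt : x * r * x⁻¹ = t := by
      have h1 : x * r * x⁻¹ ∈ R j := by rw [← e]; exact conj_mem_cj hrR
      exact ((ht _).1 h1).resolve_left (fun h => hr1 (conj_eq_one_iff.1 h))
    have hNt : NF r E t ≤ EE V R j := by
      intro n hn
      have h1 := NF_conj (g := x⁻¹) hn
      have h2 : x⁻¹ * t * x⁻¹⁻¹ = r := by rw [← hxt]; group
      rw [h2] at h1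
      have h3 := NF_le b hLE hr hr1 hE h1
      have h4 : x⁻¹ * n * x⁻¹⁻¹ ∈ ZQ R o := ⟨ZC_le b hr hr1 hE h3, h3⟩
      have h5 : n ∈ ZQ R j := by
        rw [← cj_ZQ b.toBT e, mem_cj]
        rwa [inv_inv] at h4
      exact ZQ_le_EE b.toBT j h5
    refine hNt.trans ?_
    have h6 : EE V R j ≤ O2 (centralizer (V : Set G)) := by
      refine le_O2_of_chain (B := centralizer (V : Set G)) (C := centralizer (V : Set G)) inf_le_right le_rfl
        le_rfl ((O2_isPGroup _).to_le inf_le_left) ?_ ?_ ?_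
      · rintro g hg y ⟨hy, hy'⟩
        exact ⟨conj_mem_of_normalizer (cen_le_NQ b.toBT j hg) hy, HTwo.Hat.cmem hg hy'⟩
      · exact fun g hg y hy => HTwo.Hat.cmem hg hy
      · exact fun g hg y hy => HTwo.Hat.cmem hg hy
    refine h6.trans ?_
    refine le_S_of_norm b (O2_isPGroup _) ((O2_le _).trans (b.cen_le_N o)) ?_
    intro x hx
    have h7 := normalizer_le_normalizer_centralizer _ (b.S_V hx)
    rw [← cj_eq_self_iff] at h7 ⊢
    rw [cj_O2, h7]
  · rw [← normalizer_eq b hr]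
    exact HOne.TvHSide.hside_of b.S_R b.S_p b.S_odd
      (H_norm_NF b hr hr1 hE) (fun n hn => NF_sq b hLE hr hr1 hE hn)
      (fun m hm n hn => NF_comm b hLE hr hr1 hE hm hn) (hred b hr hr1 hE)

end main

end Cfsg.Agent.Omega.HT.EntryTv
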