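import Cfsg.Agent.Omega.HT.Core
import Cfsg.Agent.Omega.HT.EntryTv

/-!
# `HTT`: `core` in the form of `EntryTs.tsOf.ho2`
-/

set_option autoImplicit false
set_option linter.unusedSectionVars false

namespace Cfsg.Agent.Omega.HT.Core

open Subgroup Cfsg Cfsg.Agent.ZN Cfsg.Agent.Omega.BTwo
open Cfsg.Agent.Omega.MinPar Cfsg.Agent.Omega.HT.EntryTv
open Cfsg.Agent.Omega.HOneTwo (cl cj_le_cl le_cl le_normalizer_cl cl_le UM)
open Cfsg.Agent.Omega.HTwo.AlphaFive (mem_C)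
open Cfsg.Agent.Omega.HTwo.EntryTv (QF NF ME)
open Cfsg.Agent.Omega.HOne.TvDef

universe u

variable {G : Type u} [Group G] [Finite G] {ι : Type*} {S P V : Subgroup G} {R : ι → Subgroup G} {o : ι}

variable (b : HTT S P V R o)
include b

/-- the core statement for `ME V R o E`, `1 ≠ E ≤ C_Z(P)` (`ho2` of `EntryTs.tsOf`) -/
theorem core_ME (hcard : ∀ Q : Subgroup G, IsPGroup 2 Q → Nat.card Q ≤ 2 * Nat.card S) {r : G}
    (hr : ∀ x, x ∈ R o ↔ x = 1 ∨ x = r) (hr1 : r ≠ 1) {E : Subgroup G}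
    (hE : E ≤ zc S ⊓ centralizer (P : Set G)) (hE1 : E ≠ ⊥)
    (B : Subgroup G) (hB : B ≤ ME V R o E) (hn : ∀ m ∈ ME V R o E, ∀ b ∈ B, m * b * m⁻¹ ∈ B)
    (h2 : ∀ b ∈ B, ∀ u ∈ UU (ME V R o E) r, b * b * u = u * (b * b)) :
    ∀ b ∈ B, ∀ u ∈ UU (ME V R o E) r, b * u = u * b := by
  obtain ⟨⟨z, hz⟩, hz'⟩ := (Subgroup.ne_bot_iff_exists_ne_one).mp hE1
  have hz1 : z ≠ 1 := fun h => hz' (Subtype.ext h)
  have hM : ME V R o E ≤ centralizer ({z} : Set G) := by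
    refine sup_le (inf_le_right.trans (centralizer_le ?_)) (b.X_le_cen (hE hz))
    rw [Set.singleton_subset_iff]
    exact hz
  have e : UU (ME V R o E) r = cl (R o) (ME V R o E) := by
    rw [UU_eq b hr hr1 hE (X_le_ME b), b.cl_R_eq (fun i => b.trans_of_X (X_le_ME b) i)]
  rw [e] at h2 ⊢
  exact core_X b hcard (S_le_ME b hE) (X_le_ME b) (sq_of_le b (hE hz) hz1 hM) B hB hn h2

/-- `ho2` of `EntryTs.tsOf` -/
theorem ho2 (hcard : ∀ Q : Subgroup G, IsPGroup 2 Q → Nat.card Q ≤ 2 * Nat.card S) {r : G}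
    (hr : ∀ x, x ∈ R o ↔ x = 1 ∨ x = r) (hr1 : r ≠ 1) {z : G} (hz : z ∈ zc S ⊓ centralizer (P : Set G)) (hz1 : z ≠ 1)
    (B : Subgroup G) (hB : B ≤ ME V R o (zpowers z))
    (hn : ∀ m ∈ ME V R o (zpowers z), ∀ b ∈ B, m * b * m⁻¹ ∈ B)
    (h2 : ∀ b ∈ B, ∀ u ∈ UU (ME V R o (zpowers z)) r, b * b * u = u * (b * b)) :
    ∀ b ∈ B, ∀ u ∈ UU (ME V R o (zpowers z)) r, b * u = u * b :=
  core_ME b hcard hr hr1 (by rw [zpowers_le]; exact hz) (fun h => hz1 (zpowers_eq_bot.1 h)) B hB hn h2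

end Cfsg.Agent.Omega.HT.Core
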