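import Cfsg.Agent.Omega.HT.OtCore
import Cfsg.Agent.Omega.HT.ParC
import Cfsg.Agent.Omega.HT.End

/-!
# II.0h1, `q = 2`, over a 2-group `S` of odd index in `N(R o)`: the end without `S` Sylow in `⟨C(Z), X⟩`

`OtD S V X r` (file `OtCore`) replaces `2 ∤ |M₀ : S|`:

* `otD` : `OtD S V X r` from `HTT` and `(zt)`;
* `core` : `Main.Core V R o r z` for every `z ∈ Z₀#`; `not_alpha` : AlphaP over `S`, with a second line
  `OtD S V₂ X₂ r₂`, `X₂ ≤ C(r) ∩ C(z)`, `O₂(M) ≤ C(V₂)` for `M ≥ S, X₂` of characteristic 2;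
* `eq_zpowers` : `JunC.eq_zpowers` without `hodd`;
* `main` : `|Z₀| ≤ 2`, if the elements `c` with `Sig V R o c` are trivial or satisfy `not (alpha)`.
-/

set_option autoImplicit false
set_option linter.unusedSectionVars false

namespace Cfsg.Agent.Omega.HT.EndCore

open Subgroup Cfsg Cfsg.Agent.ZN Cfsg.Agent.Omega.BTwo Cfsg.Agent.Omega.HT Cfsg.Agent.Omega.HT.EntryTv
open Cfsg.Agent.Omega.HT.EntryTs Cfsg.Agent.Omega.HT.OtCore Cfsg.Agent.Omega.HT.Main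
open Cfsg.Agent.Omega.HTwo.Hat Cfsg.Agent.Omega.HTwo.ThmA Cfsg.Agent.Omega.MinPar
open Cfsg.Agent.Omega.HOne.TvDef
open Cfsg.Agent.Omega.HTwo.EntryTv (QF NF ME QF_conj NF_conj NF_base NF_gen cen_zpowers ME_z)
open Cfsg.Agent.Omega.HTwo.AlphaP (MP)
open Cfsg.Agent.Omega.HOneTwo
open Cfsg.Agent.Omega.HT.TComp (GSysW)
open Cfsg.Agent.Omega.HT.JunAB (MZ)

universe u

variable {G : Type u} [Group G] [Finite G] {ι : Type*} {S P V : Subgroup G}
  {R : ι → Subgroup G} {o : ι}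

/-- `OtD` at `o` from `HTT` and `(zt)` -/
theorem otD (b : HTT S P V R o) {r : G} (hr : ∀ x, x ∈ R o ↔ x = 1 ∨ x = r)
    (zt : ∃ a ∈ S, ∃ v ∈ V, a * v * a⁻¹ = v * r ∧ ∀ c ∈ S, c * c = 1 →
      (∀ t ∈ S, t ∈ centralizer (V : Set G) → t * c = c * t) → a * c * a⁻¹ = c ∨ a * c * a⁻¹ = c * r) :
    OtD S V (XX V R) r where
  T_p := b.S_p
  T_r := fun t ht => (Two.mem_N_iff b hr).1 (b.S_R ht)
  odd := by
    have h1 := b.S_odd
    have e : normalizer (R o : Set G) = centralizer ({r} : Set G) := by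
      ext g
      rw [Two.mem_N_iff b hr, mem_centralizer_singleton_iff]
    rwa [e] at h1
  V_T := b.V_le_S
  V_sq := b.V_sq
  V_four := by
    intro v hv hv1 hvr w hw
    have hrV := b.R_le o ((hr r).2 (Or.inr rfl))
    obtain ⟨j, hj⟩ := b.R_cov v hv
    have hjo : j ≠ o := by
      rintro rfl
      rcases (hr v).1 hj with h | h
      · exact hv1 h
      · exact hvr h
    rcases JunAB.mem_V b hr hjo hj hv1 hw with h | h
    · rcases (hr w).1 h with h | h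
      · exact Or.inl h
      · exact Or.inr (Or.inl h)
    · rcases (hr _).1 h with h | h
      · right; right; left
        exact (inv_mul_eq_one.1 h).symm
      · right; right; right
        rw [← h, mul_inv_cancel_left]
  r_mem := b.R_le o ((hr r).2 (Or.inr rfl))
  r_ne := Two.r_ne b hr
  T_V := b.S_V
  X_V := b.toBTS.X_le_NV
  trans := fun v hv hv1 => Two.exists_conj_X b hr hv hv1
  zt := zt

section

variable (b : HTT S P V R o) {r : G} (hr : ∀ x, x ∈ R o ↔ x = 1 ∨ x = r) (h1 : OtD S V (XX V R) r)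
include b hr h1

/-- **`Core` for every `z ∈ Z₀#`** -/
theorem core {z : G} (hz : z ∈ zc S ⊓ centralizer (P : Set G)) : Core V R o r z := by
  intro B hB hn h2
  have hE : zpowers z ≤ zc S ⊓ centralizer (P : Set G) := zpowers_le_cz hz
  refine h1.core (S_le_ME b hE) (X_le_ME b) ?_ B hB hn h2
  show closure (Om (ME V R o (zpowers z)) r) = _
  congr 1
  ext x
  exact ⟨fun ⟨m, hm, e⟩ => ⟨m, hm, e.symm⟩, fun ⟨m, hm, e⟩ => ⟨m, hm, e.symm⟩⟩

/-- **`GSys` for `M₀`** -/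
theorem gsys_MZ {z₀ : G} (hz₀ : z₀ ∈ zc S ⊓ centralizer (P : Set G)) (hz₀1 : z₀ ≠ 1) :
    TV.GSys (MZ S V R) (cl (R o) (MZ S V R)) r := by
  have hUz : cl (R o) (centralizer ({z₀} : Set G)) ≤ zc (o2 (centralizer ({z₀} : Set G))) :=
    (b.cl_R_eq (b.trans_of_X (b.X_le_cen hz₀))).trans_le (b.cl_V_le (b.isLoc_cen hz₀.1 hz₀1) (b.X_le_cen hz₀))
  have hMz₀ : MZ S V R ≤ centralizer ({z₀} : Set G) := JunAB.MZ_le b hz₀
  have hUle : cl (R o) (MZ S V R) ≤ cl (R o) (centralizer ({z₀} : Set G)) :=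
    iSup_le fun m => cj_le_cl (hMz₀ m.2)
  refine h1.gsys hr ?_ le_sup_right fun x hx => ?_
  · exact fun s hs => (le_sup_left : centralizer (zc S : Set G) ≤ MZ S V R)
      (mem_centralizer_iff.2 fun z hz => ((mem_zc.1 hz).2.1 s hs).symm)
  · rw [← pow_two]; exact (mem_zc.1 (hUz (hUle hx))).2.2

/-- **AlphaP over `S`, with the second line `V₂`** -/
theorem not_alpha (hLE : ∀ i, LE V R i) {z : G} (hz : z ∈ zc S ⊓ centralizer (P : Set G)) (hz1 : z ≠ 1)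
    {V₂ X₂ : Subgroup G} {r₂ : G} (h2 : OtD S V₂ X₂ r₂) (hXr : ∀ x ∈ X₂, x * r = r * x)
    (hXz : ∀ x ∈ X₂, x * z = z * x)
    (loc : ∀ M : Subgroup G, S ≤ M → X₂ ≤ M → o2 M ≠ ⊥ → M ⊓ centralizer (o2 M : Set G) ≤ o2 M →
      o2 M ≤ centralizer (V₂ : Set G)) : ¬ UM V (MP V R o z) ≤ QQ (R o) := by
  have hr1 : r ≠ 1 := Two.r_ne b hr
  have hrR : r ∈ R o := (hr r).2 (Or.inr rfl)
  have hrr : r * r = 1 := b.V_sq r (b.R_le o hrR)
  have hzz : z * z = 1 := by rw [← pow_two]; exact (mem_zc.1 hz.1).2.2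
  have hzS : z ∈ S := ZN.zc_le _ hz.1
  have hSz : ∀ s ∈ S, s * z = z * s := (mem_zc.1 hz.1).2.1
  have hSr : ∀ s ∈ S, s * r = r * s := h1.T_r
  have hzr : z * r = r * z := hSr z hzS
  have hne : z * r ≠ 1 := by
    intro e
    have h3 : z = r := by
      calc z = z * (r * r) := by rw [hrr, mul_one]
        _ = (z * r) * r := by group
        _ = r := by rw [e, one_mul]
    have h4 : z ∈ V ⊓ (zc S ⊓ centralizer (P : Set G)) := ⟨h3 ▸ b.R_le o hrR, hz⟩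
    rw [b.R_inf_cz] at h4
    exact hz1 (mem_bot.1 h4)
  have hyy : z * r * (z * r) = 1 := by
    calc z * r * (z * r) = (z * r) * z * r := by group
      _ = r * (z * z) * r := by rw [hzr]; group
      _ = 1 := by rw [hzz, mul_one, hrr]
  have hSy : ∀ s ∈ S, s * (z * r) = z * r * s := fun s hs => by
    rw [← mul_assoc, hSz s hs, mul_assoc, hSr s hs, mul_assoc]
  have hXy : ∀ s ∈ X₂, s * (z * r) = z * r * s := fun s hs => by
    rw [← mul_assoc, hXz s hs, mul_assoc, hXr s hs, mul_assoc]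
  have hSC : S ≤ centralizer ({z * r} : Set G) := fun s hs => mem_centralizer_singleton_iff.2 (hSy s hs)
  have hloc : TLoc S (centralizer ({z * r} : Set G)) :=
    TLoc.centralizer (by rw [pow_two]; exact hyy) hne hSC
  refine Main.not_alpha b hLE hr hz hz1 (core b hr h1 hz) ?_
  exact OtCore.exists_Y b.char2 h2 (b.V_le_S (b.R_le o hrR)) hrr hr1 hSr hyy hne hSy hXy
    (loc _ hSC (fun x hx => mem_centralizer_singleton_iff.2 (hXy x hx)) hloc.o2_ne (hloc.char2 b.char2))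

end

/-- `noPar` for `E = C_Z(P)`, without `hodd` -/
theorem noPar_Z (b : HTT S P V R o) (hLE : ∀ i, LE V R i) {r : G} (hr : ∀ x, x ∈ R o ↔ x = 1 ∨ x = r)
    (hr1 : r ≠ 1) {j : ι} (hj : j ≠ o) {t : G} (ht : ∀ x, x ∈ R j ↔ x = 1 ∨ x = t) (ht1 : t ≠ 1)
    {E : Subgroup G} (hEe : E = zc S ⊓ centralizer (P : Set G)) (hE1 : E ≠ ⊥)
    (hbeta : ∃ u ∈ UU (ME V R o E) r, u ∉ QF r) :
    ∀ x y, Adj (ME V R o E) r t r x → Adj (ME V R o E) r t r y → x * y ∈ ZC QF r → y = x ∨ y = r * x := by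
  have h0 := tvH0 b hLE hr hr1 hEe.le hE1 hj ht ht1 hbeta
  have hS := tvS b hLE hr hr1 hEe.le hE1 hj ht ht1
  have hodd : ¬ 2 ∣ S.relIndex (centralizer ({r} : Set G)) := by
    have h1 := b.S_odd
    have e : normalizer (R o : Set G) = centralizer ({r} : Set G) := by
      ext g
      rw [Two.mem_N_iff b hr, mem_centralizer_singleton_iff]
    rwa [e] at h1
  refine ParC.noPar h0 hS.S_le hS.S_r hS.S_t hS.N_S hodd ?_
  intro c _ hcr hct hcS m hm
  have h1 := JunC.mem_cenX b hr hj ht hcr hct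
  have h2 : c ∈ E := by
    rw [hEe, b.cz_eq]
    refine mem_inf.2 ⟨?_, h1⟩
    have h3 : c ∈ centralizer (QQ (R o) : Set G) := by
      have : c ∈ centralizer (QF r : Set G) := hcr
      rwa [QF_eq b hr] at this
    have h4 : c ∈ QQ (R o) := by
      refine b.cenQ o (mem_inf.2 ⟨?_, h3⟩)
      exact centralizer_le_normalizer _ (centralizer_le ((b.R_le o).trans (b.V_Q o)) h3)
    refine mem_zc.2 ⟨b.Q_le_S h4, hcS, ?_⟩
    rw [pow_two]
    exact UU_sq b hr hr1 hEe.le hE1 ‹c ∈ UU (ME V R o E) r›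
  exact (mem_centralizer_iff.1 (ME_le_cen b hEe.le hm) c h2).symm

/-- not (alpha)₀ implies `|C_Z(P)| = 2`, without `hodd` -/
theorem eq_zpowers (b : HTT S P V R o) (hLE : ∀ i, LE V R i) {r : G} (hr : ∀ x, x ∈ R o ↔ x = 1 ∨ x = r)
    (hr1 : r ≠ 1) {j : ι} (hj : j ≠ o) {t : G} (ht : ∀ x, x ∈ R j ↔ x = 1 ∨ x = t) (ht1 : t ≠ 1)
    {E : Subgroup G} (hEe : E = zc S ⊓ centralizer (P : Set G)) (hα : ¬ UM V (ME V R o E) ≤ QQ (R o))
    {z : G} (hz : z ∈ E) (hz1 : z ≠ 1) : E = zpowers z := by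
  have hE1 : E ≠ ⊥ := fun h => hz1 (by rw [h] at hz; exact mem_bot.1 hz)
  have hbeta := beta_of b hr hr1 hEe.le hα
  have hpar := noPar_Z b hLE hr hr1 hj ht ht1 hEe hE1 hbeta
  obtain ⟨c, hC, hJ⟩ := jend b hLE hr hr1 hEe.le hE1 hj ht ht1 hbeta hpar
  have hc : ∀ y ∈ E, y ≠ 1 → c = y := fun y hy hy1 =>
    c_eq b hLE hr hr1 hEe.le hE1 hj ht ht1 hbeta hpar hC hJ hy hy1
  apply le_antisymm
  · intro y hy
    by_cases hy1 : y = 1
    · rw [hy1]; exact one_mem _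
    · rw [← hc y hy hy1, hc z hz hz1]; exact mem_zpowers z
  · rwa [zpowers_le]

/-- **the end of II.0h1, `q = 2`, over a 2-group, from `OtD`** -/
theorem main (b : HTT S P V R o) (hLE : ∀ i, LE V R i) {r : G} (hr : ∀ x, x ∈ R o ↔ x = 1 ∨ x = r)
    (h1 : OtD S V (XX V R) r)
    (hz : UM V (MZ S V R) ≤ QQ (R o) → ∀ c ∈ zc S ⊓ centralizer (P : Set G), Sig V R o c →
      ∃ z ∈ zc S ⊓ centralizer (P : Set G), z ≠ 1 ∧ (c = 1 ∨ c = z) ∧ ¬ UM V (MP V R o z) ≤ QQ (R o)) :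
    ∀ x ∈ zc S ⊓ centralizer (P : Set G), ∀ y ∈ zc S ⊓ centralizer (P : Set G), x ≠ 1 → y ≠ 1 → x = y := by
  intro x hx y hy hx1 hy1
  have hr1 : r ≠ 1 := Two.r_ne b hr
  obtain ⟨j, k, hj, hk, hjk⟩ := b.one_lt
  obtain ⟨t, ht1, ht2, ht⟩ := b.exists_gen j
  by_cases hα0 : UM V (MZ S V R) ≤ QQ (R o)
  · obtain ⟨c, hc, hsig⟩ := exists_sig b hr hLE (gsys_MZ b hr h1 hx hx1) hx hx1 hα0
    obtain ⟨z, hz, hz1, hcz, hα⟩ := hz hα0 c hc hsig
    have hpar := JunC.noPar_of b hr hz (fun g hg hgz hgV => hsig.norm b hr hc hg (by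
      rcases hcz with rfl | rfl
      · rw [mul_one, one_mul]
      · exact hgz) hgV) hj ht ht1
    have key : ∀ w ∈ zc S ⊓ centralizer (P : Set G), w ≠ 1 → w = z := fun w hw hw1 =>
      (eq_of_ts b hLE hr hr1 hz hz1 hj ht ht1 hα hpar (core b hr h1 hz) hw).resolve_left hw1
    rw [key x hx hx1, key y hy hy1]
  · have hMM : ME V R o (zc S ⊓ centralizer (P : Set G)) = MZ S V R := ME_MZ b
    have h1 := eq_zpowers b hLE hr hr1 hj ht ht1 rfl (by rw [hMM]; exact hα0) hx hx1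
    have h2 : y ∈ zpowers x := by rw [← h1]; exact hy
    have hx2 : x * x = 1 := by rw [← pow_two]; exact (mem_zc.1 hx.1).2.2
    obtain ⟨n, rfl⟩ := h2
    rcases Int.even_or_odd' n with ⟨m, rfl | rfl⟩
    · exfalso
      apply hy1
      show x ^ (2 * m) = 1
      rw [zpow_mul, zpow_two, hx2, one_zpow]
    · show x = x ^ (2 * m + 1)
      rw [zpow_add, zpow_mul, zpow_two, hx2, one_zpow, one_mul, zpow_one]

/-- **WrBig, CASE 1, the end**: `OtD` at the line `V` and at a second line `V₂` over the same `S`; two elements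
`z₀ ≠ z₁` of `Z₀#`, `z₀` centralised by `X₂`; the elements `c` with `Sig V R o c` are trivial. -/
theorem false_of (b : HTT S P V R o) (hLE : ∀ i, LE V R i) {r : G} (hr : ∀ x, x ∈ R o ↔ x = 1 ∨ x = r)
    (h1 : OtD S V (XX V R) r) {z₀ z₁ : G} (hz₀ : z₀ ∈ zc S ⊓ centralizer (P : Set G)) (h0 : z₀ ≠ 1)
    (hz₁ : z₁ ∈ zc S ⊓ centralizer (P : Set G)) (h11 : z₁ ≠ 1) (hne : z₁ ≠ z₀)
    (hc : ∀ c ∈ zc S ⊓ centralizer (P : Set G), Sig V R o c → c = 1)
    {V₂ X₂ : Subgroup G} {r₂ : G} (h2 : OtD S V₂ X₂ r₂) (hXr : ∀ x ∈ X₂, x * r = r * x)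
    (hXz : ∀ x ∈ X₂, x * z₀ = z₀ * x)
    (loc : ∀ M : Subgroup G, S ≤ M → X₂ ≤ M → o2 M ≠ ⊥ → M ⊓ centralizer (o2 M : Set G) ≤ o2 M →
      o2 M ≤ centralizer (V₂ : Set G)) : False := by
  apply hne
  refine main b hLE hr h1 (fun _ c hcc hs => ⟨z₀, hz₀, h0, Or.inl (hc c hcc hs), ?_⟩) z₁ hz₁ z₀ hz₀ h11 h0
  exact not_alpha b hr h1 hLE hz₀ h0 h2 hXr hXz loc

end Cfsg.Agent.Omega.HT.EndCore
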