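import Cfsg.Agent.Omega.HOneTwo.TwoPartB
import Cfsg.Agent.Omega.HOneTwo.TwoFourTS

/-!
# II.0h1 over `T`: THEOREM Z' (#17321, helper766)

`thmZ`: an element `c` of `C_G(⟨Q₁, Q₂⟩)` which centralises `U` and the elements of `Q p` (`p ∈ Δ`) that centralise
`U` lies in `⟨z⟩`, if `⟨r₁^{C(f)}⟩` is abelian for `f ∈ ⟨z, c⟩#`.  No Sylow group occurs.
-/

set_option autoImplicit false
set_option maxHeartbeats 400000
set_option linter.unusedSectionVars false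

namespace Cfsg.Agent.Omega.HT.ThmZ

open Subgroup Cfsg.Agent.Omega.HOneTwo.Trans

universe u

variable {G : Type u} [Group G]

/-- `x` centralises `U` and the elements of the `Q p` that centralise `U` -/
structure Zh (D : TS G) (x : G) : Prop where
  U : ∀ u ∈ D.U, x * u = u * x
  O : ∀ p ∈ D.Δ, ∀ y ∈ D.Q p, (∀ u ∈ D.U, y * u = u * y) → x * y = y * x

section

variable {D : TS G}

theorem Zh.r {x : G} (hx : Zh D x) : x * D.r 0 = D.r 0 * x := hx.U _ (D.r_mem 0)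

theorem Zh.z {x : G} (hx : Zh D x) : x * D.z = D.z * x := hx.U _ D.z_mem

theorem Zh.M {x : G} (hx : Zh D x) : x ∈ D.M := D.M_r x hx.r hx.z

theorem Zh.mul {x y : G} (hx : Zh D x) (hy : Zh D y) : Zh D (x * y) where
  U := fun _ hu => by rw [mul_assoc, hy.U _ hu, ← mul_assoc, hx.U _ hu, mul_assoc]
  O := fun p hp v hv hc => by rw [mul_assoc, hy.O p hp v hv hc, ← mul_assoc, hx.O p hp v hv hc, mul_assoc]

theorem Zh.ofU {x : G} (hx : x ∈ D.U) : Zh D x where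
  U := fun _ hu => D.U_comm hx hu
  O := fun _ _ _ _ hc => (hc x hx).symm

theorem Zh.conj {m x : G} (hm : m ∈ D.M) (hx : Zh D x) : Zh D (m * x * m⁻¹) where
  U := fun u hu => by
    have h1 := hx.U _ (gn_inv' hm hu)
    calc m * x * m⁻¹ * u = m * (x * (m⁻¹ * u * m)) * m⁻¹ := by group
      _ = u * (m * x * m⁻¹) := by rw [h1]; group
  O := fun p hp y hy hc => by
    have hp' : m⁻¹ * p * m⁻¹⁻¹ ∈ D.Δ := Dl_inv (inv_mem hm) hp
    have hy' := D.Q_conj m⁻¹ p y hy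
    have h1 := hx.O _ hp' _ hy' (fun u hu => by
      have h2 := hc _ (gn_inv hm hu)
      calc m⁻¹ * y * m⁻¹⁻¹ * u = m⁻¹ * (y * (m * u * m⁻¹)) * m := by group
        _ = u * (m⁻¹ * y * m⁻¹⁻¹) := by rw [h2]; group)
    calc m * x * m⁻¹ * y = m * (x * (m⁻¹ * y * m⁻¹⁻¹)) * m⁻¹ := by group
      _ = y * (m * x * m⁻¹) := by rw [h1]; group

theorem cU_of {n : G} (h : D.Hs.φ D.z n = 0) : ∀ u ∈ D.U, n * u = u * n := by
  have h1 := D.mem_cU.1 (D.φ'_iff.1 h)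
  rwa [D.Uy_z] at h1

/-- the action on `N₁` -/
theorem shape {x : G} (hx : Zh D x) : ∃ w ∈ gen (D.r 0) D.z,
    ∀ n ∈ gen (D.r 0) D.z, x * n * x⁻¹ = n * pw w (D.Hs.φ D.z n) := by
  obtain ⟨y, hy, h1⟩ := D.Hs.exists_nbr D.zHs
  have hyU : y ∈ D.Hs.U := D.Hs.Δ_le hy
  have hxy : x * y * x⁻¹ ∈ D.Hs.U := gen_inv hx.r hyU
  have fix : ∀ n ∈ gen (D.r 0) D.z, D.Hs.φ D.z n = 0 → x * n * x⁻¹ = n := fun n hn h =>
    conj_of_comm (hx.O _ D.r0_Δ n (mem_zt.1 (D.N_le_zt 0 hn)).1 (cU_of h))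
  refine ⟨y * (x * y * x⁻¹), Subgroup.mul_mem _ hyU hxy, fun n hn => ?_⟩
  rcases zmod_cases (D.Hs.φ D.z n) with h | h
  · rw [h, pw_zero, mul_one]
    exact fix n hn h
  · rw [h, pw_one]
    have h2 : D.Hs.φ D.z (n * y) = 0 := by
      rw [D.Hs.φ_mul D.zHs hn hyU, h, h1]; decide
    have h3 := fix _ (Subgroup.mul_mem _ hn hyU) h2
    calc x * n * x⁻¹ = (x * (n * y) * x⁻¹) * (x * y * x⁻¹)⁻¹ := by group
      _ = n * y * (x * y * x⁻¹) := by rw [h3, D.Hs.U_inv hxy]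
      _ = n * (y * (x * y * x⁻¹)) := mul_assoc _ _ _

/-- `w` is orthogonal to `z^⊥`, and `φ' n w` is constant off `z^⊥` -/
theorem kap {x w : G} (hx : Zh D x) (hw : w ∈ gen (D.r 0) D.z)
    (h : ∀ n ∈ gen (D.r 0) D.z, x * n * x⁻¹ = n * pw w (D.Hs.φ D.z n)) :
    ∃ k : ZMod 2, ∀ n ∈ D.Hs.Δ, D.Hs.φ n w = k * D.Hs.φ D.z n := by
  obtain ⟨y, hy, h1⟩ := D.Hs.exists_nbr D.zHs
  have hyU : y ∈ D.Hs.U := D.Hs.Δ_le hy
  have hw' : w ∈ D.Hs.U := hw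
  have hxA : x ∈ D.Hs.A := mem_centralizer_singleton_iff.2 hx.r
  have hyw : y * w ∈ D.Hs.Δ := by
    have h2 := D.Hs.Δ_conj x hxA y hy
    rwa [h y hyU, h1, pw_one] at h2
  refine ⟨D.Hs.φ (y * w) w, fun n hn => ?_⟩
  have hnU : n ∈ D.Hs.U := D.Hs.Δ_le hn
  rcases zmod_cases (D.Hs.φ D.z n) with h2 | h2
  · rw [h2, mul_zero]
    have h3 := D.Hs.φ_conj hxA hn hyU
    rw [h n hnU, h2, pw_zero, mul_one, h y hyU, h1, pw_one, D.Hs.φ_mul hn hyU hw'] at h3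
    exact left_eq_add.1 h3.symm
  · rw [h2, mul_one]
    have h3 := D.Hs.φ_conj hxA hy hnU
    rw [h n hnU, h2, pw_one, h y hyU, h1, pw_one, D.Hs.φ_mul hyw hnU hw', D.Hs.symm hyw hn,
      D.Hs.φ_mul hn hyU hw', D.Hs.symm hn hy] at h3
    have key : ∀ a b c : ZMod 2, a + b + c = a → b = c := by decide
    exact key _ _ _ h3

/-- if `w` is in the radical then `w = 1` -/
theorem w_one (hO : D.Hs.O2) {x w : G} (hx : Zh D x) (hw : w ∈ gen (D.r 0) D.z)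
    (h : ∀ n ∈ gen (D.r 0) D.z, x * n * x⁻¹ = n * pw w (D.Hs.φ D.z n))
    (h0 : ∀ n ∈ D.Hs.Δ, D.Hs.φ n w = 0) : w = 1 := by
  have hxA : x ∈ D.Hs.A := mem_centralizer_singleton_iff.2 hx.r
  have hw' : w ∈ D.Hs.U := hw
  have hw0 : w ∈ D.Hs.U0 := ⟨hw, h0⟩
  have hk : x ∈ D.Hs.Ker := by
    refine ⟨hxA, fun u hu => ?_, fun u hu => ?_⟩
    · rw [h u hu]
      have h2 : pw w (D.Hs.φ D.z u) ∈ D.Hs.U0 := by
        rcases zmod_cases (D.Hs.φ D.z u) with h3 | h3 <;> rw [h3]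
        · rw [pw_zero]; exact D.Hs.U0.one_mem
        · rw [pw_one]; exact hw0
      rw [D.Hs.U_comm hu h2.1, mul_inv_cancel_right]
      exact h2
    · rw [h u hu.1, hu.2 _ D.zHs, pw_zero, mul_one]
  obtain ⟨y, hy, h1⟩ := D.Hs.exists_nbr D.zHs
  have hyU : y ∈ D.Hs.U := D.Hs.Δ_le hy
  have h2 := D.Hs.ker_comm hO hk hyU
  have h3 := h y hyU
  rw [h2, mul_inv_cancel_right, h1, pw_one] at h3
  exact mul_eq_left.mp h3.symm

/-- **(1)** for `p = r 0` -/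
theorem dich (hO : D.Hs.O2) {x : G} (hx : Zh D x) :
    (∀ n ∈ gen (D.r 0) D.z, x * n * x⁻¹ = n) ∨
      ∀ n ∈ gen (D.r 0) D.z, x * n * x⁻¹ = n * pw (D.r 0 * D.z) (D.Hs.φ D.z n) := by
  obtain ⟨w, hw, h⟩ := shape hx
  have hw' : w ∈ D.Hs.U := hw
  obtain ⟨k, hk⟩ := kap hx hw h
  have hzU : D.z ∈ D.Hs.U := D.Hs.Δ_le D.zHs
  have hrU : D.r 0 ∈ D.Hs.U := D.Hs.z_mem
  rcases zmod_cases k with rfl | rfl
  · left
    have h1 := w_one hO hx hw h fun n hn => by rw [hk n hn, zero_mul]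
    intro n hn
    rw [h n hn, h1]
    rcases zmod_cases (D.Hs.φ D.z n) with h3 | h3 <;> rw [h3]
    · rw [pw_zero, mul_one]
    · rw [pw_one, mul_one]
  · right
    obtain ⟨u, hu, n0, hn0, hne⟩ := D.ts_ne
    have hact : ∀ n ∈ gen (D.r 0) D.z, u * n * u⁻¹ = n * pw (D.z * D.r 0) (D.Hs.φ D.z n) := by
      have huN : u ∈ D.Hs.N D.z := by
        show u ∈ D.Uy D.z
        rw [D.Uy_z]; exact hu
      exact (D.Hs.act' D.zHs huN).resolve_left fun h2 => hne (comm_of_conj (h2 n0 hn0)).symm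
    have hzr : D.z * D.r 0 ∈ D.Hs.U := Subgroup.mul_mem _ hzU hrU
    have hzrU : D.z * D.r 0 ∈ D.U := Subgroup.mul_mem _ D.z_mem (D.r_mem 0)
    have hxzr : ∀ c, x * pw (D.z * D.r 0) c * x⁻¹ = pw (D.z * D.r 0) c := fun c =>
      conj_of_comm (hx.U _ (D.Ms.pw_mem hzrU c))
    have h2 : ∀ n ∈ gen (D.r 0) D.z, x * u * n * (x * u)⁻¹ = n * pw (w * (D.z * D.r 0)) (D.Hs.φ D.z n) := by
      intro n hn
      calc x * u * n * (x * u)⁻¹ = x * (u * n * u⁻¹) * x⁻¹ := by group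
        _ = (x * n * x⁻¹) * (x * pw (D.z * D.r 0) (D.Hs.φ D.z n) * x⁻¹) := by rw [hact n hn]; group
        _ = n * (pw w (D.Hs.φ D.z n) * pw (D.z * D.r 0) (D.Hs.φ D.z n)) := by rw [hxzr, h n hn, mul_assoc]
        _ = _ := by
          congr 1
          rcases zmod_cases (D.Hs.φ D.z n) with h3 | h3 <;> rw [h3]
          · rw [pw_zero, pw_zero, pw_zero, mul_one]
          · rw [pw_one, pw_one, pw_one]
    have h3 := w_one hO (hx.mul (Zh.ofU hu)) (Subgroup.mul_mem _ hw hzr) h2 (fun n hn => by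
      rw [D.Hs.φ_mul hn hw' hzr, D.Hs.φ_mul hn hzU hrU, hk n hn, one_mul, D.Hs.symm hn D.zHs,
        show D.Hs.φ n (D.r 0) = 0 from D.Hs.φ_z hn, add_zero]
      have : ∀ c : ZMod 2, c + c = 0 := by decide
      exact this _)
    have h4 : w = D.r 0 * D.z := by
      have h5 : w = (D.z * D.r 0)⁻¹ := mul_eq_one_iff_eq_inv.1 h3
      rw [h5, D.Hs.U_inv hzr, D.z_r]
    intro n hn
    rw [h n hn, h4]

/-- **(1)**: elements of `Zh` act on each `N p` as `1` or as the elements of `U` -/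
theorem loc (hO : D.Hs.O2) {x : G} (hx : Zh D x) : D.Ms.Loc x := by
  rintro p ⟨m, hm, rfl⟩
  have hmA : m ∈ D.Ms.A := hm
  have hx' : Zh D (m⁻¹ * x * m⁻¹⁻¹) := Zh.conj (inv_mem hm) hx
  have hn' : ∀ n ∈ gen (m * D.r 0 * m⁻¹) D.z, m⁻¹ * n * m⁻¹⁻¹ ∈ gen (D.r 0) D.z := by
    intro n hn
    have h1 := gen_conj m⁻¹ hn
    have e : m⁻¹ * (m * D.r 0 * m⁻¹) * m⁻¹⁻¹ = D.r 0 := by group
    rwa [e, D.m_z' hm] at h1
  have back : ∀ n a : G, m⁻¹ * x * m⁻¹⁻¹ * (m⁻¹ * n * m⁻¹⁻¹) * (m⁻¹ * x * m⁻¹⁻¹)⁻¹ = m⁻¹ * n * m⁻¹⁻¹ * a →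
      x * n * x⁻¹ = n * (m * a * m⁻¹) := by
    intro n a h
    calc x * n * x⁻¹ = m * (m⁻¹ * x * m⁻¹⁻¹ * (m⁻¹ * n * m⁻¹⁻¹) * (m⁻¹ * x * m⁻¹⁻¹)⁻¹) * m⁻¹ := by group
      _ = n * (m * a * m⁻¹) := by rw [h]; group
  have hNC : ∀ n, D.Ms.NC (m⁻¹ * n * m⁻¹⁻¹) ↔ D.Ms.NC n := fun n =>
    ⟨fun h => Side.NC_conj' (D.Ms.A.inv_mem hmA) h, fun h => Side.NC_conj (D.Ms.A.inv_mem hmA) h⟩
  have e3 : m * (D.r 0 * D.z) * m⁻¹ = m * D.r 0 * m⁻¹ * D.z := by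
    calc m * (D.r 0 * D.z) * m⁻¹ = m * D.r 0 * m⁻¹ * (m * D.z * m⁻¹) := by group
      _ = _ := by rw [D.m_z hm]
  rcases dich hO hx' with h | h
  · have h1 : ∀ n ∈ gen (m * D.r 0 * m⁻¹) D.z, x * n * x⁻¹ = n := by
      intro n hn
      have h2 := back n 1 (by rw [h _ (hn' n hn), mul_one])
      rw [h2]; group
    exact ⟨fun n hn _ => h1 n hn, Or.inl h1⟩
  · refine ⟨fun n hn hnc => ?_, Or.inr fun n hn hnc => ?_⟩
    · have h1 : ¬ D.Ms.NC (m⁻¹ * n * m⁻¹⁻¹) := fun h' => hnc ((hNC n).1 h')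
      have h2 := D.not_NC_iff.1 h1
      have h3 := back n 1 (by rw [h _ (hn' n hn), h2, pw_zero])
      rw [h3]; group
    · have h1 : D.Ms.NC (m⁻¹ * n * m⁻¹⁻¹) := (hNC n).2 hnc
      have h2 := D.NC_iff.1 h1
      have h3 := back n (D.r 0 * D.z) (by rw [h _ (hn' n hn), h2, pw_one])
      rw [h3, e3]; rfl

/-- **(2)** -/
theorem psi_one {x p q : G} (hx : D.Ms.Loc x) (hp : p ∈ D.Δ) (hq : q ∈ D.Δ) (h1 : D.φ p q = 1) :
    D.Ms.psi x (p * q * D.z) = D.Ms.psi x p + D.Ms.psi x q := by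
  have hp' : p * q * D.z ∈ D.Ms.Δ := D.mul_z_mem hp hq h1
  have hp : p ∈ D.Ms.Δ := hp
  have hq : q ∈ D.Ms.Δ := hq
  have h1 : D.Ms.φ p q = 1 := h1
  have hq1 : D.Ms.φ q p = 1 := (D.Ms.symm hq hp).trans h1
  set a := D.Ms.psi x p with ha
  set b := D.Ms.psi x q with hb
  have hpU := D.Ms.Δ_le hp
  have hqU := D.Ms.Δ_le hq
  have htA := D.Ms.t_A hp
  have ht := Side.loc_act hx hp (D.Ms.t_mem hp) (Side.t_NC hp)
  have hs := Side.loc_act hx hq (D.Ms.t_mem hq) (Side.t_NC hq)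
  rw [← ha] at ht
  rw [← hb] at hs
  have e1 : D.Ms.t p * q * (D.Ms.t p)⁻¹ = p * q * D.z := by
    rw [D.Ms.t_act hp hqU, h1, pw_one, ← mul_assoc, D.Ms.U_comm hqU hpU]; rfl
  have hn := D.Ms.N_conj _ htA q hq _ (D.Ms.t_mem hq)
  rw [e1] at hn
  have hnc := Side.NC_conj htA (Side.t_NC hq)
  have h2 := Side.loc_act hx hp' hn hnc
  have hA : pw (p * D.z) a ∈ D.Ms.U := D.Ms.pw_mem (D.Ms.pz_mem hp) a
  have hB : ∀ c, pw (q * D.z) c ∈ D.Ms.U := fun c => D.Ms.pw_mem (D.Ms.pz_mem hq) c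
  have e2 : D.Ms.φ q (pw (p * D.z) a) = a := by
    rw [D.Ms.φ_pw hq, show D.Ms.φ q (p * D.z) = D.Ms.φ q p from D.Ms.φ_pz hp hq, hq1, mul_one]
  have hti : (D.Ms.t q)⁻¹ = D.Ms.t q := inv_eq_of_mul_eq_one_left (D.N_sq' hq (D.Ms.t_mem hq))
  have e3 : pw (p * D.z) a * D.Ms.t q = D.Ms.t q * (pw (p * D.z) a * pw (q * D.z) a) := by
    have h3 := D.Ms.t_act hq hA
    rw [e2, hti] at h3
    have h4 := D.N_sq' hq (D.Ms.t_mem hq)
    calc pw (p * D.z) a * D.Ms.t q = (D.Ms.t q * D.Ms.t q) * (pw (p * D.z) a * D.Ms.t q) := by rw [h4, one_mul]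
      _ = D.Ms.t q * (D.Ms.t q * pw (p * D.z) a * D.Ms.t q) := by group
      _ = _ := by rw [h3]; rfl
  have e4 : D.Ms.t p * (q * D.z) * (D.Ms.t p)⁻¹ = p * q * D.z * D.z := by
    calc D.Ms.t p * (q * D.z) * (D.Ms.t p)⁻¹
        = (D.Ms.t p * q * (D.Ms.t p)⁻¹) * (D.Ms.t p * D.z * (D.Ms.t p)⁻¹) := by group
      _ = _ := by rw [e1, D.m_z htA]
  have h3 : x * (D.Ms.t p * D.Ms.t q * (D.Ms.t p)⁻¹) * x⁻¹ =
      D.Ms.t p * D.Ms.t q * (D.Ms.t p)⁻¹ * pw (p * q * D.z * D.z) (a + b) := by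
    calc x * (D.Ms.t p * D.Ms.t q * (D.Ms.t p)⁻¹) * x⁻¹
        = (x * D.Ms.t p * x⁻¹) * (x * D.Ms.t q * x⁻¹) * (x * D.Ms.t p * x⁻¹)⁻¹ := by group
      _ = D.Ms.t p * ((pw (p * D.z) a * D.Ms.t q) * pw (q * D.z) b * (pw (p * D.z) a)⁻¹) * (D.Ms.t p)⁻¹ := by
        rw [ht, hs]
        show D.Ms.t p * pw (p * D.z) a * (D.Ms.t q * pw (q * D.z) b) * (D.Ms.t p * pw (p * D.z) a)⁻¹ = _
        group
      _ = D.Ms.t p * (D.Ms.t q * (pw (p * D.z) a * (pw (q * D.z) a * pw (q * D.z) b) * (pw (p * D.z) a)⁻¹)) *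
          (D.Ms.t p)⁻¹ := by
        rw [e3]; group
      _ = D.Ms.t p * (D.Ms.t q * pw (q * D.z) (a + b)) * (D.Ms.t p)⁻¹ := by
        rw [← pw_add (show q * D.z * (q * D.z) = 1 from D.Ms.pz_sq hq), D.Ms.U_comm hA (hB _), mul_inv_cancel_right]
      _ = D.Ms.t p * D.Ms.t q * (D.Ms.t p)⁻¹ * (D.Ms.t p * pw (q * D.z) (a + b) * (D.Ms.t p)⁻¹) := by group
      _ = _ := by rw [pw_conj, e4]
  rw [h2] at h3
  exact pw_inj (D.Ms.pz_ne hp') (mul_left_cancel h3)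

/-- `ψ_x` is invariant under elements of `M` that centralise `x` -/
theorem psi_conj {x p m : G} (hx : D.Ms.Loc x) (hp : p ∈ D.Δ) (hm : m ∈ D.M) (hmx : m * x = x * m) :
    D.Ms.psi x (m * p * m⁻¹) = D.Ms.psi x p := by
  have hp : p ∈ D.Ms.Δ := hp
  have hmA : m ∈ D.Ms.A := hm
  have hp' : m * p * m⁻¹ ∈ D.Ms.Δ := D.Ms.Δ_conj m hmA p hp
  have h1 := Side.loc_act hx hp' (D.Ms.N_conj m hmA p hp _ (D.Ms.t_mem hp)) (Side.NC_conj hmA (Side.t_NC hp))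
  have h2 := Side.loc_act hx hp (D.Ms.t_mem hp) (Side.t_NC hp)
  have e : m * (p * D.z) * m⁻¹ = m * p * m⁻¹ * D.z := by
    calc m * (p * D.z) * m⁻¹ = m * p * m⁻¹ * (m * D.z * m⁻¹) := by group
      _ = _ := by rw [D.m_z hm]
  have h3 : x * (m * D.Ms.t p * m⁻¹) * x⁻¹ = m * D.Ms.t p * m⁻¹ * pw (m * p * m⁻¹ * D.z) (D.Ms.psi x p) := by
    calc x * (m * D.Ms.t p * m⁻¹) * x⁻¹ = (x * m) * D.Ms.t p * (x * m)⁻¹ := by group
      _ = m * (x * D.Ms.t p * x⁻¹) * m⁻¹ := by rw [← hmx]; group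
      _ = m * D.Ms.t p * m⁻¹ * (m * pw (p * D.z) (D.Ms.psi x p) * m⁻¹) := by
        rw [h2]
        show m * (D.Ms.t p * pw (p * D.z) (D.Ms.psi x p)) * m⁻¹ = _
        group
      _ = _ := by rw [pw_conj, e]
  rw [h1] at h3
  exact pw_inj (D.Ms.pz_ne hp') (mul_left_cancel h3)

end

variable (D : TS G)

/-- **THEOREM Z'** -/
theorem thmZ (hO : D.Hs.O2)
    (bs : ∀ u ∈ D.U, u ∉ D.Q (D.r 0) → ∃ h, h * D.r 0 = D.r 0 * h ∧ (u * (h * u * h⁻¹)) ^ 4 ≠ 1)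
    {c : G} (hcC : c ∈ D.C) (hcU : ∀ u ∈ D.U, c * u = u * c)
    (hcO : ∀ p ∈ D.Δ, ∀ x ∈ D.Q p, (∀ u ∈ D.U, x * u = u * x) → c * x = x * c)
    (ab : ∀ f, (f = c ∨ f = D.z ∨ f = c * D.z) → f ≠ 1 →
      ∀ x ∈ gen f (D.r 0), ∀ y ∈ gen f (D.r 0), x * y = y * x) : c = 1 ∨ c = D.z := by
  have hc : Zh D c := ⟨hcU, hcO⟩
  have hL := loc hO hc
  have hcz : ∀ i, c ∈ zt (D.Q (D.r i)) := fun i => D.C_le i hcC
  have r01 : D.r 0 * D.r 1 = D.r 2 := by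
    have h1 := mul_eq_one_iff_eq_inv.1 D.r_prod
    rwa [D.Ms.U_inv (D.r_mem 2)] at h1
  have rperp : ∀ i j, D.φ (D.r i) (D.r j) = 0 := fun i j => D.φ_eq_zero_iff.2 (D.r_Q j i)
  -- (3): `ψ` is constant off `r_i^⊥`
  have const : ∀ i, ∀ p ∈ D.Δ, ∀ q ∈ D.Δ, D.φ (D.r i) p = 1 → D.φ (D.r i) q = 1 →
      D.Ms.psi c p = D.Ms.psi c q := by
    intro i p hp q hq h1 h2
    obtain ⟨g, hg, rfl⟩ := D.trans_opp (D.r_Δ i) hp hq h1 h2
    have hgM : g ∈ D.M := D.Q_A (D.r_Δ i) hg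
    exact (psi_conj hL hp hgM ((mem_zt.1 (hcz i)).2 g hg).symm).symm
  have hr0 := D.r_Δ 0
  have hr1 := D.r_Δ 1
  have hr2 := D.r_Δ 2
  -- the constant is `0`
  have g0 : ∀ p ∈ D.Δ, D.φ (D.r 0) p = 1 → D.Ms.psi c p = 0 := by
    obtain ⟨s, hs, hs0, hs2⟩ := D.exists_11 hr0 hr2
    have hs1 : D.φ (D.r 1) s = 0 := by
      have h1 : D.φ s (D.r 2) = D.φ s (D.r 0) + D.φ s (D.r 1) := by
        rw [← r01, D.φ_mul hs (D.r_mem 0) (D.r_mem 1)]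
      rw [D.φ_symm hs hr2, D.φ_symm hs hr0, D.φ_symm hs hr1, hs0, hs2] at h1
      have key : ∀ a : ZMod 2, 1 = 1 + a → a = 0 := by decide
      exact key _ h1
    obtain ⟨t, ht, ht1, ht2⟩ := D.exists_11 hr1 hr2
    have ht0 : D.φ (D.r 0) t = 0 := by
      have h1 : D.φ t (D.r 2) = D.φ t (D.r 0) + D.φ t (D.r 1) := by
        rw [← r01, D.φ_mul ht (D.r_mem 0) (D.r_mem 1)]
      rw [D.φ_symm ht hr2, D.φ_symm ht hr0, D.φ_symm ht hr1, ht1, ht2] at h1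
      have key : ∀ a : ZMod 2, 1 = a + 1 → a = 0 := by decide
      exact key _ h1
    -- `s` of type `(1,0)`, `t'` of type `(0,1)`, `φ s t' = 1`
    obtain ⟨t', ht', ht'0, ht'1, hst⟩ : ∃ t' ∈ D.Δ, D.φ (D.r 0) t' = 0 ∧ D.φ (D.r 1) t' = 1 ∧ D.φ s t' = 1 := by
      rcases zmod_cases (D.φ s t) with h | h
      · have hne : t ≠ D.r 0 := by
          intro e
          rw [e, rperp] at ht1
          exact zero_ne_one ht1
        refine ⟨t * D.r 0, D.mul_mem ht hr0 hne ((D.φ_symm ht hr0).trans ht0), ?_, ?_, ?_⟩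
        · rw [D.φ_mul hr0 (D.ΔU ht) (D.r_mem 0), ht0, rperp, add_zero]
        · rw [D.φ_mul hr1 (D.ΔU ht) (D.r_mem 0), ht1, rperp, add_zero]
        · rw [D.φ_mul hs (D.ΔU ht) (D.r_mem 0), h, D.φ_symm hs hr0, hs0, zero_add]
      · exact ⟨t, ht, ht0, ht1, h⟩
    have hm := D.mul_z_mem hs ht' hst
    have hsU := D.ΔU hs
    have htU := D.ΔU ht'
    have hm0 : D.φ (D.r 0) (s * t' * D.z) = 1 := by
      rw [D.φ_mul hr0 (Subgroup.mul_mem _ hsU htU) D.z_mem, D.φ_mul hr0 hsU htU, hs0, ht'0, D.φ_z hr0,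
        add_zero, add_zero]
    have hm1 : D.φ (D.r 1) (s * t' * D.z) = 1 := by
      rw [D.φ_mul hr1 (Subgroup.mul_mem _ hsU htU) D.z_mem, D.φ_mul hr1 hsU htU, hs1, ht'1, D.φ_z hr1,
        add_zero, zero_add]
    have h1 := psi_one hL hs ht' hst
    rw [const 0 s hs _ hm hs0 hm0, const 1 t' ht' _ hm ht'1 hm1] at h1
    have h2 : D.Ms.psi c (s * t' * D.z) = 0 := by
      have key : ∀ a : ZMod 2, a = a + a → a = 0 := by decide
      exact key _ h1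
    intro p hp h
    rw [const 0 p hp _ hm h hm0, h2]
  have gz : ∀ p ∈ D.Δ, D.Ms.psi c p = 0 := by
    intro p hp
    rcases zmod_cases (D.φ (D.r 0) p) with h | h
    · obtain ⟨q, hq, h1, h2⟩ := D.exists_11 hp hr0
      have hm := D.mul_z_mem hp hq h1
      have hpU := D.ΔU hp
      have hqU := D.ΔU hq
      have hm0 : D.φ (D.r 0) (p * q * D.z) = 1 := by
        rw [D.φ_mul hr0 (Subgroup.mul_mem _ hpU hqU) D.z_mem, D.φ_mul hr0 hpU hqU, h, h2, D.φ_z hr0,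
          add_zero, zero_add]
      have h3 := psi_one hL hp hq h1
      rw [g0 q hq h2, g0 _ hm hm0, add_zero] at h3
      exact h3.symm
    · exact g0 p hp h
  -- `c` centralises the `N p`
  have hcN : ∀ p ∈ D.Δ, ∀ n ∈ gen p D.z, n * c = c * n := by
    intro p hp n hn
    have hp' : p ∈ D.Ms.Δ := hp
    exact (comm_of_conj (Side.loc_fix hL hp' hn (gz p hp))).symm
  -- (4): `U ≤ ⟨r₁^{C(f)}⟩`
  have orb : ∀ f : G, (∀ p ∈ D.Δ, ∀ n ∈ gen p D.z, n * f = f * n) → D.U ≤ gen f (D.r 0) := by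
    intro f hf
    have h1 : D.U = closure D.Δ := rfl
    rw [h1]
    unfold gen
    apply Subgroup.closure_mono
    intro q hq
    have h2 := D.conn hr0 hq
    induction h2 with
    | refl => exact self_mem_Delta _ _
    | @tail a b _ hab ih =>
      obtain ⟨ha, hb, hab1⟩ := hab
      have ih := ih ha
      have ha' : a ∈ D.Ms.Δ := ha
      have hb' : b ∈ D.Ms.Δ := hb
      have hba : D.Ms.φ b a = 1 := (D.Ms.symm hb' ha').trans hab1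
      have e1 : D.Ms.t a * b * (D.Ms.t a)⁻¹ = b * (a * D.z) := by
        rw [D.Ms.t_act ha' (D.Ms.Δ_le hb'), show D.Ms.φ a b = 1 from hab1, pw_one]; rfl
      have e2 : D.Ms.t b * a * (D.Ms.t b)⁻¹ = a * (b * D.z) := by
        rw [D.Ms.t_act hb' (D.Ms.Δ_le ha'), hba, pw_one]; rfl
      have e3 : a * (b * D.z) = b * (a * D.z) := by
        rw [← mul_assoc, ← mul_assoc, D.U_comm (D.ΔU ha) (D.ΔU hb)]
      have h3 := Delta_inv (hf b hb _ (D.Ms.t_mem hb')) ih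
      rw [e2, e3, ← e1] at h3
      have h4 := Delta_inv' (hf a ha _ (D.Ms.t_mem ha')) h3
      have e4 : (D.Ms.t a)⁻¹ * (D.Ms.t a * b * (D.Ms.t a)⁻¹) * D.Ms.t a = b := by group
      rwa [e4] at h4
  -- the Baer-Suzuki trick
  obtain ⟨u, hu, n, hn, hne⟩ := D.ts_ne
  have huU : u ∈ D.U := hu
  have huQ : u ∉ D.Q (D.r 0) := fun h => hne ((mem_zt.1 (D.N_le_zt 0 hn)).2 u h)
  obtain ⟨h, hh, h4⟩ := bs u huU huQ
  have hy : h * D.z * h⁻¹ ∈ D.Hs.Δ := ⟨h, hh, rfl⟩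
  have hv : h * u * h⁻¹ ∈ D.Uy (h * D.z * h⁻¹) := by
    rw [D.mem_Uy hh]
    have e : h⁻¹ * (h * u * h⁻¹) * h = u := by group
    rwa [e]
  have hzN : ∀ p ∈ D.Δ, ∀ n ∈ gen p D.z, n * D.z = D.z * n := by
    intro p hp n hn
    exact ((mem_zt.1 (D.z_zt' hp)).2 n (mem_zt.1 (D.N_le_zt' hp hn)).1).symm
  have key : ∀ e, (e = c ∨ e = D.z ∨ e = c * D.z) → e ≠ 1 →
      (∀ p ∈ D.Δ, ∀ n ∈ gen p D.z, n * e = e * n) →
      e ∉ centralizer (D.Uy (h * D.z * h⁻¹) : Set G) := by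
    intro e he he1 heN hec
    apply h4
    have hab := ab e he he1
    have huA := orb e heN huU
    have hve := (D.mem_cU.1 hec _ hv).symm
    have hvuA := gen_inv (z := e) (r := D.r 0) hve huA
    have huu := D.mul_self huU
    have hvv : h * u * h⁻¹ * (h * u * h⁻¹) = 1 := by
      calc h * u * h⁻¹ * (h * u * h⁻¹) = h * (u * u) * h⁻¹ := by group
        _ = 1 := by rw [huu]; group
    set v := h * u * h⁻¹ with hvdef
    have hvi : v⁻¹ = v := inv_eq_of_mul_eq_one_left hvv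
    have hc := hab _ huA _ hvuA
    have hw : (v * u * v⁻¹) * (v * u * v⁻¹) = 1 := by
      calc (v * u * v⁻¹) * (v * u * v⁻¹) = v * (u * u) * v⁻¹ := by group
        _ = 1 := by rw [huu]; group
    have e1 : (u * v) ^ 2 = u * (v * u * v⁻¹) := by
      rw [pow_two, hvi]; group
    calc (u * v) ^ 4 = (u * v) ^ 2 * (u * v) ^ 2 := by rw [← pow_add]
      _ = u * (v * u * v⁻¹) * (u * (v * u * v⁻¹)) := by rw [e1]
      _ = u * ((v * u * v⁻¹) * u) * (v * u * v⁻¹) := by group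
      _ = u * (u * (v * u * v⁻¹)) * (v * u * v⁻¹) := by rw [← hc]
      _ = (u * u) * ((v * u * v⁻¹) * (v * u * v⁻¹)) := by group
      _ = 1 := by rw [huu, hw, one_mul]
  by_cases hc1 : c = 1
  · exact Or.inl hc1
  by_cases hcz1 : c = D.z
  · exact Or.inr hcz1
  exfalso
  have h1 := key c (Or.inl rfl) hc1 hcN
  have h2 := key D.z (Or.inr (Or.inl rfl)) D.z_ne hzN
  refine key (c * D.z) (Or.inr (Or.inr rfl)) ?_ ?_ (D.cU_mul hy (hcz 0) (D.z_zt 0) h1 h2)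
  · intro e
    apply hcz1
    calc c = c * D.z * D.z := by rw [mul_assoc, D.z_sq, mul_one]
      _ = D.z := by rw [e, one_mul]
  · intro p hp n hn
    rw [← mul_assoc, hcN p hp n hn, mul_assoc, hzN p hp n hn, mul_assoc]

end Cfsg.Agent.Omega.HT.ThmZ
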