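import Cfsg.Agent.Omega.HT.EntryTs
import Cfsg.Agent.Omega.HT.ThmZ
import Cfsg.Agent.Omega.HOneTwo.TwoPartC

/-!
# II.0h1, `q = 2`, over a 2-group `S` Sylow in `N(R o)`: THEOREM Z' (#17321) for `HTT`

* `o2_cen_le`, `o2_ME_le` : `O₂(C(z)), O₂(ME V R o ⟨z⟩) ≤ S`;
* `eq_z` : TS(z) for one `z ∈ C_Z(P)#` implies `C_Z(P) = ⟨z⟩`.
-/

set_option autoImplicit false
set_option linter.unusedSectionVars false

namespace Cfsg.Agent.Omega.HT.EndZ

open Subgroup Cfsg Cfsg.Agent.ZN Cfsg.Agent.Omega.BTwo Cfsg.Agent.Omega.HT Cfsg.Agent.Omega.HT.EntryTv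
open Cfsg.Agent.Omega.HT.EntryTs
open Cfsg.Agent.Omega.HOneTwo (cl cj_le_cl le_cl le_normalizer_cl cl_le eq_of_card_two normalizer_le_cen_of_card UM Dt)
open Cfsg.Agent.Omega.HTwo.Hat Cfsg.Agent.Omega.HTwo.ThmA Cfsg.Agent.Omega.MinPar
open Cfsg.Agent.Omega.HOne.TvDef
open Cfsg.Agent.Omega.HTwo.EntryTv (QF NF ME QF_conj NF_conj NF_base NF_gen cen_zpowers ME_z)
open Cfsg.Agent.Omega.HTwo.AlphaP (MP)

universe u

variable {G : Type u} [Group G] [Finite G] {ι : Type*} {S P V : Subgroup G}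
  {R : ι → Subgroup G} {o : ι} (b : HTT S P V R o)
  {z : G} (hz : z ∈ zc S ⊓ centralizer (P : Set G)) (hz1 : z ≠ 1)

include b

theorem S_le_cen (hz : z ∈ zc S ⊓ centralizer (P : Set G)) : S ≤ centralizer ({z} : Set G) := fun s hs =>
  mem_centralizer_singleton_iff.2 ((mem_zc.1 hz.1).2.1 s hs)

/-- `O₂(M) ≤ S` if `O₂(M)` centralises `V` and `S ≤ M` -/
theorem o2_le_S {M : Subgroup G} (hSM : S ≤ M) (h : ZN.o2 M ≤ centralizer (V : Set G)) : ZN.o2 M ≤ S :=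
  le_S_of_norm b (ZN.isPGroup_o2 M) (h.trans (b.cen_le_N o)) (hSM.trans (ZN.le_normalizer_o2 M))

include hz hz1

theorem o2_cen_le : ZN.o2 (centralizer ({z} : Set G)) ≤ S :=
  o2_le_S b (S_le_cen b hz) (b.o2_le_cen (b.isLoc_cen hz.1 hz1) (b.X_le_cen hz))

theorem o2_ME_le : ZN.o2 (ME V R o (zpowers z)) ≤ S := by
  have hE := zpowers_le_cz hz
  have hSM : S ≤ ME V R o (zpowers z) := S_le_ME b hE
  have hMz : ME V R o (zpowers z) ≤ centralizer ({z} : Set G) := by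
    have h1 := ME_le_cen b hE
    rwa [cen_zpowers] at h1
  have h1 := o2_cen_le b hz hz1
  have h2 : ZN.o2 (centralizer ({z} : Set G)) ≤ ZN.o2 (ME V R o (zpowers z)) :=
    ZN.le_o2 (h1.trans hSM) (ZN.isPGroup_o2 _) (hMz.trans (ZN.le_normalizer_o2 _))
  have h3 := b.isLoc_cen hz.1 hz1
  refine o2_le_S b hSM (b.loc _ hSM (X_le_ME b) ?_ ?_)
  · exact fun h => h3.o2_ne (le_bot_iff.1 (h2.trans_eq h))
  · refine le_trans ?_ ((h3.char2 b.char2).trans h2)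
    exact inf_le_inf hMz (centralizer_le h2)

variable (hLE : ∀ i, LE V R i) {r : G} (hr : ∀ x, x ∈ R o ↔ x = 1 ∨ x = r) (hr1 : r ≠ 1)

include hr hr1 in
/-- `Q r ∩ C(U) ≤ O₂(M)` -/
theorem Q_inf_le : QF r ⊓ centralizer (UU (ME V R o (zpowers z)) r : Set G) ≤ ZN.o2 (ME V R o (zpowers z)) := by
  have hE := zpowers_le_cz hz
  obtain ⟨M, hM⟩ : ∃ M, M = ME V R o (zpowers z) := ⟨_, rfl⟩
  have hQM : QF r ≤ M := by rw [hM, QF_eq b hr]; exact Q_le_ME b hE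
  have hU : ∀ m ∈ M, ∀ u ∈ UU M r, m * u * m⁻¹ ∈ UU M r := by
    intro m hm u hu
    rw [hM] at hm hu ⊢
    exact M_norm_UU b hr hr1 hE hm hu
  have hcn : ∀ m ∈ M, ∀ x ∈ centralizer (UU M r : Set G), m * x * m⁻¹ ∈ centralizer (UU M r : Set G) := by
    intro m hm x hx
    rw [mem_centralizer_iff] at hx ⊢
    intro u hu
    have h1 := hx _ (hU m⁻¹ (inv_mem hm) u hu)
    calc u * (m * x * m⁻¹) = m * ((m⁻¹ * u * m⁻¹⁻¹) * x) * m⁻¹ := by group
      _ = m * x * m⁻¹ * u := by rw [h1]; group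
  rw [← hM]
  change _ ≤ O2 M
  refine le_O2_of_chain (B := M ⊓ centralizer (UU M r : Set G)) (C := M ⊓ centralizer (UU M r : Set G))
    (inf_le_inf_right _ hQM) le_rfl inf_le_left ((O2_isPGroup _).to_le inf_le_left) ?_ ?_ ?_
  · intro g hg x hx
    refine ⟨?_, hcn g hg.1 x hx.2⟩
    have h1 := QF_conj (g := g) hx.1
    have h2 : g * r * g⁻¹ = r := by
      have h3 : r ∈ UU M r := subset_closure ⟨1, one_mem _, by group⟩
      have h4 := mem_centralizer_iff.1 hg.2 r h3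
      rw [← h4, mul_inv_cancel_right]
    rwa [h2] at h1
  · exact fun g hg x hx => ⟨M.mul_mem (M.mul_mem hg.1 hx.1) (M.inv_mem hg.1), hcn g hg.1 x hx.2⟩
  · exact fun g hg x hx => ⟨M.mul_mem (M.mul_mem hg hx.1) (M.inv_mem hg), hcn g hg x hx.2⟩

variable {j : ι} (hj : j ≠ o) {t : G} (ht : ∀ x, x ∈ R j ↔ x = 1 ∨ x = t) (ht1 : t ≠ 1)

include hLE hr hr1 hj ht ht1 in
/-- **THEOREM Z'** : TS(z) for one `z ∈ C_Z(P)#` implies `C_Z(P) = ⟨z⟩` -/
theorem eq_z (hα : ¬ UM V (MP V R o z) ≤ QQ (R o))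
    (hpar : ∀ x y, Adj (ME V R o (zpowers z)) r t r x → Adj (ME V R o (zpowers z)) r t r y →
      x * y ∈ ZC QF r → y = x ∨ y = r * x)
    (ho2 : ∀ B : Subgroup G, B ≤ ME V R o (zpowers z) → (∀ m ∈ ME V R o (zpowers z), ∀ b ∈ B, m * b * m⁻¹ ∈ B) →
      (∀ b ∈ B, ∀ u ∈ UU (ME V R o (zpowers z)) r, b * b * u = u * (b * b)) →
      ∀ b ∈ B, ∀ u ∈ UU (ME V R o (zpowers z)) r, b * u = u * b)
    {c : G} (hc : c ∈ zc S ⊓ centralizer (P : Set G)) : c = 1 ∨ c = z := by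
  have hE := zpowers_le_cz hz
  have hE1 : zpowers z ≠ ⊥ := fun h => hz1 (zpowers_eq_bot.1 h)
  obtain ⟨M, hM⟩ : ∃ M, M = ME V R o (zpowers z) := ⟨_, rfl⟩
  set D := tsOf hj ht ht1 b hLE hr hr1 hz hz1 hα hpar ho2 with hD
  have eU : D.U = UU (ME V R o (zpowers z)) r := HOneTwo.Trans.gn_eq_UU _ _
  have hcS : ∀ s ∈ S, s * c = c * s := (mem_zc.1 hc.1).2.1
  have hUo : UU (ME V R o (zpowers z)) r ≤ ZN.o2 (ME V R o (zpowers z)) := by
    refine ZN.le_o2 ?_ (UU_pgroup b hr hr1 hE hE1)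
      (HOne.TvHSide.le_normalizer_of fun m hm u hu => M_norm_UU b hr hr1 hE hm hu)
    have hrM : r ∈ ME V R o (zpowers z) := X_le_ME b (V_le_X b (b.R_le o ((hr r).2 (Or.inr rfl))))
    show closure (Om (ME V R o (zpowers z)) r) ≤ _
    rw [closure_le]
    rintro _ ⟨m, hm, rfl⟩
    exact mul_mem (mul_mem hm hrM) (inv_mem hm)
  have hUS : UU (ME V R o (zpowers z)) r ≤ S := hUo.trans (o2_ME_le b hz hz1)
  have hcC : c ∈ D.C := by
    have hC := zpowers_le_cz hc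
    refine ⟨?_, ?_⟩
    · exact z_ZC b hLE hr hc hr
    · exact z_ZC b hLE hr hc ht
  have hcU : ∀ u ∈ D.U, c * u = u * c := by
    intro u hu
    rw [eU] at hu
    exact (hcS u (hUS hu)).symm
  refine HT.ThmZ.thmZ D ?_ ?_ hcC hcU ?_ ?_
  · -- `O₂(H₁ / C(N₁)) = 1`
    intro B hB hn hsq x hx u hu
    have hB' : B ≤ normalizer (R o : Set G) := by
      rw [normalizer_eq b hr]; exact hB
    have h1 : B ≤ centralizer (NF r (zpowers z) r : Set G) := by
      refine hred b hr hr1 hE B hB' (HOne.TvHSide.le_normalizer_of fun m hm x hx => hn m ?_ x hx) ?_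
      · rw [normalizer_eq b hr] at hm; exact hm
      · intro y hy
        refine ⟨1, ?_⟩
        rw [pow_one, pow_two, NF_gen, mem_centralizer_iff]
        exact fun u hu => (hsq y hy u hu).symm
    rw [NF_gen] at h1
    exact (mem_centralizer_iff.1 (h1 hx) u hu).symm
  · -- Baer-Suzuki
    intro u hu huQ
    by_contra hcon
    push Not at hcon
    apply huQ
    have hur : u ∈ centralizer ({r} : Set G) := mem_centralizer_singleton_iff.2 (D.U_r hu)
    have : Fact (Nat.Prime 2) := ⟨Nat.prime_two⟩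
    refine ⟨⟨u, hur⟩, Involutions.BaerSuzuki.mem_pCore_of_conj_pairs _ fun g => ?_, rfl⟩
    have huu := D.mul_self hu
    refine HOneTwo.Trans.isPGroup_pair (Subtype.ext huu) (Subtype.ext ?_) (Subtype.ext ?_)
    · show (g : G) * u * (g : G)⁻¹ * ((g : G) * u * (g : G)⁻¹) = 1
      calc (g : G) * u * (g : G)⁻¹ * ((g : G) * u * (g : G)⁻¹) = g * (u * u) * (g : G)⁻¹ := by group
        _ = 1 := by rw [huu]; group
    · exact hcon g (mem_centralizer_singleton_iff.1 g.2)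
  · -- `c ∈ Z(O₂(M))`
    rintro p ⟨m, hm, rfl⟩ x hx hxU
    have hmM : m ∈ ME V R o (zpowers z) := hm
    have h1 : m⁻¹ * x * m ∈ QF r := D.Q_inv hx
    have h2 : m⁻¹ * x * m ∈ ZN.o2 (ME V R o (zpowers z)) := by
      refine Q_inf_le b hz hz1 hr hr1 (mem_inf.2 ⟨h1, mem_centralizer_iff.2 fun u hu => ?_⟩)
      have h3 : m * u * m⁻¹ ∈ D.U := by
        rw [eU]; exact M_norm_UU b hr hr1 hE hmM hu
      have h4 := hxU _ h3
      calc u * (m⁻¹ * x * m) = m⁻¹ * ((m * u * m⁻¹) * x) * m := by group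
        _ = m⁻¹ * x * m * u := by rw [← h4]; group
    have h3 : x ∈ ZN.o2 (ME V R o (zpowers z)) := by
      have h4 := conj_mem_of_normalizer (ZN.le_normalizer_o2 _ hmM) h2
      have e : m * (m⁻¹ * x * m) * m⁻¹ = x := by group
      rwa [e] at h4
    exact (hcS x (o2_ME_le b hz hz1 h3)).symm
  · -- `⟨r^{C(f)}⟩` is abelian
    intro f hf hf1 x hx y hy
    have hfZ : f ∈ zc S ⊓ centralizer (P : Set G) := by
      rcases hf with rfl | rfl | rfl
      · exact hc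
      · exact hz
      · exact mul_mem hc hz
    have d := dt b hfZ hf1
    have hle : HOneTwo.Trans.gen f r ≤ UM V (centralizer ({f} : Set G)) := by
      unfold HOneTwo.Trans.gen
      rw [closure_le]
      rintro w ⟨m, hm, rfl⟩
      exact cj_le_cl (mem_centralizer_singleton_iff.2 hm) (conj_mem_cj (b.R_le o ((hr r).2 (Or.inr rfl))))
    exact d.U_comm (hle hx) (hle hy)

end Cfsg.Agent.Omega.HT.EndZ
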