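import Cfsg.Agent.Omega.HT.EntryTv
import Cfsg.Agent.Omega.HTwo.EntryTs
import Cfsg.Agent.Omega.HOne.TvMain
import Cfsg.Agent.Omega.HOne.JunE

/-!
# II.0h1, `q = 2`, over a 2-group `S` Sylow in `N(R o)`: the further input at the junction

Port of `HTwo/EntryTs` and of the abstract part of `HTwo/TSMain` to `HTT` (`LE V R i` a hypothesis).

* `ME_MZ`, `beta_of`, `M_z`, `M_r`, `z_ZC`;
* `o2` : `O₂(M/C(U)) = 1`, hypothesis: `S` has odd index in `M`;
* `jend` : `Tv.main` for `M = ME V R o E`; `hA`, `c_eq` : the BS-trick; `tsOf : Trans.TS G`.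
-/

set_option autoImplicit false
set_option linter.unusedSectionVars false

namespace Cfsg.Agent.Omega.HT.EntryTs

open Subgroup Cfsg Cfsg.Agent.ZN Cfsg.Agent.Omega.BTwo Cfsg.Agent.Omega.HT Cfsg.Agent.Omega.HT.EntryTv
open Cfsg.Agent.Omega.HOneTwo (cl cj_le_cl le_cl le_normalizer_cl cl_le eq_of_card_two normalizer_le_cen_of_card UM Dt)
open Cfsg.Agent.Omega.HTwo.Hat Cfsg.Agent.Omega.HTwo.ThmA Cfsg.Agent.Omega.MinPar
open Cfsg.Agent.Omega.HOne.TvDef
open Cfsg.Agent.Omega.HTwo.EntryTv (QF NF ME QF_conj NF_conj NF_base NF_gen cen_zpowers ME_z)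
open Cfsg.Agent.Omega.HTwo.AlphaP (MP)

universe u

section main

variable {G : Type u} [Group G] [Finite G] {ι : Type*} {S : Subgroup G} {P V : Subgroup G}
  {R : ι → Subgroup G} {o : ι} (b : HTT S P V R o) (hLE : ∀ i, LE V R i)

include b

/-- `ME V R o (C_Z(P)) = ⟨C(Z), X⟩` -/
theorem ME_MZ : ME V R o (zc S ⊓ centralizer (P : Set G)) = centralizer (zc S : Set G) ⊔ XX V R := by
  have h1 : normalizer (R o : Set G) = centralizer (R o : Set G) :=
    le_antisymm (normalizer_le_cen_of_card (b.card_R o)) (centralizer_le_normalizer _)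
  unfold ME
  rw [h1]
  congr 1
  conv_rhs => rw [b.zc_eq]
  apply le_antisymm
  · rintro x ⟨hx, hx'⟩
    have h2 : R o ⊔ (zc S ⊓ centralizer (P : Set G)) ≤ centralizer ({x} : Set G) := by
      refine sup_le ?_ ?_
      · intro y hy
        rw [mem_centralizer_singleton_iff]
        exact mem_centralizer_iff.1 hx y hy
      · intro y hy
        rw [mem_centralizer_singleton_iff]
        exact mem_centralizer_iff.1 hx' y hy
    rw [mem_centralizer_iff]
    intro y hy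
    have h3 := h2 hy
    rwa [mem_centralizer_singleton_iff] at h3
  · exact le_inf (centralizer_le (SetLike.coe_subset_coe.2 le_sup_left))
      (centralizer_le (SetLike.coe_subset_coe.2 le_sup_right))

variable {r : G} (hr : ∀ x, x ∈ R o ↔ x = 1 ∨ x = r) (hr1 : r ≠ 1) {E : Subgroup G}
  (hE : E ≤ zc S ⊓ centralizer (P : Set G)) (hE1 : E ≠ ⊥)

include hr hr1 in
/-- `beta` -/
theorem beta_of {E : Subgroup G} (hE : E ≤ zc S ⊓ centralizer (P : Set G))
    (h : ¬ UM V (ME V R o E) ≤ QQ (R o)) : ∃ u ∈ UU (ME V R o E) r, u ∉ QF r := by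
  by_contra hcon
  push Not at hcon
  apply h
  rw [← UU_eq b hr hr1 hE (X_le_ME b), ← QF_eq b hr]
  exact hcon

include hr hr1 hE hE1 in
/-- `U` is 2-reduced in `M` -/
theorem o2 (hodd : ¬ 2 ∣ S.relIndex (ME V R o E)) (B : Subgroup G) (hB : B ≤ ME V R o E) (hn : ∀ m ∈ ME V R o E, ∀ b ∈ B, m * b * m⁻¹ ∈ B)
    (h2 : ∀ b ∈ B, ∀ u ∈ UU (ME V R o E) r, b * b * u = u * (b * b)) :
    ∀ b ∈ B, ∀ u ∈ UU (ME V R o E) r, b * u = u * b := by
  have h1 : B ≤ centralizer (UU (ME V R o E) r : Set G) := by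
    refine HOne.TvHSide.red_of (S := S) (H := ME V R o E) (Z₀ := {r}) (S_le_ME b hE) b.S_p
      hodd ?_ ?_ ?_ ?_ B hB (HOne.TvHSide.le_normalizer_of hn) ?_
    · rintro x hx _ rfl
      have := b.S_R hx
      rwa [normalizer_eq b hr, mem_centralizer_singleton_iff] at this
    · exact HOne.TvHSide.le_normalizer_of fun m hm u hu => M_norm_UU b hr hr1 hE hm hu
    · rintro _ rfl
      exact subset_closure ⟨1, one_mem _, by group⟩
    · show closure (Om (ME V R o E) r) ≤ _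
      rw [closure_le]
      rintro _ ⟨m, hm, rfl⟩
      exact subset_closure ⟨m, hm, r, rfl, rfl⟩
    · intro x hx
      refine ⟨1, ?_⟩
      rw [mem_centralizer_iff, pow_one, pow_two]
      exact fun u hu => (h2 x hx u hu).symm
  exact fun b hb u hu => (mem_centralizer_iff.1 (h1 hb) u hu).symm

variable {j : ι} (hj : j ≠ o) {t : G} (ht : ∀ x, x ∈ R j ↔ x = 1 ∨ x = t) (ht1 : t ≠ 1)

include hr in
theorem QF_le_S : QF r ≤ S := by
  rw [QF_eq b hr]
  exact b.Q_le_S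

include hr hr1 hE hE1 hLE hj ht ht1 in
/-- the transvection statement for `M = ME V R o E` -/
theorem jend (hbeta : ∃ u ∈ UU (ME V R o E) r, u ∉ QF r)
    (hpar : ∀ x y, Adj (ME V R o E) r t r x → Adj (ME V R o E) r t r y → x * y ∈ ZC QF r → y = x ∨ y = r * x) :
    ∃ c, JConst (ME V R o E) r t QF (NF r E) c ∧ JEnd (ME V R o E) r QF (NF r E) c := by
  have h := tvH b hLE hr hr1 hE hE1 hj ht ht1 hbeta hpar
  exact HOne.TvMain.main h (tvS b hLE hr hr1 hE hE1 hj ht ht1) (QF_le_S b hr)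

include hr hr1 hE hE1 in
/-- the 2-local subgroups over `M` -/
theorem hA (f : G) (hf1 : f ≠ 1) (hff : f * f = 1) (hfM : ∀ m ∈ ME V R o E, m * f = f * m) :
    ∃ A : Subgroup G, IsPGroup 2 A ∧ UU (ME V R o E) r ≤ A ∧ centralizer ({f} : Set G) ≤ normalizer (A : Set G) := by
  have hff' : f ^ 2 = 1 := by rw [pow_two, hff]
  have hfS : ∀ s ∈ S, s * f = f * s := fun s hs => hfM s (S_le_ME b hE hs)
  have hrV : r ∈ V := b.R_le o ((hr r).2 (Or.inr rfl))
  have hfmem : f ∈ S := by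
    have h1 : zpowers f ≤ S := by
      refine le_S_of_norm b (MinSimple.Basic.isPGroup_zpowers hff') ?_ ?_
      · rw [zpowers_le, normalizer_eq b hr, mem_centralizer_singleton_iff]
        exact (hfS r (b.V_le_S hrV)).symm
      · rw [MinSimple.Basic.normalizer_zpowers_eq hff']
        intro s hs
        rw [mem_centralizer_singleton_iff]
        exact hfS s hs
    exact h1 (mem_zpowers f)
  have hfz : f ∈ zc S ⊓ centralizer (P : Set G) := by
    rw [b.cz_eq]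
    refine mem_inf.2 ⟨mem_zc.2 ⟨hfmem, hfS, hff'⟩, ?_⟩
    rw [mem_centralizer_iff]
    exact fun x hx => hfM x (X_le_ME b hx)
  have d := dt b hfz hf1
  refine ⟨UM V (centralizer ({f} : Set G)), ?_, ?_, le_normalizer_cl V _⟩
  · rintro ⟨x, hx⟩
    refine ⟨1, Subtype.ext ?_⟩
    show x ^ 2 ^ 1 = 1
    rw [pow_one, pow_two]
    exact d.U_sq hx
  · rw [UU_eq b hr hr1 hE (X_le_ME b)]
    refine cl_le (le_cl _ _) ?_
    refine le_trans ?_ (le_normalizer_cl V _)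
    intro m hm
    rw [mem_centralizer_singleton_iff]
    exact hfM m hm

include hr hr1 hE hE1 hLE hj ht ht1 in
/-- **the BS-trick** : `c` is the only involution of `E` -/
theorem c_eq (hbeta : ∃ u ∈ UU (ME V R o E) r, u ∉ QF r)
    (hpar : ∀ x y, Adj (ME V R o E) r t r x → Adj (ME V R o E) r t r y → x * y ∈ ZC QF r → y = x ∨ y = r * x) {c : G}
    (hC : JConst (ME V R o E) r t QF (NF r E) c) (hJ : JEnd (ME V R o E) r QF (NF r E) c) {z : G} (hz : z ∈ E)
    (hz1 : z ≠ 1) : c = z := by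
  have h := tvH b hLE hr hr1 hE hE1 hj ht ht1 hbeta hpar
  refine HOne.JunE.c_eq_z h rfl (NF_base hz) ?_ hz1 ?_ (hA b hr hr1 hE hE1) hC hJ
  · rw [← pow_two]; exact (mem_zc.1 (hE hz).1).2.2
  · exact fun m hm => (mem_centralizer_iff.1 (ME_le_cen b hE hm) z hz).symm

end main

section z

variable {G : Type u} [Group G] [Finite G] {ι : Type*} {S : Subgroup G} {P V : Subgroup G}
  {R : ι → Subgroup G} {o : ι} (b : HTT S P V R o) (hLE : ∀ i, LE V R i)
  {r z : G} (hr : ∀ x, x ∈ R o ↔ x = 1 ∨ x = r) (hr1 : r ≠ 1)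
  (hz : z ∈ zc S ⊓ centralizer (P : Set G)) (hz1 : z ≠ 1)

theorem zpowers_le_cz (hz : z ∈ zc S ⊓ centralizer (P : Set G)) :
    zpowers z ≤ zc S ⊓ centralizer (P : Set G) := by
  rwa [zpowers_le]

include b hr hr1 hz in
/-- `beta` for `E = ⟨z⟩` -/
theorem beta_z (hα : ¬ UM V (MP V R o z) ≤ QQ (R o)) : ∃ u ∈ UU (ME V R o (zpowers z)) r, u ∉ QF r := by
  refine beta_of b hr hr1 (zpowers_le_cz hz) ?_
  rw [ME_z]
  exact hα

include b hz in
/-- `M ≤ C(z)` -/
theorem M_z {m : G} (hm : m ∈ ME V R o (zpowers z)) : m * z = z * m := by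
  have h1 := ME_le_cen b (zpowers_le_cz hz) hm
  exact (mem_centralizer_iff.1 h1 z (mem_zpowers z)).symm

include b hr in
/-- `C(r) ∩ C(z) ≤ M` -/
theorem M_r {g : G} (hg : g * r = r * g) (hgz : g * z = z * g) : g ∈ ME V R o (zpowers z) := by
  refine mem_sup_left ⟨?_, ?_⟩
  · show g ∈ normalizer (R o : Set G)
    rw [normalizer_eq b hr, mem_centralizer_singleton_iff]
    exact hg
  · show g ∈ centralizer ((zpowers z : Subgroup G) : Set G)
    rw [cen_zpowers, mem_centralizer_singleton_iff]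
    exact hgz

include b hLE hr hz in
/-- `z ∈ C_G(Q r) ∩ C_G(Q t)` -/
theorem z_ZC {i : ι} {s : G} (hs : ∀ x, x ∈ R i ↔ x = 1 ∨ x = s) : z ∈ ZC QF s := by
  show z ∈ centralizer (QF s : Set G)
  rw [QF_eq b hs]
  exact E_cen_Q b hLE hr (zpowers_le_cz hz) i (mem_zpowers z)

variable {j : ι} (hj : j ≠ o) {t : G} (ht : ∀ x, x ∈ R j ↔ x = 1 ∨ x = t) (ht1 : t ≠ 1)

include b hLE hr hr1 hz hz1 hj ht ht1 in
/-- **TS(z)** with the constant `z` -/
theorem jend_z (hα : ¬ UM V (MP V R o z) ≤ QQ (R o))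
    (hpar : ∀ x y, Adj (ME V R o (zpowers z)) r t r x → Adj (ME V R o (zpowers z)) r t r y →
      x * y ∈ ZC QF r → y = x ∨ y = r * x) :
    JConst (ME V R o (zpowers z)) r t QF (NF r (zpowers z)) z ∧
      JEnd (ME V R o (zpowers z)) r QF (NF r (zpowers z)) z := by
  have hE := zpowers_le_cz hz
  have hE1 : zpowers z ≠ ⊥ := fun h => hz1 (zpowers_eq_bot.1 h)
  have hbeta := beta_z b hr hr1 hz hα
  obtain ⟨c, hC, hJ⟩ := jend b hLE hr hr1 hE hE1 hj ht ht1 hbeta hpar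
  have hc := c_eq b hLE hr hr1 hE hE1 hj ht ht1 hbeta hpar hC hJ (mem_zpowers z) hz1
  rw [hc] at hC hJ
  exact ⟨hC, hJ⟩

/-- **`TS G`** from `HTT`, `noPar` and `JEnd` with the constant `z`; `ho2` : `O₂(M/C_M(U)) = 1` -/
noncomputable def tsOf {j : ι} (hj : j ≠ o) {t : G} (ht : ∀ x, x ∈ R j ↔ x = 1 ∨ x = t) (ht1 : t ≠ 1)
    (b : HTT S P V R o) (hLE : ∀ i, LE V R i) (hr : ∀ x, x ∈ R o ↔ x = 1 ∨ x = r) (hr1 : r ≠ 1)
    (hz : z ∈ zc S ⊓ centralizer (P : Set G)) (hz1 : z ≠ 1) (hα : ¬ UM V (MP V R o z) ≤ QQ (R o))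
    (hpar : ∀ x y, Adj (ME V R o (zpowers z)) r t r x → Adj (ME V R o (zpowers z)) r t r y →
      x * y ∈ ZC QF r → y = x ∨ y = r * x)
    (ho2 : ∀ B : Subgroup G, B ≤ ME V R o (zpowers z) → (∀ m ∈ ME V R o (zpowers z), ∀ b ∈ B, m * b * m⁻¹ ∈ B) →
      (∀ b ∈ B, ∀ u ∈ UU (ME V R o (zpowers z)) r, b * b * u = u * (b * b)) →
      ∀ b ∈ B, ∀ u ∈ UU (ME V R o (zpowers z)) r, b * u = u * b) : HOneTwo.Trans.TS G :=
  HOneTwo.Trans.TS.ofTv (tvH b hLE hr hr1 (zpowers_le_cz hz) (fun h => hz1 (zpowers_eq_bot.1 h)) hj ht ht1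
      (beta_z b hr hr1 hz hα) hpar) (jend_z b hLE hr hr1 hz hz1 hj ht ht1 hα hpar).2 (NF_gen r z)
    (by rw [← pow_two]; exact (ZN.mem_zc.1 hz.1).2.2) hz1 ⟨z_ZC b hLE hr hz hr, z_ZC b hLE hr hz ht⟩
    (fun _ hm => M_z b hz hm) (fun _ hg hgz => M_r b hr hg hgz) ho2

end z

end Cfsg.Agent.Omega.HT.EntryTs
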