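import Cfsg.Agent.Omega.HOne.TvHSide

/-!
# II.0h1 over `T`: FILL-IN (a) of #18021 (helper272): `O₂(M / C_M(U)) = 1`, `U = ⟨p^M⟩`, without `T` Sylow in `M`

`T` is a Sylow 2-subgroup of `C_M(p)`, `|S : T| = 2`; `D` (`= D_T`) is centralised by elements of `M` which normalise
`V` and are transitive on `V#`; the elements of `Ω₁(Z(T))` that centralise `A` (`= X^(2)`) lie in `⟨p⟩ × D`.
-/

set_option autoImplicit false
set_option linter.unusedSectionVars false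

namespace Cfsg.Agent.Omega.HT.FillA

open Subgroup

variable {G : Type*} [Group G]

/-- a 2-subgroup of `M` lies in a Sylow 2-subgroup of `M` -/
theorem exists_syl [Finite G] {T M : Subgroup G} (hT : IsPGroup 2 T) (hTM : T ≤ M) :
    ∃ Q : Subgroup G, IsPGroup 2 Q ∧ T ≤ Q ∧ Q ≤ M ∧ ¬ 2 ∣ Q.relIndex M := by
  have : Fact (Nat.Prime 2) := ⟨Nat.prime_two⟩
  have h1 : IsPGroup 2 (T.subgroupOf M) := hT.comap_of_injective _ M.subtype_injective
  obtain ⟨P, hP⟩ := h1.exists_le_sylow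
  refine ⟨(P : Subgroup M).map M.subtype, P.isPGroup'.map _, ?_, map_subtype_le _, ?_⟩
  · intro t ht
    exact ⟨⟨t, hTM ht⟩, hP (mem_subgroupOf.2 ht), rfl⟩
  · have h2 : ((P : Subgroup M).map M.subtype).relIndex M = (P : Subgroup M).index := by
      unfold relIndex
      rw [subgroupOf, comap_map_eq_self_of_injective M.subtype_injective]
    rw [h2]
    exact P.not_dvd_index

/-- index at most 2 -/
theorem mul_mem_of_card [Finite G] {T Q : Subgroup G} (hTQ : T ≤ Q) (h : Nat.card Q ≤ 2 * Nat.card T) {x y : G}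
    (hx : x ∈ Q) (hy : y ∈ Q) (hxT : x ∉ T) (hyT : y ∉ T) : x * y ∈ T := by
  have h1 : Nat.card T * T.relIndex Q = Nat.card Q := by
    have h3 := (T.subgroupOf Q).card_mul_index
    rwa [Nat.card_congr (Subgroup.subgroupOfEquivOfLe hTQ).toEquiv] at h3
  have hpos : 0 < Nat.card T := Nat.card_pos
  have h2 : T.relIndex Q ≤ 2 := by
    by_contra h3
    have h4 : Nat.card T * 3 ≤ Nat.card T * T.relIndex Q := Nat.mul_le_mul_left _ (by omega)
    omega
  have h3 : T.relIndex Q = 1 ∨ T.relIndex Q = 2 := by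
    have h4 : T.relIndex Q ≠ 0 := by
      intro h4
      rw [h4, mul_zero] at h1
      exact (Nat.card_pos (α := Q)).ne h1
    omega
  rcases h3 with h3 | h3
  · exact absurd (relIndex_eq_one.1 h3 hx) hxT
  · have h4 : (T.subgroupOf Q).index = 2 := h3
    have h5 := (mul_mem_iff_of_index_two h4 (a := (⟨x, hx⟩ : Q)) (b := ⟨y, hy⟩))
    exact h5.2 ⟨fun h => absurd h hxT, fun h => absurd h hyT⟩

/-- **FILL-IN (a)** -/
theorem fillA [Finite G] {M T U A V D : Subgroup G} {p : G}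
    (hTp : IsPGroup 2 T) (hTM : T ≤ M) (hTcp : ∀ t ∈ T, t * p = p * t)
    (hodd : ¬ 2 ∣ T.relIndex (M ⊓ centralizer ({p} : Set G)))
    (hcard : ∀ Q : Subgroup G, IsPGroup 2 Q → Nat.card Q ≤ 2 * Nat.card T)
    (hUM : ∀ m ∈ M, ∀ u ∈ U, m * u * m⁻¹ ∈ U) (hUsq : ∀ u ∈ U, u * u = 1) (hUT : U ≤ T)
    (hUgen : U ≤ closure {x | ∃ m ∈ M, x = m * p * m⁻¹})
    (hV : V ≤ U) (hpV : p ∈ V) (hp1 : p ≠ 1) {a : G} (haV : a ∈ V) (ha1 : a ≠ 1) (hap : a ≠ p)
    (hTV : ∀ t ∈ T, ∀ v ∈ V, t * v * t⁻¹ ∈ V)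
    (hX : ∀ v ∈ V, v ≠ 1 → ∃ g ∈ M, (∀ d ∈ D, g * d = d * g) ∧ (∀ w ∈ V, g * w * g⁻¹ ∈ V) ∧ g * p * g⁻¹ = v)
    (hVD : ∀ d ∈ D, d ∈ V → d = 1)
    (hA : ∀ y ∈ A, y ∈ M ∧ y * p = p * y)
    (hz : ∀ c ∈ T, c * c = 1 → (∀ t ∈ T, t * c = c * t) → (∀ y ∈ A, y * c = c * y) →
      ∃ d ∈ D, c = d ∨ c = p * d)
    (B : Subgroup G) (hB : B ≤ M) (hn : ∀ m ∈ M, ∀ b ∈ B, m * b * m⁻¹ ∈ B)
    (h2 : ∀ b ∈ B, ∀ u ∈ U, b * b * u = u * (b * b)) : ∀ b ∈ B, ∀ u ∈ U, b * u = u * b := by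
  have hpU : p ∈ U := hV hpV
  have Uc : ∀ u ∈ U, ∀ v ∈ U, u * v = v * u := by
    intro u hu v hv
    have e1 := hUsq _ (U.mul_mem hu hv)
    calc u * v = u * (u * v * (u * v)) * v := by rw [e1, mul_one]
      _ = (u * u) * (v * u) * (v * v) := by group
      _ = v * u := by rw [hUsq u hu, hUsq v hv, one_mul, mul_one]
  have cc : ∀ {x y : G}, x * y = y * x → x * y * x⁻¹ = y := fun h => by rw [h, mul_inv_cancel_right]
  have cc' : ∀ {x y : G}, x * y * x⁻¹ = y → x * y = y * x := fun h => mul_inv_eq_iff_eq_mul.1 h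
  -- enough: `B` centralises `p`
  suffices hmain : ∀ b ∈ B, b * p = p * b by
    intro b hb u hu
    have h1 : closure {x | ∃ m ∈ M, x = m * p * m⁻¹} ≤ centralizer ({b} : Set G) := by
      rw [closure_le]
      rintro _ ⟨m, hm, rfl⟩
      rw [SetLike.mem_coe, mem_centralizer_singleton_iff]
      have h3 := hmain _ (hn m⁻¹ (inv_mem hm) b hb)
      calc m * p * m⁻¹ * b = m * (p * (m⁻¹ * b * m⁻¹⁻¹)) * m⁻¹ := by group
        _ = b * (m * p * m⁻¹) := by rw [← h3]; group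
    exact (mem_centralizer_singleton_iff.1 (h1 (hUgen hu))).symm
  by_contra hcon
  push Not at hcon
  obtain ⟨w, hw, hwp⟩ := hcon
  -- `K = C_M(U)`
  set K := M ⊓ centralizer (U : Set G) with hK
  have hKU : ∀ k ∈ K, ∀ u ∈ U, k * u = u * k := fun k hk u hu => (mem_centralizer_iff.1 hk.2 u hu).symm
  have hKn : M ≤ normalizer (K : Set G) := by
    refine HOne.TvHSide.le_normalizer_of fun m hm k hk => ?_
    refine mem_inf.2 ⟨mul_mem (mul_mem hm hk.1) (inv_mem hm), mem_centralizer_iff.2 fun u hu => ?_⟩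
    have h1 := hKU k hk _ (hUM m⁻¹ (inv_mem hm) u hu)
    calc u * (m * k * m⁻¹) = m * ((m⁻¹ * u * m⁻¹⁻¹) * k) * m⁻¹ := by group
      _ = m * k * m⁻¹ * u := by rw [← h1]; group
  have hsq : ∀ x ∈ B, ∃ k : ℕ, x ^ 2 ^ k ∈ K := by
    intro x hx
    refine ⟨1, mem_inf.2 ⟨M.pow_mem (hB hx) _, mem_centralizer_iff.2 fun u hu => ?_⟩⟩
    rw [pow_one, pow_two]
    exact (h2 x hx u hu).symm
  -- elements of `B` that fix `p` are in `T K`
  have hTdec : ∀ x ∈ B, x * p = p * x → ∃ s ∈ T, ∃ k ∈ K, x = s * k := by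
    intro x hx hxp
    have hTC : T ≤ M ⊓ centralizer ({p} : Set G) := fun t ht =>
      mem_inf.2 ⟨hTM ht, mem_centralizer_singleton_iff.2 (hTcp t ht)⟩
    refine HOne.TvHSide.exists_mul (S := T) (H := M ⊓ centralizer ({p} : Set G)) (C := K)
      (K := B ⊓ centralizer ({p} : Set G)) hTp hodd (inf_le_left.trans hKn) (inf_le_inf_right _ hB) ?_
      (fun y hy => hsq y hy.1) (mem_inf.2 ⟨hx, mem_centralizer_singleton_iff.2 hxp⟩)
    refine HOne.TvHSide.le_normalizer_of fun t ht y hy => ?_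
    refine mem_inf.2 ⟨hn t (hTM ht) y hy.1, mem_centralizer_singleton_iff.2 ?_⟩
    have h1 := mem_centralizer_singleton_iff.1 hy.2
    have h3 := hTcp t ht
    have h4 : t⁻¹ * p = p * t⁻¹ := by rw [inv_mul_eq_iff_eq_mul, ← mul_assoc, h3, mul_inv_cancel_right]
    calc t * y * t⁻¹ * p = t * y * (t⁻¹ * p) := by group
      _ = t * (y * p) * t⁻¹ := by rw [h4]; group
      _ = (t * p) * y * t⁻¹ := by rw [h1]; group
      _ = p * (t * y * t⁻¹) := by rw [h3]; group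
  -- a Sylow group of `M`
  obtain ⟨Q, hQ2, hTQ, hQM, hQo⟩ := exists_syl hTp hTM
  have hQdec : ∀ x ∈ B, ∃ s ∈ Q, ∃ k ∈ K, x = s * k := by
    intro x hx
    exact HOne.TvHSide.exists_mul (S := Q) (H := M) (C := K) (K := B) hQ2 hQo hKn hB
      (HOne.TvHSide.le_normalizer_of fun t ht y hy => hn t (hQM ht) y hy) hsq hx
  have hconj : ∀ s k, k ∈ K → ∀ u ∈ U, (s * k) * u * (s * k)⁻¹ = s * u * s⁻¹ := by
    intro s k hk u hu
    calc (s * k) * u * (s * k)⁻¹ = s * (k * u * k⁻¹) * s⁻¹ := by group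
      _ = s * u * s⁻¹ := by rw [cc (hKU k hk u hu)]
  -- `b p b⁻¹` is constant for `b ∈ B` that move `p`
  have hconst : ∀ x ∈ B, x * p ≠ p * x → ∀ y ∈ B, y * p ≠ p * y → x * p * x⁻¹ = y * p * y⁻¹ := by
    intro x hx hxp y hy hyp
    obtain ⟨s, hs, k, hk, rfl⟩ := hQdec x hx
    obtain ⟨t, ht, l, hl, rfl⟩ := hQdec y hy
    rw [hconj s k hk p hpU, hconj t l hl p hpU]
    have hsT : s ∉ T := fun h => hxp (cc' (by rw [hconj s k hk p hpU]; exact cc (hTcp s h)))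
    have htT : t⁻¹ ∉ T := fun h => hyp (cc' (by
      rw [hconj t l hl p hpU]
      have h1 := inv_mem h
      rw [inv_inv] at h1
      exact cc (hTcp t h1)))
    have h1 := hTcp _ (mul_mem_of_card hTQ (hcard Q hQ2) (inv_mem ht) hs htT hsT)
    calc s * p * s⁻¹ = t * ((t⁻¹ * s) * p) * s⁻¹ := by group
      _ = t * p * t⁻¹ := by rw [h1]; group
  -- `c`
  obtain ⟨c, hc⟩ : ∃ c, c = p * (w * p * w⁻¹) := ⟨_, rfl⟩
  have hpp := hUsq p hpU
  have hwpU : w * p * w⁻¹ ∈ U := hUM w (hB hw) p hpU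
  have hcU : c ∈ U := by rw [hc]; exact mul_mem hpU hwpU
  have hpc : ∀ x ∈ B, x * p ≠ p * x → x * p * x⁻¹ = p * c := by
    intro x hx hxp
    rw [hconst x hx hxp w hw hwp, hc, ← mul_assoc, hpp, one_mul]
  have hcfix : ∀ g ∈ M, g * p = p * g → g * c = c * g := by
    intro g hg hgp
    have h1 := hn g hg w hw
    have h3 : (g * w * g⁻¹) * p ≠ p * (g * w * g⁻¹) := by
      intro h
      apply hwp
      have h4 : g⁻¹ * p = p * g⁻¹ := by rw [inv_mul_eq_iff_eq_mul, ← mul_assoc, hgp, mul_inv_cancel_right]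
      calc w * p = g⁻¹ * ((g * w * g⁻¹) * (g * p)) := by group
        _ = g⁻¹ * ((g * w * g⁻¹) * p) * g := by rw [hgp]; group
        _ = (g⁻¹ * p) * g * w := by rw [h]; group
        _ = p * w := by rw [h4]; group
    have h4 := hconst _ h1 h3 w hw hwp
    apply cc'
    rw [hc]
    have h5 : g⁻¹ * p * g = p := by
      have h6 : g⁻¹ * p = p * g⁻¹ := by rw [inv_mul_eq_iff_eq_mul, ← mul_assoc, hgp, mul_inv_cancel_right]
      rw [h6, inv_mul_cancel_right]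
    have h7 : g * w * p * w⁻¹ * g⁻¹ = g * w * g⁻¹ * p * (g * w * g⁻¹)⁻¹ := by
      calc g * w * p * w⁻¹ * g⁻¹ = g * w * (g⁻¹ * p * g) * w⁻¹ * g⁻¹ := by rw [h5]
        _ = g * w * g⁻¹ * p * (g * w * g⁻¹)⁻¹ := by group
    calc g * (p * (w * p * w⁻¹)) * g⁻¹ = (g * p * g⁻¹) * (g * w * p * w⁻¹ * g⁻¹) := by group
      _ = p * (w * p * w⁻¹) := by rw [cc hgp, h7, h4]
  obtain ⟨d, hd, hcd⟩ := hz c (hUT hcU) (hUsq c hcU) (fun t ht => hcfix t (hTM ht) (hTcp t ht))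
    (fun y hy => hcfix y (hA y hy).1 (hA y hy).2)
  have hdU : d ∈ U := by
    rcases hcd with h | h
    · rwa [← h]
    · have h1 : d = p * c := by rw [h, ← mul_assoc, hpp, one_mul]
      rw [h1]; exact mul_mem hpU hcU
  have hdd := hUsq d hdU
  have hd1 : d ≠ 1 := by
    rintro rfl
    have h1 := hpc w hw hwp
    rcases hcd with h | h
    · rw [h, mul_one] at h1
      exact hwp (cc' h1)
    · rw [h, mul_one, hpp] at h1
      have h3 : p = 1 := by
        calc p = w⁻¹ * (w * p * w⁻¹) * w := by group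
          _ = 1 := by rw [h1]; group
      exact hp1 h3
  -- the action of `x ∈ B` on `v ∈ V`
  have hact : ∀ v ∈ V, v ≠ 1 → ∀ x ∈ B, x * v ≠ v * x → (c = d → x * v * x⁻¹ = v * d) ∧
      (c = p * d → x * v * x⁻¹ = d) := by
    intro v hv hv1 x hx hxv
    obtain ⟨g, hg, hgd, hgV, rfl⟩ := hX v hv hv1
    have hx' : g⁻¹ * x * g⁻¹⁻¹ ∈ B := hn g⁻¹ (inv_mem hg) x hx
    have h1 : (g⁻¹ * x * g⁻¹⁻¹) * p ≠ p * (g⁻¹ * x * g⁻¹⁻¹) := by
      intro h
      apply hxv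
      calc x * (g * p * g⁻¹) = g * ((g⁻¹ * x * g⁻¹⁻¹) * p) * g⁻¹ := by group
        _ = g * p * g⁻¹ * x := by rw [h]; group
    have h3 := hpc _ hx' h1
    have h4 : x * (g * p * g⁻¹) * x⁻¹ = g * (p * c) * g⁻¹ := by rw [← h3]; group
    have h5 : g * d * g⁻¹ = d := cc (hgd d hd)
    refine ⟨fun h => ?_, fun h => ?_⟩
    · rw [h4, h]
      calc g * (p * d) * g⁻¹ = g * p * g⁻¹ * (g * d * g⁻¹) := by group
        _ = _ := by rw [h5]
    · rw [h4, h, ← mul_assoc p, hpp, one_mul, h5]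
  -- `C_B(p)` centralises `V`
  have hfix : ∀ x ∈ B, x * p = p * x → ∀ v ∈ V, x * v = v * x := by
    intro x hx hxp v hv
    by_cases hv1 : v = 1
    · rw [hv1, mul_one, one_mul]
    by_contra hne
    obtain ⟨s, hs, k, hk, rfl⟩ := hTdec x hx hxp
    have h1 : (s * k) * v * (s * k)⁻¹ ∈ V := by
      rw [hconj s k hk v (hV hv)]
      exact hTV s hs v hv
    obtain ⟨e1, e2⟩ := hact v hv hv1 _ hx hne
    rcases hcd with h | h
    · rw [e1 h] at h1
      have h3 := mul_mem (inv_mem hv) h1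
      rw [inv_mul_cancel_left] at h3
      exact hd1 (hVD d hd h3)
    · rw [e2 h] at h1
      exact hd1 (hVD d hd h1)
  -- `w` moves all `v ∈ V#`
  have hmov : ∀ v ∈ V, v ≠ 1 → w * v ≠ v * w := by
    intro v hv hv1 h
    obtain ⟨g, hg, hgd, hgV, rfl⟩ := hX v hv hv1
    have hx' : g⁻¹ * w * g⁻¹⁻¹ ∈ B := hn g⁻¹ (inv_mem hg) w hw
    have h1 : (g⁻¹ * w * g⁻¹⁻¹) * p = p * (g⁻¹ * w * g⁻¹⁻¹) := by
      calc (g⁻¹ * w * g⁻¹⁻¹) * p = g⁻¹ * (w * (g * p * g⁻¹)) * g := by group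
        _ = p * (g⁻¹ * w * g⁻¹⁻¹) := by rw [h]; group
    -- `g⁻¹ p g ∈ V`
    have hfin : g⁻¹ * p * g⁻¹⁻¹ ∈ V := by
      -- a power of `g`
      have hpow : ∀ n : ℕ, ∀ v ∈ V, g ^ n * v * (g ^ n)⁻¹ ∈ V := by
        intro n
        induction n with
        | zero => intro v hv; simpa using hv
        | succ n ih =>
          intro v hv
          have h5 := hgV _ (ih v hv)
          have e : g * (g ^ n * v * (g ^ n)⁻¹) * g⁻¹ = g ^ (n + 1) * v * (g ^ (n + 1))⁻¹ := by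
            rw [pow_succ']; group
          rwa [e] at h5
      have h5 : g⁻¹ = g ^ (orderOf g - 1) := by
        rw [inv_eq_iff_mul_eq_one, ← pow_succ', Nat.sub_add_cancel (orderOf_pos g), pow_orderOf_eq_one]
      rw [h5]
      exact hpow _ p hpV
    have h3 := hfix _ hx' h1 _ hfin
    apply hwp
    calc w * p = g * ((g⁻¹ * w * g⁻¹⁻¹) * (g⁻¹ * p * g⁻¹⁻¹)) * g⁻¹ := by group
      _ = p * w := by rw [h3]; group
  -- the end
  have haU := hV haV
  have hpa : p * a ≠ 1 := by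
    intro h
    apply hap
    calc a = p * (p * a) := by rw [← mul_assoc, hpp, one_mul]
      _ = p := by rw [h, mul_one]
  obtain ⟨p1, p2⟩ := hact p hpV hp1 w hw hwp
  obtain ⟨a1, a2⟩ := hact a haV ha1 w hw (hmov a haV ha1)
  obtain ⟨b1, b2⟩ := hact (p * a) (mul_mem hpV haV) hpa w hw (hmov _ (mul_mem hpV haV) hpa)
  have e : w * (p * a) * w⁻¹ = (w * p * w⁻¹) * (w * a * w⁻¹) := by group
  rcases hcd with h | h
  · rw [b1 h, p1 h, a1 h] at e
    have h3 : p * d * (a * d) = p * a := by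
      calc p * d * (a * d) = p * (d * a) * d := by group
        _ = p * a * (d * d) := by rw [Uc d hdU a haU]; group
        _ = p * a := by rw [hdd, mul_one]
    rw [h3] at e
    exact hd1 (mul_eq_left.1 e)
  · rw [b2 h, p2 h, a2 h, hdd] at e
    exact hd1 e

end Cfsg.Agent.Omega.HT.FillA
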