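import Cfsg.Agent.Omega.HT.TComp
import Cfsg.Agent.Omega.HT.Basic
import Cfsg.Agent.Lib.SylowNormalInf
import Cfsg.Agent.ZN.Facts

/-!
# II.0h1, `q = 2`, over `T`: the module `Y` of ALPHA in the product case (fill-in `(Z12)` of #18272)

`C = C_G(y)`, `T ≤ C` a 2-group of index at most 2 in every 2-group containing it (not necessarily Sylow in `C`),
`r, v ∈ Z(T)`, `O₂(C) ≤ T`; `T` is Sylow in `C_G(v)`; `E ≤ C` normalises an elementary abelian group `A ∋ v` and is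
transitive on `A#`; the involutions of `Z(T)` are `g` or `v g`, `g` centralised by `E`. Then
`Y = ⟨r^C⟩ ⟨v^C⟩ ≤ Z(O₂(C))` and `O₂(C / C_C(Y)) = 1`: `exists_Y`.
-/

set_option autoImplicit false

namespace Cfsg.Agent.Omega.HT.FillY

open Subgroup Cfsg Cfsg.Agent Cfsg.Agent.ZN Cfsg.Agent.MinSimple.VModule
open Cfsg.Agent.MinSimple.Basic Cfsg.Agent.Omega.BTwo Cfsg.Agent.Omega.HT.TComp
open Cfsg.Agent.Omega.HOneTwo (cl cj_le_cl le_cl le_normalizer_cl cl_le)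

variable {G : Type*} [Group G]

theorem le_sup_of_pow [Finite G] {X S D K : Subgroup G} (hS : IsPGroup 2 S)
    (hSs : ¬ 2 ∣ S.relIndex X) (hDX : D ≤ X) (hD : X ≤ normalizer (D : Set G))
    (hK : X ≤ normalizer (K : Set G)) (h : ∀ x ∈ D, ∃ k : ℕ, x ^ 2 ^ k ∈ K) : D ≤ K ⊔ (S ⊓ D) := by
  have hf : Fact (Nat.Prime 2) := ⟨Nat.prime_two⟩
  have h1 : IsPGroup 2 (S.subgroupOf X) := hS.comap_of_injective _ X.subtype_injective
  have hn : (D.subgroupOf X).Normal := normal_subgroupOf_of_le_normalizer hD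
  have hn2 : ((X ⊓ K).subgroupOf X).Normal := by
    refine normal_subgroupOf_of_le_normalizer ?_
    intro x hx
    rw [← cj_eq_self_iff, cj_inf, cj_eq_self_iff.2 (hK hx), cj_eq_self_iff.2 (le_normalizer hx)]
  have h2 := Lib.SylowNormalInf.le_sup_inf (h1.toSylow hSs : Sylow 2 X)
    (D.subgroupOf X) ((X ⊓ K).subgroupOf X) (fun x hx => by
      obtain ⟨k, hk⟩ := h x hx
      exact ⟨k, (x ^ 2 ^ k).2, hk⟩)
  have h3 := Subgroup.map_mono (f := X.subtype) h2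
  rw [subgroupOf_map_subtype, inf_eq_left.mpr hDX, Subgroup.map_sup, subgroupOf_map_subtype] at h3
  refine h3.trans (sup_le_sup (inf_le_left.trans inf_le_right) ?_)
  rintro _ ⟨x, hx, rfl⟩
  exact hx

/-- elements of `K ⊔ H`, `H` normalising `K` -/
theorem exists_mul {K H : Subgroup G} (h : H ≤ normalizer (K : Set G)) {x : G} (hx : x ∈ K ⊔ H) :
    ∃ k ∈ K, ∃ s ∈ H, x = k * s := by
  let W : Subgroup G :=
    { carrier := {x | ∃ k ∈ K, ∃ s ∈ H, x = k * s}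
      one_mem' := ⟨1, K.one_mem, 1, H.one_mem, (one_mul 1).symm⟩
      mul_mem' := by
        rintro _ _ ⟨k, hk, s, hs, rfl⟩ ⟨k', hk', s', hs', rfl⟩
        refine ⟨k * (s * k' * s⁻¹), K.mul_mem hk (conj_mem_of_normalizer (h hs) hk'), s * s',
          H.mul_mem hs hs', ?_⟩
        group
      inv_mem' := by
        rintro _ ⟨k, hk, s, hs, rfl⟩
        refine ⟨s⁻¹ * k⁻¹ * s⁻¹⁻¹, conj_mem_of_normalizer (h (H.inv_mem hs)) (K.inv_mem hk), s⁻¹,
          H.inv_mem hs, ?_⟩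
        group }
  have h1 : K ⊔ H ≤ W := sup_le (fun k hk => ⟨k, hk, 1, H.one_mem, (mul_one k).symm⟩)
    (fun s hs => ⟨1, K.one_mem, s, hs, (one_mul s).symm⟩)
  exact h1 hx

theorem inv_mul_mem [Finite G] {T L : Subgroup G} (h : T.relIndex L ≤ 2) {a b : G} (ha : a ∈ L) (hb : b ∈ L)
    (ha' : a ∉ T) (hb' : b ∉ T) : a⁻¹ * b ∈ T := by
  have h0 : T.relIndex L ≠ 0 := Nat.card_pos.ne'
  have h1 : T.relIndex L = 1 ∨ T.relIndex L = 2 := by omega
  rcases h1 with h1 | h1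
  · exact absurd (relIndex_eq_one.1 h1 ha) ha'
  · have h2 : (T.subgroupOf L).index = 2 := h1
    have h3 := (Subgroup.mul_mem_iff_of_index_two h2 (a := (⟨a, ha⟩ : L)⁻¹) (b := ⟨b, hb⟩)).2 ?_
    · exact h3
    · rw [inv_mem_iff]
      exact ⟨fun h => absurd h ha', fun h => absurd h hb'⟩

/-- the core: every normal `B ≤ C` whose squares centralise `Y` centralises `r` and `v` -/
theorem core [Finite G] {C T A E Y B : Subgroup G} {r v : G} (hT : IsPGroup 2 T) (hTC : T ≤ C)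
    (h2 : ∀ L : Subgroup G, IsPGroup 2 L → T ≤ L → T.relIndex L ≤ 2)
    (hTr : ∀ t ∈ T, t * r = r * t) (hTv : ∀ t ∈ T, t * v = v * t)
    (hodd : ¬ 2 ∣ T.relIndex (centralizer ({v} : Set G)))
    (hvA : v ∈ A) (hA2 : ∃ a ∈ A, a ≠ 1 ∧ a ≠ v) (hTA : ∀ t ∈ T, ∀ a ∈ A, t * a * t⁻¹ ∈ A)
    (hEC : E ≤ C) (hEA : ∀ e ∈ E, ∀ a ∈ A, e * a * e⁻¹ ∈ A)
    (hE : ∀ a ∈ A, a ≠ 1 → ∃ e ∈ E, e * v * e⁻¹ = a)
    (hz : ∀ f ∈ T, (∀ t ∈ T, t * f = f * t) → f * f = 1 → ∃ g, (∀ e ∈ E, e * g = g * e) ∧ (f = g ∨ f = v * g))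
    (hYT : Y ≤ T) (hY2 : ∀ x ∈ Y, x * x = 1) (hCY : C ≤ normalizer (Y : Set G))
    (hrY : r ∈ Y) (hvY : v ∈ Y)
    (hBC : B ≤ C) (hCB : C ≤ normalizer (B : Set G)) (hB : ∀ b ∈ B, ∀ n ∈ Y, b * b * n = n * (b * b)) :
    ∀ b ∈ B, b * r = r * b ∧ b * v = v * b := by
  have hnor : ∀ c ∈ C, ∀ n ∈ Y, c * n * c⁻¹ ∈ Y := fun c hc n hn => conj_mem_of_normalizer (hCY hc) hn
  have hnB : ∀ c ∈ C, ∀ n ∈ B, c * n * c⁻¹ ∈ B := fun c hc n hn => conj_mem_of_normalizer (hCB hc) hn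
  have comm : ∀ x ∈ Y, ∀ y ∈ Y, x * y = y * x := by
    intro x hx y hy
    have h1 := hY2 _ (Y.mul_mem hx hy)
    rw [eq_inv_of_mul_eq_one_left h1, mul_inv_rev, inv_eq_of_mul_eq_one_left (hY2 x hx),
      inv_eq_of_mul_eq_one_left (hY2 y hy)]
  have hAY : A ≤ Y := by
    intro a ha
    by_cases h1 : a = 1
    · rw [h1]; exact Y.one_mem
    · obtain ⟨e, he, rfl⟩ := hE a ha h1
      exact hnor e (hEC he) v hvY
  have hK : C ≤ normalizer (centralizer (Y : Set G) : Set G) :=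
    hCY.trans (normalizer_le_normalizer_centralizer _)
  have hBK : ∀ x ∈ B, ∃ k : ℕ, x ^ 2 ^ k ∈ centralizer (Y : Set G) := by
    intro x hx
    refine ⟨1, ?_⟩
    rw [pow_one, pow_two, mem_centralizer_iff]
    exact fun n hn => (hB x hx n hn).symm
  -- (I)
  obtain ⟨L, hTL, hLC, hLp, hLo⟩ := exists_syl hT hTC
  have hTL2 := h2 L hLp hTL
  let F : G → Prop := fun b => ∃ k ∈ centralizer (Y : Set G), ∃ t ∈ T, b = k * t
  have hF1 : ∀ x ∈ B, ∀ y ∈ B, ¬ F x → ¬ F y → F (x⁻¹ * y) := by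
    have h3 := le_sup_of_pow hLp hLo hBC hCB hK hBK
    have h4 : ∀ x ∈ B, ∃ k ∈ centralizer (Y : Set G), ∃ s ∈ L ⊓ B, x = k * s := fun x hx =>
      exists_mul ((inf_le_left.trans hLC).trans hK) (h3 hx)
    intro x hx y hy hFx hFy
    obtain ⟨k, hk, s, hs, rfl⟩ := h4 x hx
    obtain ⟨k', hk', s', hs', rfl⟩ := h4 y hy
    have h5 : s⁻¹ * s' ∈ T := inv_mul_mem hTL2 hs.1 hs'.1 (fun h => hFx ⟨k, hk, s, h, rfl⟩)
      (fun h => hFy ⟨k', hk', s', h, rfl⟩)
    refine ⟨s⁻¹ * (k⁻¹ * k') * s⁻¹⁻¹, conj_mem_of_normalizer (hK (hLC (L.inv_mem hs.1)))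
      (mul_mem (inv_mem hk) hk'), s⁻¹ * s', h5, by group⟩
  have hF2 : ∀ x, F x → x * v = v * x := by
    rintro _ ⟨k, hk, t, ht, rfl⟩
    have h3 := mem_centralizer_iff.1 hk v hvY
    rw [mul_assoc, hTv t ht, ← mul_assoc, ← h3, mul_assoc]
  -- (II)
  have hBv : ∀ b ∈ B, b * v = v * b := by
    by_contra hcon
    push Not at hcon
    obtain ⟨b, hb, hbv⟩ := hcon
    have hFb : ¬ F b := fun h => hbv (hF2 b h)
    obtain ⟨w, hw⟩ : ∃ w, w = b * v * b⁻¹ := ⟨_, rfl⟩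
    have hwv : w ≠ v := by
      intro h
      apply hbv
      rw [hw] at h
      exact mul_inv_eq_iff_eq_mul.1 h
    have hwY : w ∈ Y := by rw [hw]; exact hnor b (hBC hb) v hvY
    -- elements of `B` move `v` to `w` or fix `v`
    have hmove : ∀ x ∈ B, ¬ F x → x * v * x⁻¹ = w := by
      intro x hx hFx
      have h3 := hF2 _ (hF1 b hb x hx hFb hFx)
      have h4 : x = b * (b⁻¹ * x) := by group
      rw [h4, hw]
      calc b * (b⁻¹ * x) * v * (b * (b⁻¹ * x))⁻¹ = b * ((b⁻¹ * x) * v) * (b⁻¹ * x)⁻¹ * b⁻¹ := by group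
        _ = b * v * b⁻¹ := by rw [h3]; group
    have hfix : ∀ x ∈ B, x * v * x⁻¹ = v ∨ x * v * x⁻¹ = w := by
      intro x hx
      by_cases h : F x
      · left; rw [hF2 x h]; group
      · right; exact hmove x hx h
    obtain ⟨c, hc⟩ : ∃ c, c = v * w := ⟨_, rfl⟩
    have hcY : c ∈ Y := by rw [hc]; exact Y.mul_mem hvY hwY
    have hc1 : c ≠ 1 := by
      intro h
      apply hwv
      rw [hc] at h
      have h3 := eq_inv_of_mul_eq_one_right h
      rw [h3, inv_eq_of_mul_eq_one_left (hY2 v hvY)]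
    have hcT : ∀ t ∈ T, t * c = c * t := by
      intro t ht
      have h3 : t * w * t⁻¹ = w := by
        have h4 : t * w * t⁻¹ = (t * b * t⁻¹) * v * (t * b * t⁻¹)⁻¹ := by
          have h5 : t⁻¹ * v * t = v := by
            rw [mul_assoc, ← hTv t ht]; group
          rw [hw]
          calc t * (b * v * b⁻¹) * t⁻¹ = t * b * v * b⁻¹ * t⁻¹ := by group
            _ = t * b * (t⁻¹ * v * t) * b⁻¹ * t⁻¹ := by rw [h5]
            _ = _ := by group
        rcases hfix _ (hnB t (hTC ht) b hb) with h5 | h5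
        · exfalso
          rw [h5] at h4
          apply hwv
          have h6 : w = t⁻¹ * (t * w * t⁻¹) * t := by group
          rw [h6, h4, mul_assoc, ← hTv t ht]; group
        · rw [h4, h5]
      rw [hc, ← mul_assoc, hTv t ht, mul_assoc, mul_inv_eq_iff_eq_mul.1 h3]; group
    obtain ⟨g, hgE, hg⟩ := hz c (hYT hcY) hcT (hY2 c hcY)
    -- the pattern on `A`
    have hpat : ∀ x ∈ B, ∀ e ∈ E, x * (e * v * e⁻¹) * x⁻¹ = e * v * e⁻¹ ∨
        x * (e * v * e⁻¹) * x⁻¹ = e * w * e⁻¹ := by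
      intro x hx e he
      have h3 : x * (e * v * e⁻¹) * x⁻¹ = e * ((e⁻¹ * x * e⁻¹⁻¹) * v * (e⁻¹ * x * e⁻¹⁻¹)⁻¹) * e⁻¹ := by group
      rcases hfix _ (hnB e⁻¹ (C.inv_mem (hEC he)) x hx) with h4 | h4
      · left; rw [h3, h4]
      · right; rw [h3, h4]
    obtain ⟨a, ha, ha1, hav⟩ := hA2
    have hvv := hY2 v hvY
    rcases hg with hg | hg
    · -- `c = g` is centralised by `E`
      have hcE : ∀ e ∈ E, e * c * e⁻¹ = c := fun e he => by rw [hg, hgE e he]; group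
      have hwc : w = v * c := by rw [hc, ← mul_assoc, hvv, one_mul]
      have hpat' : ∀ x ∈ B, ∀ y ∈ A, x * y * x⁻¹ = y ∨ x * y * x⁻¹ = y * c := by
        intro x hx y hy
        by_cases hy1 : y = 1
        · left; rw [hy1]; group
        · obtain ⟨e, he, rfl⟩ := hE y hy hy1
          rcases hpat x hx e he with h3 | h3
          · exact Or.inl h3
          · right
            rw [h3, hwc]
            calc e * (v * c) * e⁻¹ = (e * v * e⁻¹) * (e * c * e⁻¹) := by group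
              _ = _ := by rw [hcE e he]
      -- `x ∈ A#`, `x ≠ v`, fixed by `b`
      obtain ⟨x, hxA, hx1, hxb⟩ : ∃ x ∈ A, x ≠ 1 ∧ b * x * b⁻¹ = x := by
        rcases hpat' b hb a ha with h3 | h3
        · exact ⟨a, ha, ha1, h3⟩
        · refine ⟨v * a, A.mul_mem hvA ha, ?_, ?_⟩
          · intro h
            apply hav
            have h4 := eq_inv_of_mul_eq_one_right h
            rw [h4, inv_eq_of_mul_eq_one_left hvv]
          · have h4 : b * (v * a) * b⁻¹ = (b * v * b⁻¹) * (b * a * b⁻¹) := by group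
            rw [h4, h3, ← hw, hwc, comm a (hAY ha) c hcY]
            calc v * c * (c * a) = v * (c * c) * a := by group
              _ = v * a := by rw [hY2 c hcY]; group
      obtain ⟨e, he, hxe⟩ := hE x hxA hx1
      have hb1 : e⁻¹ * b * e⁻¹⁻¹ ∈ B := hnB _ (C.inv_mem (hEC he)) b hb
      obtain ⟨b₁, hb₁⟩ : ∃ b₁, b₁ = e⁻¹ * b * e⁻¹⁻¹ := ⟨_, rfl⟩
      rw [← hb₁] at hb1
      have h5 : b₁ * v * b₁⁻¹ = v := by
        have h6 : b₁ * v * b₁⁻¹ = e⁻¹ * (b * (e * v * e⁻¹) * b⁻¹) * e := by rw [hb₁]; group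
        rw [h6, hxe, hxb, ← hxe]; group
      have hFb₁ : F b₁ := by
        by_contra h
        exact hwv ((hmove b₁ hb1 h).symm.trans h5)
      obtain ⟨k, hk, t, ht, hkt⟩ := hFb₁
      have huA : e⁻¹ * v * e⁻¹⁻¹ ∈ A := hEA _ (E.inv_mem he) v hvA
      obtain ⟨u, hu⟩ : ∃ u, u = e⁻¹ * v * e⁻¹⁻¹ := ⟨_, rfl⟩
      rw [← hu] at huA
      have h6 : b₁ * u * b₁⁻¹ = u * c := by
        have h7 : b₁ * u * b₁⁻¹ = e⁻¹ * (b * v * b⁻¹) * e := by rw [hb₁, hu]; group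
        rw [h7, ← hw, hwc, hu]
        have h8 := hcE _ (E.inv_mem he)
        calc e⁻¹ * (v * c) * e = e⁻¹ * v * e⁻¹⁻¹ * (e⁻¹ * c * e⁻¹⁻¹) := by group
          _ = _ := by rw [h8]
      have h7 : t * u * t⁻¹ = u * c := by
        have h8 := mem_centralizer_iff.1 hk _ (hAY (hTA t ht u huA))
        have h9 : b₁ * u * b₁⁻¹ = k * (t * u * t⁻¹) * k⁻¹ := by rw [hkt]; group
        rw [h9, ← h8] at h6
        rw [← h6]; group
      have hcA : c ∈ A := by
        have h8 := hTA t ht u huA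
        rw [h7] at h8
        exact (A.mul_mem_cancel_left huA).1 h8
      obtain ⟨e', he', h8⟩ := hE c hcA hc1
      have h9 : v = c := by
        have h10 := hcE _ (E.inv_mem he')
        rw [← h8] at h10
        rw [← h8]
        calc v = e'⁻¹ * (e' * v * e'⁻¹) * e'⁻¹⁻¹ := by group
          _ = _ := h10
      obtain ⟨e'', he'', h10⟩ := hE a ha ha1
      rw [h9, hcE _ he''] at h10
      exact hav (h10.symm.trans h9.symm)
    · -- `w = g` is centralised by `E`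
      have hwg : w = g := by
        rw [hc] at hg
        exact mul_left_cancel hg
      have hwE : ∀ e ∈ E, e * w * e⁻¹ = w := fun e he => by rw [hwg, hgE e he]; group
      obtain ⟨x, hxA, hx1, hxv, hxb⟩ : ∃ x ∈ A, x ≠ 1 ∧ x ≠ v ∧ b * x * b⁻¹ ≠ x := by
        by_cases h3 : b * a * b⁻¹ = a
        · refine ⟨v * a, A.mul_mem hvA ha, ?_, ?_, ?_⟩
          · intro h
            apply hav
            have h4 := eq_inv_of_mul_eq_one_right h
            rw [h4, inv_eq_of_mul_eq_one_left hvv]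
          · intro h
            exact ha1 (mul_eq_left.1 h)
          · intro h
            have h4 : b * (v * a) * b⁻¹ = (b * v * b⁻¹) * (b * a * b⁻¹) := by group
            rw [h4, h3, ← hw] at h
            exact hwv (mul_right_cancel h)
        · exact ⟨a, ha, ha1, hav, h3⟩
      obtain ⟨e, he, hxe⟩ := hE x hxA hx1
      rcases hpat b hb e he with h3 | h3
      · rw [hxe] at h3
        exact hxb h3
      · rw [hxe, hwE e he, hw] at h3
        have h4 : x = v := by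
          have h5 := mul_right_cancel h3
          exact mul_left_cancel h5
        exact hxv h4
  -- (III)
  have hBcv : B ≤ centralizer ({v} : Set G) := fun b hb => mem_centralizer_singleton_iff.2 (hBv b hb)
  have hTcv : T ≤ centralizer ({v} : Set G) := fun t ht => mem_centralizer_singleton_iff.2 (hTv t ht)
  have hX : B ⊔ T ≤ centralizer ({v} : Set G) := sup_le hBcv hTcv
  have hXC : B ⊔ T ≤ C := sup_le hBC hTC
  have hXo : ¬ 2 ∣ T.relIndex (B ⊔ T) := by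
    intro h
    apply hodd
    rw [← relIndex_mul_relIndex T (B ⊔ T) _ le_sup_right hX]
    exact Dvd.dvd.mul_right h _
  have h3 := le_sup_of_pow hT hXo le_sup_left (hXC.trans hCB) (hXC.trans hK) hBK
  intro b hb
  refine ⟨?_, hBv b hb⟩
  obtain ⟨k, hk, t, ht, rfl⟩ := exists_mul ((inf_le_left.trans hTC).trans hK) (h3 hb)
  rw [mul_assoc, hTr t ht.1, ← mul_assoc, ← mem_centralizer_iff.1 hk r hrY, mul_assoc]

/-- **the module `Y` of ALPHA in the product case** -/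
theorem exists_Y [Finite G] (hG : IsCharacteristicTwoType G) {T A E : Subgroup G} {r v y : G}
    (hT : IsPGroup 2 T) (h2 : ∀ L : Subgroup G, IsPGroup 2 L → T ≤ L → T.relIndex L ≤ 2)
    (hyy : y * y = 1) (hy1 : y ≠ 1) (hTy : ∀ t ∈ T, t * y = y * t)
    (hrT : r ∈ T) (hrr : r * r = 1) (hr1 : r ≠ 1) (hTr : ∀ t ∈ T, t * r = r * t)
    (hvT : v ∈ T) (hvv : v * v = 1) (hTv : ∀ t ∈ T, t * v = v * t)
    (hodd : ¬ 2 ∣ T.relIndex (centralizer ({v} : Set G)))
    (hvA : v ∈ A) (hA2 : ∃ a ∈ A, a ≠ 1 ∧ a ≠ v) (hTA : ∀ t ∈ T, ∀ a ∈ A, t * a * t⁻¹ ∈ A)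
    (hEy : ∀ e ∈ E, e * y = y * e) (hEA : ∀ e ∈ E, ∀ a ∈ A, e * a * e⁻¹ ∈ A)
    (hE : ∀ a ∈ A, a ≠ 1 → ∃ e ∈ E, e * v * e⁻¹ = a)
    (hz : ∀ f ∈ T, (∀ t ∈ T, t * f = f * t) → f * f = 1 → ∃ g, (∀ e ∈ E, e * g = g * e) ∧ (f = g ∨ f = v * g))
    (ho : o2 (centralizer ({y} : Set G)) ≤ T) :
    ∃ Y ≤ centralizer ({y} : Set G), GSysW (centralizer ({y} : Set G)) Y r := by
  obtain ⟨C, hC⟩ : ∃ C, C = centralizer ({y} : Set G) := ⟨_, rfl⟩
  have hTC : T ≤ C := by rw [hC]; exact fun t ht => mem_centralizer_singleton_iff.2 (hTy t ht)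
  have hEC : E ≤ C := by rw [hC]; exact fun t ht => mem_centralizer_singleton_iff.2 (hEy t ht)
  have hloc : TLoc T C := by rw [hC]; exact TLoc.centralizer (by rw [pow_two]; exact hyy) hy1 (hC ▸ hTC)
  rw [← hC] at ho ⊢
  have key : ∀ x ∈ T, x * x = 1 → (∀ t ∈ T, t * x = x * t) → x ∈ zc (o2 C) := by
    intro x hx hxx hxT
    have h2 : x ∈ centralizer (o2 C : Set G) := mem_centralizer_iff.2 fun s hs => hxT s (ho hs)
    have h3 : x ∈ o2 C := hloc.char2 hG ⟨hTC hx, h2⟩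
    exact ZN.mem_zc.2 ⟨h3, fun c hc => mem_centralizer_iff.1 h2 c hc, by rw [pow_two]; exact hxx⟩
  have hCz : C ≤ normalizer (zc (o2 C) : Set G) :=
    (Cfsg.Agent.ZN.le_normalizer_o2 _).trans (ZN.normalizer_le_normalizer_zc _)
  have hcl : ∀ x : G, x ∈ zc (o2 C) → cl (zpowers x) C ≤ zc (o2 C) := fun x hx =>
    cl_le (by rw [zpowers_le]; exact hx) hCz
  obtain ⟨Y, hY⟩ : ∃ Y, Y = cl (zpowers r) C ⊔ cl (zpowers v) C := ⟨_, rfl⟩
  have hYz : Y ≤ zc (o2 C) := by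
    rw [hY]
    exact sup_le (hcl r (key r hrT hrr hTr)) (hcl v (key v hvT hvv hTv))
  have hrY : r ∈ Y := by
    rw [hY]; exact mem_sup_left (le_cl _ _ (mem_zpowers r))
  have hvY : v ∈ Y := by
    rw [hY]; exact mem_sup_right (le_cl _ _ (mem_zpowers v))
  have hCY : C ≤ normalizer (Y : Set G) := by
    rw [hY]
    intro c hc
    rw [← cj_eq_self_iff, cj_sup, cj_eq_self_iff.2 (le_normalizer_cl _ _ hc),
      cj_eq_self_iff.2 (le_normalizer_cl _ _ hc)]
  have hYo : Y ≤ o2 C := hYz.trans (ZN.zc_le _)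
  have hsq : ∀ x ∈ Y, x * x = 1 := fun x hx => by rw [← pow_two]; exact (ZN.mem_zc.1 (hYz hx)).2.2
  have hnor : ∀ c ∈ C, ∀ n ∈ Y, c * n * c⁻¹ ∈ Y := fun c hc n hn => conj_mem_of_normalizer (hCY hc) hn
  refine ⟨Y, hYo.trans (ZN.o2_le _), hsq, hnor, hrY, hr1, ?_⟩
  intro U hU hCU c hc h1 h2'
  refine chain_of_core hsq hnor ?_ hU hCU hc h1 h2'
  intro B hBC hn hB
  have hCB : C ≤ normalizer (B : Set G) := fun c hc => by
    rw [mem_normalizer_iff]
    intro x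
    refine ⟨fun hx => hn c hc x hx, fun hx => ?_⟩
    have h3 := hn _ (C.inv_mem hc) _ hx
    have e : c⁻¹ * (c * x * c⁻¹) * c⁻¹⁻¹ = x := by group
    rwa [e] at h3
  have h3 := core hT hTC h2 hTr hTv hodd hvA hA2 hTA hEC hEA hE hz (hYo.trans ho) hsq hCY hrY hvY
    hBC hCB hB
  have h4 : Y ≤ centralizer (B : Set G) := by
    have h5 : C ≤ normalizer (centralizer (B : Set G) : Set G) :=
      hCB.trans (normalizer_le_normalizer_centralizer _)
    rw [hY]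
    refine sup_le (cl_le ?_ h5) (cl_le ?_ h5)
    · rw [zpowers_le, mem_centralizer_iff]
      exact fun b hb => (h3 b hb).1
    · rw [zpowers_le, mem_centralizer_iff]
      exact fun b hb => (h3 b hb).2
  exact fun b hb n hn => mem_centralizer_iff.1 (h4 hn) b hb

end Cfsg.Agent.Omega.HT.FillY
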