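import Cfsg.Agent.Omega.HT.EntryTs
import Cfsg.Agent.Omega.HOne.TvPar
import Cfsg.Agent.Omega.HT.JunAB

/-!
# II.0h1, `q = 2`, over a 2-group `S` Sylow in `N(R o)`: (C) of #17185, the case not (alpha)₀

`E = C_Z(P)`, `Z = Ω₁(Z(S))`, `M₀ = ME V R o E = ⟨C(Z), X⟩`, `S` of odd index in `M₀`.

* `noPar_Z` : no parallels for `M₀` (`TvPar`), from `beta`;
* `eq_zpowers` : not (alpha)₀ implies `E = ⟨z⟩`;
* `ts_Z` : not (alpha)₀ implies TS(z) with `noPar` for `ME V R o ⟨z⟩`, `z` the involution of `E`;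
* `exists_c` : (alpha)₀: the element `c ∈ E` with `r₂ c R o` fixed by `Σ = N_{H}(V Z(Q))`; `noPar_of` : no parallels for
  every `z ∈ E` which is centralised by the elements of `Σ` centralising it only if they centralise `c`
  (`z = c` or `c = 1`);
* `ts_alpha` : (alpha)₀ and `¬ U_z ≤ Q o` imply TS(z) for `z = c`, and for all `z` if `c = 1`;
* `exists_ts` : the conclusion of (C).
-/

set_option autoImplicit false
set_option linter.unusedSectionVars false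

namespace Cfsg.Agent.Omega.HT.JunC

open Subgroup Cfsg Cfsg.Agent.ZN Cfsg.Agent.Omega.BTwo Cfsg.Agent.Omega.HT Cfsg.Agent.Omega.HT.EntryTv
open Cfsg.Agent.Omega.HT.EntryTs
open Cfsg.Agent.Omega.HOneTwo (cl cj_le_cl le_cl le_normalizer_cl cl_le eq_of_card_two normalizer_le_cen_of_card UM Dt)
open Cfsg.Agent.Omega.HTwo.Hat Cfsg.Agent.Omega.HTwo.ThmA Cfsg.Agent.Omega.MinPar
open Cfsg.Agent.Omega.HOne.TvDef
open Cfsg.Agent.Omega.HTwo.EntryTv (QF NF ME QF_conj NF_conj NF_base NF_gen cen_zpowers ME_z)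
open Cfsg.Agent.Omega.HTwo.AlphaP (MP)

universe u

variable {G : Type u} [Group G] [Finite G] {ι : Type*} {S P V : Subgroup G}
  {R : ι → Subgroup G} {o : ι} (b : HTT S P V R o) (hLE : ∀ i, LE V R i)
  {r : G} (hr : ∀ x, x ∈ R o ↔ x = 1 ∨ x = r) (hr1 : r ≠ 1)
  {j : ι} (hj : j ≠ o) {t : G} (ht : ∀ x, x ∈ R j ↔ x = 1 ∨ x = t) (ht1 : t ≠ 1)

include b hr hj ht

/-- an element centralising `Q r` and `Q t` is in `C_X` -/
theorem mem_cenX {c : G} (h1 : c ∈ ZC QF r) (h2 : c ∈ ZC QF t) : c ∈ CenX V R := by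
  have h3 : c ∈ centralizer (QQ (R o) : Set G) := by
    have : c ∈ centralizer (QF r : Set G) := h1
    rwa [QF_eq b hr] at this
  have h4 : c ∈ centralizer (QQ (R j) : Set G) := by
    have : c ∈ centralizer (QF t : Set G) := h2
    rwa [QF_eq b ht] at this
  change c ∈ centralizer (XX V R : Set G)
  rw [b.X_eq (Ne.symm hj), mem_centralizer_iff]
  have h5 : WW V (R o) ⊔ WW V (R j) ≤ centralizer ({c} : Set G) := by
    refine sup_le ?_ ?_
    · intro x hx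
      rw [mem_centralizer_singleton_iff]
      exact mem_centralizer_iff.1 h3 x (b.W_le_Q o hx)
    · intro x hx
      rw [mem_centralizer_singleton_iff]
      exact mem_centralizer_iff.1 h4 x (b.W_le_Q j hx)
  intro x hx
  have := h5 hx
  rwa [mem_centralizer_singleton_iff] at this

include hr1 ht1 hLE

/-- `noPar` for `E = C_Z(P)`, `S` of odd index in `M₀` -/
theorem noPar_Z {E : Subgroup G} (hEe : E = zc S ⊓ centralizer (P : Set G)) (hE1 : E ≠ ⊥)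
    (hodd : ¬ 2 ∣ S.relIndex (ME V R o E)) (hbeta : ∃ u ∈ UU (ME V R o E) r, u ∉ QF r) :
    ∀ x y, Adj (ME V R o E) r t r x → Adj (ME V R o E) r t r y → x * y ∈ ZC QF r → y = x ∨ y = r * x := by
  have h0 := tvH0 b hLE hr hr1 hEe.le hE1 hj ht ht1 hbeta
  have hS := tvS b hLE hr hr1 hEe.le hE1 hj ht ht1
  refine HOne.TvPar.noPar h0 hS.S_le hS.S_r hS.S_t hS.N_S hodd ?_
  intro c _ hcr hct hcS m hm
  have h1 := mem_cenX b hr hj ht hcr hct
  have h2 : c ∈ E := by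
    rw [hEe, b.cz_eq]
    refine mem_inf.2 ⟨?_, h1⟩
    have h3 : c ∈ centralizer (QQ (R o) : Set G) := by
      have : c ∈ centralizer (QF r : Set G) := hcr
      rwa [QF_eq b hr] at this
    have h4 : c ∈ QQ (R o) := by
      refine b.cenQ o (mem_inf.2 ⟨?_, h3⟩)
      exact centralizer_le_normalizer _ (centralizer_le ((b.R_le o).trans (b.V_Q o)) h3)
    refine mem_zc.2 ⟨b.Q_le_S h4, hcS, ?_⟩
    rw [pow_two]
    exact UU_sq b hr hr1 hEe.le hE1 ‹c ∈ UU (ME V R o E) r›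
  exact (mem_centralizer_iff.1 (ME_le_cen b hEe.le hm) c h2).symm

/-- not (alpha)₀ implies `|C_Z(P)| = 2` -/
theorem eq_zpowers {E : Subgroup G} (hEe : E = zc S ⊓ centralizer (P : Set G))
    (hodd : ¬ 2 ∣ S.relIndex (ME V R o E)) (hα : ¬ UM V (ME V R o E) ≤ QQ (R o)) {z : G} (hz : z ∈ E)
    (hz1 : z ≠ 1) : E = zpowers z := by
  have hE1 : E ≠ ⊥ := fun h => hz1 (by rw [h] at hz; exact mem_bot.1 hz)
  have hbeta := beta_of b hr hr1 hEe.le hα
  have hpar := noPar_Z b hLE hr hr1 hj ht ht1 hEe hE1 hodd hbeta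
  obtain ⟨c, hC, hJ⟩ := jend b hLE hr hr1 hEe.le hE1 hj ht ht1 hbeta hpar
  have hc : ∀ y ∈ E, y ≠ 1 → c = y := fun y hy hy1 =>
    c_eq b hLE hr hr1 hEe.le hE1 hj ht ht1 hbeta hpar hC hJ hy hy1
  apply le_antisymm
  · intro y hy
    by_cases hy1 : y = 1
    · rw [hy1]; exact one_mem _
    · rw [← hc y hy hy1, hc z hz hz1]; exact mem_zpowers z
  · rwa [zpowers_le]

/-- TS(z) in the case not (alpha)₀ -/
theorem ts_Z {E : Subgroup G} (hEe : E = zc S ⊓ centralizer (P : Set G))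
    (hodd : ¬ 2 ∣ S.relIndex (ME V R o E)) (hα : ¬ UM V (ME V R o E) ≤ QQ (R o)) {z : G} (hz : z ∈ E)
    (hz1 : z ≠ 1) : E = zpowers z ∧
      (∀ x y, Adj (ME V R o (zpowers z)) r t r x → Adj (ME V R o (zpowers z)) r t r y → x * y ∈ ZC QF r →
        y = x ∨ y = r * x) ∧
      JConst (ME V R o (zpowers z)) r t QF (NF r (zpowers z)) z ∧
      JEnd (ME V R o (zpowers z)) r QF (NF r (zpowers z)) z := by
  have hEz := eq_zpowers b hLE hr hr1 hj ht ht1 hEe hodd hα hz hz1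
  have hz' : z ∈ zc S ⊓ centralizer (P : Set G) := hEe ▸ hz
  have hE1 : E ≠ ⊥ := fun h => hz1 (by rw [h] at hz; exact mem_bot.1 hz)
  have hpar := noPar_Z b hLE hr hr1 hj ht ht1 hEe hE1 hodd (beta_of b hr hr1 hEe.le hα)
  rw [hEz] at hpar hα
  refine ⟨hEz, hpar, ?_⟩
  rw [ME_z] at hα
  exact jend_z b hLE hr hr1 hz' hz1 hj ht ht1 hα hpar

/-! ### (alpha)₀ -/

omit hr1 ht1 hLE ht hj in
/-- no parallels for `M_z` if the elements of `Σ` which centralise `z` normalise `V` -/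
theorem noPar_of {z : G} (hz : z ∈ zc S ⊓ centralizer (P : Set G))
    (H : ∀ a ∈ normalizer (R o : Set G), a * z = z * a → (∀ v ∈ V, a * v * a⁻¹ ∈ V ⊔ ZQ R o) →
      a ∈ normalizer (V : Set G)) (hj : j ≠ o) (ht : ∀ x, x ∈ R j ↔ x = 1 ∨ x = t) (ht1 : t ≠ 1) :
    ∀ x y, Adj (ME V R o (zpowers z)) r t r x → Adj (ME V R o (zpowers z)) r t r y → x * y ∈ ZC QF r →
      y = x ∨ y = r * x := by
  refine JunAB.noPar b hr ?_ H hj ((ht t).2 (Or.inr rfl)) ht1 (QF_eq b hr)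
  refine (ME_le_cen b (zpowers_le_cz hz)).trans (centralizer_le ?_)
  rintro _ rfl
  exact mem_zpowers _

omit hr1 in
/-- **(A), (B)** : the element `c` of (alpha)₀ -/
theorem exists_c (hodd : ¬ 2 ∣ S.relIndex (JunAB.MZ S V R)) {z₀ : G}
    (hz₀ : z₀ ∈ zc S ⊓ centralizer (P : Set G)) (hz₀1 : z₀ ≠ 1) (hα : UM V (JunAB.MZ S V R) ≤ QQ (R o)) :
    ∃ c ∈ zc S ⊓ centralizer (P : Set G),
      (∀ g ∈ normalizer (R o : Set G), (∀ v ∈ V, g * v * g⁻¹ ∈ V ⊔ ZQ R o) →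
        (t * c)⁻¹ * g * (t * c) * g⁻¹ ∈ R o) ∧
      (∀ g ∈ normalizer (V : Set G), g ∈ normalizer (R o : Set G) → g * c = c * g) ∧
      ∀ g ∈ normalizer (R o : Set G), g * c = c * g → (∀ v ∈ V, g * v * g⁻¹ ∈ V ⊔ ZQ R o) →
        g ∈ normalizer (V : Set G) := by
  have hNr := fun g => HT.Two.mem_N_iff b hr (g := g)
  have h2j : t ∈ R j := (ht t).2 (Or.inr rfl)
  have h2V := b.R_le j h2j
  obtain ⟨c, hc, H⟩ := JunAB.exists_avg b hr hj h2j ht1 hLE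
  have hVn : ∀ a ∈ normalizer (V : Set G), ∀ v ∈ V, a * v * a⁻¹ ∈ V ⊔ ZQ R o := fun a ha v hv =>
    mem_sup_left (conj_mem_of_normalizer ha hv)
  obtain ⟨a, ha, hac⟩ := JunAB.mem_of_alpha b hr hLE (JunAB.gsys_MZ b hr hz₀ hz₀1 hodd) hz₀ hz₀1 hα hc
    fun g hgV hgR => JunAB.fix_c b hr hj h2j ht1 hc hgV hgR (H g hgR (hVn g hgV))
  -- `[g, a c] ∈ R o` for `g ∈ N(V) ∩ N(R o)`
  have hfix : ∀ g ∈ normalizer (V : Set G), g ∈ normalizer (R o : Set G) →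
      g * (a * c) * g⁻¹ * (a * c)⁻¹ ∈ R o := by
    intro s hsV hsR
    have h3 := JunAB.fix_c b hr hj h2j ht1 hc hsV hsR (H s hsR (hVn s hsV))
    have e : s * (a * c) * s⁻¹ * (a * c)⁻¹ = (s * a * s⁻¹) * (s * c * s⁻¹ * c⁻¹) * a⁻¹ := by group
    rw [e]
    exact mul_mem (mul_mem (conj_mem_of_normalizer hsR ha) h3) (inv_mem ha)
  have hZ := JunAB.mem_zc_of b hr hLE hac (fun s hs => hfix s (b.S_V hs) (b.S_R hs))
  have hga : ∀ g ∈ normalizer (R o : Set G), g * a = a * g := by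
    intro g hg
    rcases (hr a).1 ha with rfl | rfl
    · rw [one_mul, mul_one]
    · exact (hNr g).1 hg
  -- the coset `t a c R o` is fixed
  have H' : ∀ g ∈ normalizer (R o : Set G), (∀ v ∈ V, g * v * g⁻¹ ∈ V ⊔ ZQ R o) →
      (t * (a * c))⁻¹ * g * (t * (a * c)) * g⁻¹ ∈ R o := by
    intro g hg hgV
    have h1 := H g hg hgV
    have h2 := hga g hg
    have h3 : t * a = a * t := b.V_comm t h2V a (b.R_le o ha)
    have e : (t * (a * c))⁻¹ * g * (t * (a * c)) * g⁻¹ = (t * c)⁻¹ * g * (t * c) * g⁻¹ := by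
      calc (t * (a * c))⁻¹ * g * (t * (a * c)) * g⁻¹ = (t * a * c)⁻¹ * g * (t * a * c) * g⁻¹ := by group
        _ = (a * t * c)⁻¹ * g * (a * t * c) * g⁻¹ := by rw [h3]
        _ = (t * c)⁻¹ * a⁻¹ * (g * a) * (t * c) * g⁻¹ := by group
        _ = (t * c)⁻¹ * a⁻¹ * (a * g) * (t * c) * g⁻¹ := by rw [h2]
        _ = _ := by group
    rw [e]
    exact h1
  refine ⟨a * c, hZ, H', ?_, ?_⟩
  · intro g hgV hgR
    have h1 := hfix g hgV hgR
    -- `g (a c) g⁻¹ (a c)⁻¹ ∈ R o ∩ C_X = 1`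
    have hXn : g ∈ normalizer (CenX V R : Set G) := by
      have h2 : g ∈ normalizer (XX V R : Set G) := by
        rw [← cj_eq_self_iff, XX, cj_iSup]
        apply le_antisymm
        · refine iSup_le fun i => ?_
          obtain ⟨l, hl⟩ := b.perm g hgV i
          rw [b.cj_WW hl]
          exact le_iSup (fun i => WW V (R i)) l
        · refine iSup_le fun i => ?_
          obtain ⟨l, hl⟩ := b.perm g⁻¹ (inv_mem hgV) i
          have h3 : cj g (R l) = R i := by rw [← hl, cj_cj_inv]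
          rw [← b.cj_WW h3]
          exact le_iSup (fun i => cj g (WW V (R i))) l
      exact normalizer_le_normalizer_centralizer _ h2
    have h2 : g * (a * c) * g⁻¹ * (a * c)⁻¹ ∈ CenX V R := mul_mem (conj_mem_of_normalizer hXn hac) (inv_mem hac)
    have h3 := b.cen_VX (b.R_le o h1) h2
    exact mul_inv_eq_iff_eq_mul.1 (mul_inv_eq_one.1 h3)
  · intro g hg hgc hgV
    refine BTwo.mem_normalizer_of_conj fun v hv => ?_
    have h6 := H' g hg hgV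
    have e1 : (t * (a * c))⁻¹ * g * (t * (a * c)) * g⁻¹ = (a * c)⁻¹ * (t⁻¹ * g * t * g⁻¹) * (a * c) := by
      have e2 : a * c * g⁻¹ = g⁻¹ * (a * c) := by
        rw [eq_inv_mul_iff_mul_eq, ← mul_assoc, hgc, mul_inv_cancel_right]
      calc (t * (a * c))⁻¹ * g * (t * (a * c)) * g⁻¹ = (a * c)⁻¹ * t⁻¹ * g * t * (a * c * g⁻¹) := by group
        _ = _ := by rw [e2]; group
    rw [e1] at h6
    have hdN : a * c ∈ normalizer (R o : Set G) := b.S_R (zc_le _ hZ.1)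
    have h7 := conj_mem_of_normalizer hdN h6
    have e2 : a * c * ((a * c)⁻¹ * (t⁻¹ * g * t * g⁻¹) * (a * c)) * (a * c)⁻¹ = t⁻¹ * g * t * g⁻¹ := by group
    rw [e2] at h7
    have h8 : g * t * g⁻¹ ∈ V := by
      have e : g * t * g⁻¹ = t * (t⁻¹ * g * t * g⁻¹) := by group
      rw [e]
      exact mul_mem h2V (b.R_le o h7)
    rcases JunAB.mem_V b hr hj h2j ht1 hv with h9 | h9
    · exact b.R_le o (conj_mem_of_normalizer hg h9)
    · have e : g * v * g⁻¹ = (g * t * g⁻¹) * (g * (t⁻¹ * v) * g⁻¹) := by group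
      rw [e]
      exact mul_mem h8 (b.R_le o (conj_mem_of_normalizer hg h9))

/-- **(C)** for a class of good `z`: `Good` contains the element `c` of (alpha)₀ (if `c ≠ 1`) or all of it
(if `c = 1`), and `¬ U_z ≤ Q o` for the good `z` -/
theorem exists_ts (Good : G → Prop) (hodd : ¬ 2 ∣ S.relIndex (JunAB.MZ S V R)) {z₀ : G}
    (hz₀ : z₀ ∈ zc S ⊓ centralizer (P : Set G)) (hz₀1 : z₀ ≠ 1)
    (hg₀ : UM V (JunAB.MZ S V R) ≤ QQ (R o) → Good z₀)
    (hgood : UM V (JunAB.MZ S V R) ≤ QQ (R o) → ∀ c ∈ zc S ⊓ centralizer (P : Set G), c ≠ 1 →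
      (∀ g ∈ normalizer (R o : Set G), (∀ v ∈ V, g * v * g⁻¹ ∈ V ⊔ ZQ R o) →
        (t * c)⁻¹ * g * (t * c) * g⁻¹ ∈ R o) →
      (∀ g ∈ normalizer (V : Set G), g ∈ normalizer (R o : Set G) → g * c = c * g) → Good c)
    (hα : ∀ z ∈ zc S ⊓ centralizer (P : Set G), z ≠ 1 → Good z → ¬ UM V (MP V R o z) ≤ QQ (R o)) :
    ∃ z ∈ zc S ⊓ centralizer (P : Set G), z ≠ 1 ∧
      (Good z ∨ zc S ⊓ centralizer (P : Set G) = zpowers z) ∧
      ¬ UM V (MP V R o z) ≤ QQ (R o) ∧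
      (∀ x y, Adj (ME V R o (zpowers z)) r t r x → Adj (ME V R o (zpowers z)) r t r y → x * y ∈ ZC QF r →
        y = x ∨ y = r * x) ∧
      JConst (ME V R o (zpowers z)) r t QF (NF r (zpowers z)) z ∧
      JEnd (ME V R o (zpowers z)) r QF (NF r (zpowers z)) z := by
  have hMM : ME V R o (zc S ⊓ centralizer (P : Set G)) = JunAB.MZ S V R := ME_MZ b
  by_cases hα0 : UM V (JunAB.MZ S V R) ≤ QQ (R o)
  · obtain ⟨c, hc, H1, H2, H3⟩ := exists_c b hLE hr hj ht ht1 hodd hz₀ hz₀1 hα0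
    by_cases hc1 : c = 1
    · have hpar := noPar_of b hr hz₀ (fun g hg _ hgV => H3 g hg (by rw [hc1, mul_one, one_mul]) hgV) hj ht ht1
      have h1 := hα z₀ hz₀ hz₀1 (hg₀ hα0)
      exact ⟨z₀, hz₀, hz₀1, Or.inl (hg₀ hα0), h1, hpar, jend_z b hLE hr hr1 hz₀ hz₀1 hj ht ht1 h1 hpar⟩
    · have hpar := noPar_of b hr hc H3 hj ht ht1
      have h0 := hgood hα0 c hc hc1 H1 H2
      have h1 := hα c hc hc1 h0
      exact ⟨c, hc, hc1, Or.inl h0, h1, hpar, jend_z b hLE hr hr1 hc hc1 hj ht ht1 h1 hpar⟩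
  · have hα1 : ¬ UM V (ME V R o (zc S ⊓ centralizer (P : Set G))) ≤ QQ (R o) := by rw [hMM]; exact hα0
    obtain ⟨h1, h2, h3⟩ := ts_Z b hLE hr hr1 hj ht ht1 rfl (by rw [hMM]; exact hodd) hα1 hz₀ hz₀1
    refine ⟨z₀, hz₀, hz₀1, Or.inr h1, ?_, h2, h3⟩
    rw [← ME_z, ← h1]
    exact hα1

end Cfsg.Agent.Omega.HT.JunC
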