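import Cfsg.Agent.Omega.HT.JunAB

/-!
# II.0h1, `q = 2`, over `S`: the choice of `z` in (A), (B) of #17185 with `[z, N(V) ∩ N(R o)] = 1`

`exists_z` : as `JunAB.exists_z`; in addition `z = z₀` or `N(V) ∩ N(R o)` centralises `z` (so `z ∈ D_T` in WrCv).
-/

set_option autoImplicit false
set_option linter.unusedSectionVars false

namespace Cfsg.Agent.Omega.HT.JunZ

open Subgroup Cfsg Cfsg.Agent.MinSimple.VModule Cfsg.Agent.Omega.BTwo
open Cfsg.Agent.Omega.HOneTwo Cfsg.Agent.Omega.HTwo Cfsg.Agent.Omega.HTwo.ThmA Cfsg.Agent.Omega.HTwo.Par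
open Cfsg.Agent.Omega.HTwo.Hat Cfsg.Agent.Omega.HTwo.TComp Cfsg.Agent.Omega.MinPar
open Cfsg.Agent.ZN (zc o2 le_normalizer_o2)
open Cfsg.Agent.Omega.HTwo.AlphaFive (mem_C)
open Cfsg.Agent.Omega.TV (GSys)
open Cfsg.Agent.Omega.HOne
open Cfsg.Agent.Omega.HOne.JunIrr Cfsg.Agent.Omega.HT Cfsg.Agent.Omega.HT.Two Cfsg.Agent.Omega.HT.JunIrr
open Cfsg.Agent.Omega.HT.JunAB (mem_of_alpha fix_c exists_avg mem_zc_of mem_V MZ gsys_MZ)

universe u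

variable {G : Type u} [Group G] [Finite G] {ι : Type*} {S P V : Subgroup G}
  {R : ι → Subgroup G} {o : ι} (b : HTT S P V R o) {r : G} (hr : ∀ x, x ∈ R o ↔ x = 1 ∨ x = r)
include b hr

/-- **(A), (B)** : the choice of `z` -/
theorem exists_z_aux (hLE : ∀ i, ThmA.LE V R i) (hch : GSys (MZ S V R) (cl (R o) (MZ S V R)) r) {z₀ : G} (hz₀ : z₀ ∈ zc S ⊓ centralizer (P : Set G)) (hz₀1 : z₀ ≠ 1)
    (hα : UM V (MZ S V R) ≤ QQ (R o)) :
    ∃ z ∈ zc S ⊓ centralizer (P : Set G), z ≠ 1 ∧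
      (z = z₀ ∨ ∀ g ∈ normalizer (V : Set G), g ∈ normalizer (R o : Set G) → g * z = z * g) ∧
      ∀ a ∈ normalizer (R o : Set G), a * z = z * a → (∀ v ∈ V, a * v * a⁻¹ ∈ V ⊔ ZQ R o) →
        a ∈ normalizer (V : Set G) := by
  have hNr := fun g => mem_N_iff b hr (g := g)
  obtain ⟨j, k, hj, hk, hjk⟩ := b.one_lt
  obtain ⟨r₂, h21, h22, h2⟩ := b.exists_gen j
  have h2j : r₂ ∈ R j := (h2 _).2 (Or.inr rfl)
  have h2V := b.R_le j h2j
  obtain ⟨c, hc, H⟩ := exists_avg b hr hj h2j h21 hLE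
  have hVn : ∀ a ∈ normalizer (V : Set G), ∀ v ∈ V, a * v * a⁻¹ ∈ V ⊔ ZQ R o := fun a ha v hv =>
    mem_sup_left (conj_mem_of_normalizer ha hv)
  obtain ⟨a, ha, hac⟩ := mem_of_alpha b hr hLE hch hz₀ hz₀1 hα hc fun g hgV hgR =>
    fix_c b hr hj h2j h21 hc hgV hgR (H g hgR (hVn g hgV))
  have hZ := mem_zc_of b hr hLE hac (by
    intro s hs
    have h3 := fix_c b hr hj h2j h21 hc (b.S_V hs) (b.S_R hs) (H s (b.S_R hs) (hVn s (b.S_V hs)))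
    have e : s * (a * c) * s⁻¹ * (a * c)⁻¹ = (s * a * s⁻¹) * (s * c * s⁻¹ * c⁻¹) * a⁻¹ := by group
    rw [e]
    exact mul_mem (mul_mem (conj_mem_of_normalizer (b.S_R hs) ha) h3) (inv_mem ha))
  have main : ∀ g ∈ normalizer (R o : Set G), g * (a * c) = a * c * g →
      (∀ v ∈ V, g * v * g⁻¹ ∈ V ⊔ ZQ R o) → g ∈ normalizer (V : Set G) := by
    intro g hg hgc hgV
    refine mem_normalizer_of_conj fun v hv => ?_
    have h4 : g * a = a * g := by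
      rcases (hr a).1 ha with rfl | rfl
      · rw [one_mul, mul_one]
      · exact (hNr g).1 hg
    have h5 : g * c = c * g := by
      apply mul_left_cancel (a := a)
      rw [← mul_assoc, ← h4, mul_assoc, hgc, mul_assoc]
    have h6 := H g hg hgV
    have e1 : (r₂ * c)⁻¹ * g * (r₂ * c) * g⁻¹ = c⁻¹ * (r₂⁻¹ * g * r₂ * g⁻¹) * c := by
      have e2 : c * g⁻¹ = g⁻¹ * c := by
        rw [eq_inv_mul_iff_mul_eq, ← mul_assoc, h5, mul_inv_cancel_right]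
      calc (r₂ * c)⁻¹ * g * (r₂ * c) * g⁻¹ = c⁻¹ * r₂⁻¹ * g * r₂ * (c * g⁻¹) := by group
        _ = _ := by rw [e2]; group
    rw [e1] at h6
    have hdN : c ∈ normalizer (R o : Set G) := b.Q_le o (ZQ_le o hc)
    have h7 := conj_mem_of_normalizer hdN h6
    have e2 : c * (c⁻¹ * (r₂⁻¹ * g * r₂ * g⁻¹) * c) * c⁻¹ = r₂⁻¹ * g * r₂ * g⁻¹ := by group
    rw [e2] at h7
    have h8 : g * r₂ * g⁻¹ ∈ V := by
      have e : g * r₂ * g⁻¹ = r₂ * (r₂⁻¹ * g * r₂ * g⁻¹) := by group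
      rw [e]
      exact mul_mem h2V (b.R_le o h7)
    rcases mem_V b hr hj h2j h21 hv with h9 | h9
    · exact b.R_le o (conj_mem_of_normalizer hg h9)
    · have e : g * v * g⁻¹ = (g * r₂ * g⁻¹) * (g * (r₂⁻¹ * v) * g⁻¹) := by group
      rw [e]
      exact mul_mem h8 (b.R_le o (conj_mem_of_normalizer hg h9))
  by_cases hz1 : a * c = 1
  · refine ⟨z₀, hz₀, hz₀1, Or.inl rfl, fun g hg _ hgV => main g hg ?_ hgV⟩
    rw [hz1, mul_one, one_mul]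
  · refine ⟨a * c, hZ, hz1, Or.inr fun g hgV hgR => ?_, fun g hg hgz hgV => main g hg hgz hgV⟩
    have h3 := fix_c b hr hj h2j h21 hc hgV hgR (H g hgR (hVn g hgV))
    have e : g * (a * c) * g⁻¹ * (a * c)⁻¹ = (g * a * g⁻¹) * (g * c * g⁻¹ * c⁻¹) * a⁻¹ := by group
    have h4 : g * (a * c) * g⁻¹ * (a * c)⁻¹ ∈ R o := by
      rw [e]
      exact mul_mem (mul_mem (conj_mem_of_normalizer hgR ha) h3) (inv_mem ha)
    have h5 : g * (a * c) * g⁻¹ * (a * c)⁻¹ ∈ CenX V R :=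
      mul_mem (conj_mem_of_normalizer (b.NV_le_NCenX hgV) hac) (inv_mem hac)
    have h6 := b.toBTS.cen_VX (b.R_le o h4) h5
    exact mul_inv_eq_iff_eq_mul.1 (mul_inv_eq_one.1 h6)

omit hr in
/-- **(A), (B)** : the choice of `z` -/
theorem exists_z (hLE : ∀ i, ThmA.LE V R i) (hodd : ¬ 2 ∣ S.relIndex (MZ S V R)) {z₀ : G} (hz₀ : z₀ ∈ zc S ⊓ centralizer (P : Set G)) (hz₀1 : z₀ ≠ 1)
    (hα : UM V (MZ S V R) ≤ QQ (R o)) :
    ∃ z ∈ zc S ⊓ centralizer (P : Set G), z ≠ 1 ∧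
      (z = z₀ ∨ ∀ g ∈ normalizer (V : Set G), g ∈ normalizer (R o : Set G) → g * z = z * g) ∧
      ∀ a ∈ normalizer (R o : Set G), a * z = z * a → (∀ v ∈ V, a * v * a⁻¹ ∈ V ⊔ ZQ R o) →
        a ∈ normalizer (V : Set G) := by
  obtain ⟨r, -, -, hr⟩ := b.exists_gen o
  exact exists_z_aux b hr hLE (gsys_MZ b hr hz₀ hz₀1 hodd) hz₀ hz₀1 hα

end Cfsg.Agent.Omega.HT.JunZ
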