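import Cfsg.Agent.Omega.HT.EndZ
import Cfsg.Agent.Omega.HT.JunZ
import Cfsg.Agent.Omega.HT.JunC

/-!
# II.0h1, `q = 2`, over a 2-group `S` Sylow in `N(R o)`: `|C_Z(P)| = 2`

`false_of` : `HTT S P V R o`, LEMMA E, two elements `z₀ ≠ z₁` of `C_Z(P)#`, `S` Sylow in `⟨C(Z), X⟩`; for the
elements `z ∈ C_Z(P)#` with `z = z₀` or `[z, N(V) ∩ N(R o)] = 1`: not (alpha) for `⟨C_{H₁}(z), X⟩`, and
`O₂(M/C_M(U)) = 1`.  (#17185 (A)-(C), #15959, #15507 (1)-(5), THEOREM Z' #17321.)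
-/

set_option autoImplicit false
set_option linter.unusedSectionVars false

namespace Cfsg.Agent.Omega.HT.Final

open Subgroup Cfsg Cfsg.Agent.ZN Cfsg.Agent.Omega.BTwo Cfsg.Agent.Omega.HT Cfsg.Agent.Omega.HT.EntryTv
open Cfsg.Agent.Omega.HT.EntryTs
open Cfsg.Agent.Omega.HOneTwo (UM)
open Cfsg.Agent.Omega.HTwo.ThmA (LE)
open Cfsg.Agent.Omega.HTwo.Hat (ZQ)
open Cfsg.Agent.Omega.HOne.TvDef
open Cfsg.Agent.Omega.HTwo.EntryTv (QF NF ME)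
open Cfsg.Agent.Omega.HTwo.AlphaP (MP)
open Cfsg.Agent.Omega.HT.JunAB (MZ)

universe u

variable {G : Type u} [Group G] [Finite G] {ι : Type*} {S P V : Subgroup G}
  {R : ι → Subgroup G} {o : ι}

theorem false_of (b : HTT S P V R o) (hLE : ∀ i, LE V R i) {z₀ z₁ : G}
    (hz₀ : z₀ ∈ zc S ⊓ centralizer (P : Set G)) (h0 : z₀ ≠ 1)
    (hz₁ : z₁ ∈ zc S ⊓ centralizer (P : Set G)) (h1 : z₁ ≠ 1) (hne : z₁ ≠ z₀)
    (hodd : ¬ 2 ∣ S.relIndex (MZ S V R))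
    (hα : ∀ z ∈ zc S ⊓ centralizer (P : Set G), z ≠ 1 →
      (z = z₀ ∨ ∀ g ∈ normalizer (V : Set G), g ∈ normalizer (R o : Set G) → g * z = z * g) →
      ¬ UM V (MP V R o z) ≤ QQ (R o))
    (ho2 : ∀ z ∈ zc S ⊓ centralizer (P : Set G), z ≠ 1 →
      (z = z₀ ∨ ∀ g ∈ normalizer (V : Set G), g ∈ normalizer (R o : Set G) → g * z = z * g) →
      ∀ r, (∀ x, x ∈ R o ↔ x = 1 ∨ x = r) → r ≠ 1 →
      ∀ B : Subgroup G, B ≤ ME V R o (zpowers z) → (∀ m ∈ ME V R o (zpowers z), ∀ b ∈ B, m * b * m⁻¹ ∈ B) →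
      (∀ b ∈ B, ∀ u ∈ UU (ME V R o (zpowers z)) r, b * b * u = u * (b * b)) →
      ∀ b ∈ B, ∀ u ∈ UU (ME V R o (zpowers z)) r, b * u = u * b) : False := by
  obtain ⟨r, hr1, -, hr⟩ := b.exists_gen o
  obtain ⟨j, k, hj, hk, hjk⟩ := b.one_lt
  obtain ⟨t, ht1, -, ht⟩ := b.exists_gen j
  by_cases hα₀ : UM V (MZ S V R) ≤ QQ (R o)
  · obtain ⟨z, hz, hz1, hzz, H⟩ := JunZ.exists_z b hLE hodd hz₀ h0 hα₀
    have hMz : ME V R o (zpowers z) ≤ centralizer ({z} : Set G) := by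
      intro m hm
      rw [mem_centralizer_singleton_iff]
      exact M_z b hz hm
    have hpar := JunAB.noPar b hr (M := ME V R o (zpowers z)) hMz H hj ((ht t).2 (Or.inr rfl)) ht1
      (Q := QF) (QF_eq b hr)
    have key : ∀ c ∈ zc S ⊓ centralizer (P : Set G), c = 1 ∨ c = z := fun c hc =>
      EndZ.eq_z b hz hz1 hLE hr hr1 hj ht ht1 (hα z hz hz1 hzz) hpar (ho2 z hz hz1 hzz r hr hr1) hc
    have e0 := (key z₀ hz₀).resolve_left h0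
    have e1 := (key z₁ hz₁).resolve_left h1
    exact hne (e1.trans e0.symm)
  · have eM : ME V R o (zc S ⊓ centralizer (P : Set G)) = MZ S V R := ME_MZ b
    rw [← eM] at hodd hα₀
    have h2 := JunC.eq_zpowers b hLE hr hr1 hj ht ht1 rfl hodd hα₀ hz₀ h0
    rw [h2] at hz₁
    obtain ⟨n, hn⟩ := mem_zpowers_iff.1 hz₁
    have hsq : z₀ * z₀ = 1 := by rw [← pow_two]; exact (mem_zc.1 hz₀.1).2.2
    have h3 : z₁ = 1 ∨ z₁ = z₀ := by
      rcases Int.even_or_odd' n with ⟨m, hm | hm⟩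
      · left
        rw [← hn, hm, zpow_mul, zpow_two, hsq, one_zpow]
      · right
        rw [← hn, hm, zpow_add, zpow_mul, zpow_two, hsq, one_zpow, one_mul, zpow_one]
    rcases h3 with h3 | h3
    · exact h1 h3
    · exact hne h3

end Cfsg.Agent.Omega.HT.Final
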