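import Cfsg.Agent.Omega.HT.LemE

/-!
# LEMMA E over `T`, with "`⟨r^{C(f)}⟩` is abelian" in place of "`r ∈ Z(O₂(C(f)))`" (helper971)

`GoodA r f` : the conjugates of `r` under `C_G(f)` commute.  `le_TA` : the statement of `LemE.le_T` with `GoodA`.
-/

set_option autoImplicit false
set_option linter.unusedSectionVars false

namespace Cfsg.Agent.Omega.HT.LemEA

open Subgroup Cfsg.Agent.Omega.BTwo Cfsg.Agent.Omega.HTwo Cfsg.Agent.Omega.HTwo.Par
  Cfsg.Agent.Omega.HTwo.ThmA Cfsg.Agent.Omega.HT.LemE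

variable {G : Type*} [Group G] {ι : Type*} {V : Subgroup G} {R : ι → Subgroup G}

/-- the conjugates of `r` under `C_G(e)` commute -/
def GoodA (r e : G) : Prop := ∀ g : G, g * e = e * g → r * (g * r * g⁻¹) = g * r * g⁻¹ * r

theorem GoodA.comm {r e : G} (h : GoodA r e) {g k : G} (hg : g * e = e * g) (hk : k * e = e * k) :
    g * r * g⁻¹ * (k * r * k⁻¹) = k * r * k⁻¹ * (g * r * g⁻¹) := by
  have h1 := h (g⁻¹ * k) (by
    have h2 : g⁻¹ * e = e * g⁻¹ := by rw [inv_mul_eq_iff_eq_mul, ← mul_assoc, hg, mul_inv_cancel_right]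
    calc g⁻¹ * k * e = g⁻¹ * (k * e) := by group
      _ = (g⁻¹ * e) * k := by rw [hk]; group
      _ = e * (g⁻¹ * k) := by rw [h2]; group)
  calc g * r * g⁻¹ * (k * r * k⁻¹) = g * (r * (g⁻¹ * k * r * (g⁻¹ * k)⁻¹)) * g⁻¹ := by group
    _ = g * (g⁻¹ * k * r * (g⁻¹ * k)⁻¹ * r) * g⁻¹ := by rw [h1]
    _ = k * r * k⁻¹ * (g * r * g⁻¹) := by group

/-- if `e` centralises `X^k`, the elements of `V^k` are conjugates of `r` under `C_G(e)` -/
theorem cj_mem (b : BT V R) {i : ι} {r : G} (hr : ∀ x ∈ R i, x = 1 ∨ x = r) {e : G} {k : G}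
    (hk : k * r = r * k) (h : e ∈ centralizer (cj k (XX V R) : Set G)) {w : G} (hw : w ∈ cj k V) :
    w = 1 ∨ ∃ g, g * e = e * g ∧ w = g * r * g⁻¹ := by
  obtain ⟨v, hv, rfl⟩ := hw
  change k * v * k⁻¹ = 1 ∨ _
  obtain ⟨j, hj⟩ := b.R_cov v hv
  obtain ⟨x, hx, e1⟩ := b.trans_X_one i j
  rw [← e1, mem_cj] at hj
  rcases hr _ hj with h0 | h0
  · left
    have h1 : v = 1 := by
      have := congrArg (fun y => x * y * x⁻¹) h0
      simp only [mul_one, mul_inv_cancel] at this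
      rw [← this]; group
    rw [h1, mul_one, mul_inv_cancel]
  · right
    have h1 : v = x * r * x⁻¹ := by rw [← h0]; group
    refine ⟨k * x * k⁻¹, mem_centralizer_iff.1 h _ (conj_mem_cj hx), ?_⟩
    have h4 : k⁻¹ * r * k = r := by rw [mul_assoc, ← hk]; group
    change k * v * k⁻¹ = _
    calc k * v * k⁻¹ = (k * x * k⁻¹) * (k * r * k⁻¹) * (k * x * k⁻¹)⁻¹ := by rw [h1]; group
      _ = (k * x * k⁻¹) * r * (k * x * k⁻¹)⁻¹ := by rw [hk]; group

theorem comm_cj (b : BT V R) {i : ι} {r : G} (hr : ∀ x ∈ R i, x = 1 ∨ x = r) {e : G} (hg : GoodA r e)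
    {k l : G} (hk : k * r = r * k) (hl : l * r = r * l) (h1 : e ∈ centralizer (cj k (XX V R) : Set G))
    (h2 : e ∈ centralizer (cj l (XX V R) : Set G)) {a c : G} (ha : a ∈ cj k V) (hc : c ∈ cj l V) :
    a * c = c * a := by
  rcases cj_mem b hr hk h1 ha with rfl | ⟨g, hge, rfl⟩
  · rw [one_mul, mul_one]
  rcases cj_mem b hr hl h2 hc with rfl | ⟨g', hge', rfl⟩
  · rw [one_mul, mul_one]
  exact hg.comm hge hge'

/-- **LEMMA E over `T`** -/
theorem le_TA [Finite G] (b : BTS V R) {i : ι} {r : G} (hr : ∀ x ∈ R i, x = 1 ∨ x = r) (hri : r ∈ R i)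
    {T : Subgroup G} (hT : IsPGroup 2 T) (hTV : T ≤ normalizer (V : Set G))
    (hTR : T ≤ normalizer (R i : Set G)) (hodd : ¬ 2 ∣ T.relIndex (normalizer (R i : Set G)))
    (hnc : ∃ k ∈ normalizer (R i : Set G), ∃ v ∈ V, ∃ w ∈ cj k V, v * w ≠ w * v)
    {A : Subgroup G} (hA3 : ∃ y ∈ A, ∃ y' ∈ A, y ≠ 1 ∧ y' ≠ 1 ∧ y * y' ≠ 1) (hAX : A ≤ CenX V R)
    (hAg : ∀ y ∈ A, y ≠ 1 → GoodA r y)
    (hdec : ∀ e ∈ T, e ≠ 1 → e * e = 1 → (∀ t ∈ T, e * t = t * e) → e ∈ CenX V R →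
      (GoodA r e ∧ GoodA r (r * e)) ∨
        ∀ Λ : Subgroup G, normalizer (R i : Set G) ≤ normalizer (Λ : Set G) → e ∈ Λ → A ≤ Λ) (j : ι) :
    LE V R j := by
  refine le_all b.toBT (i := i) (fun Λ hΛ hN => ?_) j
  by_contra hΛR
  set K := normalizer (R i : Set G) with hK
  have hr1 : r ≠ 1 := by
    rintro rfl
    refine b.R_ne i ((eq_bot_iff_forall _).2 fun x hx => ?_)
    rcases hr x hx with h | h <;> exact h
  have hrr : r * r = 1 := b.V_sq r (b.R_le i hri)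
  have hKr : ∀ k ∈ K, k * r = r * k := by
    intro k hk
    have h1 := conj_mem_of_normalizer hk hri
    rcases hr _ h1 with h | h
    · exfalso
      apply hr1
      have := congrArg (fun y => k⁻¹ * y * k) h
      simp only [mul_one, inv_mul_cancel] at this
      rw [← this]; group
    · rw [mul_inv_eq_iff_eq_mul] at h
      exact h
  -- `E = R i Λ`
  set E := R i ⊔ Λ with hE
  have hKE : K ≤ normalizer (E : Set G) := by
    intro k hk
    rw [← cj_eq_self_iff, hE, cj_sup, cj_eq_self_iff.2 hk, cj_eq_self_iff.2 (hN hk)]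
  have hEm : ∀ l ∈ E, ∃ a ∈ R i, a * l ∈ CenX V R := by
    intro l hl
    have h1 : E ≤ RC b.toBT i := by
      refine sup_le (fun a ha => ⟨a⁻¹, inv_mem ha, ?_⟩) hΛ
      rw [inv_mul_cancel]
      exact one_mem _
    exact h1 hl
  -- elements of `E` modulo `X^k`
  have hEk : ∀ k ∈ K, ∀ e ∈ E, e ∈ centralizer (cj k (XX V R) : Set G) ∨
      r * e ∈ centralizer (cj k (XX V R) : Set G) := by
    intro k hk e he
    have h1 : k⁻¹ * e * k ∈ E := conj_inv_mem_of_normalizer (hKE hk) he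
    obtain ⟨a, ha, h2⟩ := hEm _ h1
    rw [centralizer_cj, mem_cj, mem_cj]
    rcases hr a ha with rfl | rfl
    · rw [one_mul] at h2
      exact Or.inl h2
    · right
      have h3 : k⁻¹ * (a * e) * k = a * (k⁻¹ * e * k) := by
        have h4 : k⁻¹ * a = a * k⁻¹ := by
          rw [inv_mul_eq_iff_eq_mul, ← mul_assoc, hKr k hk, mul_inv_cancel_right]
        calc k⁻¹ * (a * e) * k = (k⁻¹ * a) * e * k := by group
          _ = _ := by rw [h4]; group
      rw [h3]; exact h2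
  have hE0 : E ⊓ CenX V R ≠ ⊥ := by
    intro h
    apply hΛR
    intro x hx
    obtain ⟨a, ha, hm⟩ := hΛ x hx
    have h1 : a * x ∈ E ⊓ CenX V R :=
      ⟨mul_mem ((le_sup_left : R i ≤ E) ha) ((le_sup_right : Λ ≤ E) hx), hm⟩
    rw [h, mem_bot, mul_eq_one_iff_eq_inv] at h1
    have h2 : x = a⁻¹ := by rw [h1, inv_inv]
    rw [h2]; exact inv_mem ha
  have hTE : T ≤ normalizer ((E ⊓ CenX V R : Subgroup G) : Set G) := by
    intro s hs
    have h1 := b.NV_le_NCenX (hTV hs)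
    rw [← cj_eq_self_iff, cj_inf, cj_eq_self_iff.2 (hKE (hTR hs)), cj_eq_self_iff.2 h1]
  have hE2 : IsPGroup 2 (E ⊓ CenX V R : Subgroup G) := b.CenX_isPGroup.to_le inf_le_right
  have hEK : E ⊓ CenX V R ≤ K := by
    refine inf_le_right.trans ?_
    refine (b.CenX_le_cen.trans (centralizer_le (b.R_le i))).trans (centralizer_le_normalizer _)
  have hET := le_of_odd hT hTR hodd hE2 hEK hTE
  obtain ⟨e, he, he1, hee, heT⟩ := LemE.exists_inv hT hE0 hET hTE
  obtain ⟨k0, hk0, v0, hv0, w0, hw0, hne⟩ := hnc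
  rcases hdec e (hET he) he1 hee heT he.2 with ⟨g1, g2⟩ | hA
  · refine hne (commute_of_bipartite hTV hodd
      (fun L => ∀ k ∈ K, cj k V = L → e ∈ centralizer (cj k (XX V R) : Set G)) ?_ ?_ k0 hk0 v0 hv0 w0 hw0)
    · intro k hk l hl h1 h2 a ha c hc'
      exact comm_cj b.toBT hr g1 (hKr k hk) (hKr l hl) (h1 k hk rfl) (h2 l hl rfl) ha hc'
    · have key : ∀ k ∈ K, ¬ (∀ k' ∈ K, cj k' V = cj k V → e ∈ centralizer (cj k' (XX V R) : Set G)) →
          ∃ k' ∈ K, cj k' V = cj k V ∧ r * e ∈ centralizer (cj k' (XX V R) : Set G) := by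
        intro k hk h
        push Not at h
        obtain ⟨k', hk', e1, hne⟩ := h
        exact ⟨k', hk', e1, (hEk k' hk' e he.1).resolve_left hne⟩
      intro k hk l hl h1 h2 a ha c hc'
      obtain ⟨k', hk', e1, h3⟩ := key k hk h1
      obtain ⟨l', hl', e2, h4⟩ := key l hl h2
      rw [← e1] at ha
      rw [← e2] at hc'
      exact comm_cj b.toBT hr g2 (hKr k' hk') (hKr l' hl') h3 h4 ha hc'
  · -- `A ≤ E`
    have hAE : A ≤ E := hA E hKE he.1
    obtain ⟨y, hy, y', hy', y1, y1', y1''⟩ := hA3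
    have hfin : ∀ z ∈ A, z ≠ 1 → z ∈ centralizer (cj k0 (XX V R) : Set G) → False := by
      intro z hz hz1 hzk
      have h2 : z ∈ centralizer (cj 1 (XX V R) : Set G) := by
        rw [cj_one]; exact hAX hz
      exact hne (comm_cj b.toBT hr (hAg z hz hz1) (by rw [one_mul, mul_one]) (hKr k0 hk0) h2 hzk
        (by rw [cj_one]; exact hv0) hw0)
    rcases hEk k0 hk0 y (hAE hy) with h | h
    · exact hfin y hy y1 h
    rcases hEk k0 hk0 y' (hAE hy') with h' | h'
    · exact hfin y' hy' y1' h'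
    refine hfin (y * y') (mul_mem hy hy') y1'' ?_
    -- `(r y)(r y') = y y'`
    have hry : r * y = y * r := mem_centralizer_iff.1 (b.CenX_le_cen (hAX hy)) r (b.R_le i hri)
    have e1 : r * y * (r * y') = y * y' := by
      calc r * y * (r * y') = (r * y) * r * y' := by group
        _ = y * (r * r) * y' := by rw [hry]; group
        _ = y * y' := by rw [hrr, mul_one]
    rw [← e1]
    exact mul_mem h h'

end Cfsg.Agent.Omega.HT.LemEA
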