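import Cfsg.Agent.Omega.HT.Basic
import Cfsg.Agent.Omega.HT.LemE

/-!
# II.0h1, `q = 2`, over a 2-group `T`: the situation `HTT` from three involutions (helper971)

`ρ : Fin 3 → G`, `Ln ρ` : `{1, ρ 0, ρ 1, ρ 2}` is a four-group; `V = LV ρ`, `R i = ⟨ρ i⟩` (`pt ρ i`).

* `Ln.bt` : `BT (LV ρ) (pt ρ)` from `V ≤ O₂(C(ρ i))`, `[O₂(C(ρ i)), V] ≤ ⟨ρ i⟩` and one noncommuting pair;
* `XX_le` : `X ≤ ⟨O₂(C(ρ i))⟩`;
* `Ln.htt` : `HTT T (T ⊔ X) (LV ρ) (pt ρ) o`.
-/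

set_option autoImplicit false
set_option linter.unusedSectionVars false

namespace Cfsg.Agent.Omega.HT.Line

open Subgroup Cfsg Cfsg.Agent.ZN Cfsg.Agent.MinSimple.VModule Cfsg.Agent.Omega.BTwo

universe u

variable {G : Type u} [Group G]

/-- `{1, ρ 0, ρ 1, ρ 2}` is a four-group -/
structure Ln (ρ : Fin 3 → G) : Prop where
  ne : ∀ i, ρ i ≠ 1
  sq : ∀ i, ρ i * ρ i = 1
  prod : ρ 0 * ρ 1 = ρ 2
  prod' : ρ 1 * ρ 0 = ρ 2

/-- the four-group -/
def LV (ρ : Fin 3 → G) : Subgroup G := zpowers (ρ 0) ⊔ zpowers (ρ 1)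

/-- the points -/
def pt (ρ : Fin 3 → G) (i : Fin 3) : Subgroup G := zpowers (ρ i)

theorem mem_zp {z x : G} (hz : z * z = 1) : x ∈ zpowers z ↔ x = 1 ∨ x = z := by
  constructor
  · rintro ⟨k, rfl⟩
    change z ^ k = 1 ∨ z ^ k = z
    rcases Int.even_or_odd' k with ⟨m, rfl | rfl⟩
    · left
      rw [zpow_mul, zpow_ofNat, pow_two, hz, one_zpow]
    · right
      rw [zpow_add, zpow_mul, zpow_ofNat, pow_two, hz, one_zpow, one_mul, zpow_one]
  · rintro (rfl | rfl)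
    · exact one_mem _
    · exact mem_zpowers _

variable {ρ : Fin 3 → G}

theorem Ln.mul (h : Ln ρ) : ∀ i j k : Fin 3, i ≠ j → i ≠ k → j ≠ k → ρ i * ρ j = ρ k := by
  have h02 : ρ 0 * ρ 2 = ρ 1 := by rw [← h.prod, ← mul_assoc, h.sq, one_mul]
  have h20 : ρ 2 * ρ 0 = ρ 1 := by rw [← h.prod', mul_assoc, h.sq, mul_one]
  have h12 : ρ 1 * ρ 2 = ρ 0 := by rw [← h.prod', ← mul_assoc, h.sq, one_mul]
  have h21 : ρ 2 * ρ 1 = ρ 0 := by rw [← h.prod, mul_assoc, h.sq, mul_one]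
  have key : ∀ i j k : Fin 3, i ≠ j → i ≠ k → j ≠ k →
      (i = 0 ∧ j = 1 ∧ k = 2) ∨ (i = 1 ∧ j = 0 ∧ k = 2) ∨ (i = 0 ∧ j = 2 ∧ k = 1) ∨
        (i = 2 ∧ j = 0 ∧ k = 1) ∨ (i = 1 ∧ j = 2 ∧ k = 0) ∨ (i = 2 ∧ j = 1 ∧ k = 0) := by decide
  intro i j k hij hik hjk
  rcases key i j k hij hik hjk with ⟨rfl, rfl, rfl⟩ | ⟨rfl, rfl, rfl⟩ | ⟨rfl, rfl, rfl⟩ |
    ⟨rfl, rfl, rfl⟩ | ⟨rfl, rfl, rfl⟩ | ⟨rfl, rfl, rfl⟩
  · exact h.prod
  · exact h.prod'
  · exact h02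
  · exact h20
  · exact h12
  · exact h21

theorem exists_third : ∀ i j : Fin 3, ∃ k, k ≠ i ∧ k ≠ j := by decide

theorem Ln.inj (h : Ln ρ) {i j : Fin 3} (hij : i ≠ j) : ρ i ≠ ρ j := by
  intro e
  obtain ⟨k, hki, hkj⟩ := exists_third i j
  have h1 := h.mul i j k hij (Ne.symm hki) (Ne.symm hkj)
  rw [e, h.sq] at h1
  exact h.ne k h1.symm

theorem Ln.comm (h : Ln ρ) (i j : Fin 3) : ρ i * ρ j = ρ j * ρ i := by
  by_cases hij : i = j
  · rw [hij]
  obtain ⟨k, hki, hkj⟩ := exists_third i j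
  rw [h.mul i j k hij (Ne.symm hki) (Ne.symm hkj), h.mul j i k (Ne.symm hij) (Ne.symm hkj) (Ne.symm hki)]

theorem Ln.mem (h : Ln ρ) {x : G} : x ∈ LV ρ ↔ x = 1 ∨ ∃ i, x = ρ i := by
  constructor
  · intro hx
    have hc : zpowers (ρ 1) ≤ normalizer (zpowers (ρ 0) : Set G) := by
      refine le_trans ?_ (centralizer_le_normalizer _)
      rw [zpowers_le, mem_centralizer_iff]
      intro y hy
      rcases (mem_zp (h.sq 0)).1 hy with rfl | rfl
      · rw [one_mul, mul_one]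
      · exact h.comm 0 1
    rw [LV, ← SetLike.mem_coe, coe_mul_of_right_le_normalizer_left _ _ hc] at hx
    obtain ⟨a, ha, b, hb, rfl⟩ := hx
    rcases (mem_zp (h.sq 0)).1 ha with rfl | rfl
    · rcases (mem_zp (h.sq 1)).1 hb with rfl | rfl
      · left; exact mul_one 1
      · right; exact ⟨1, one_mul _⟩
    · rcases (mem_zp (h.sq 1)).1 hb with rfl | rfl
      · right; exact ⟨0, mul_one _⟩
      · right; exact ⟨2, h.prod⟩
  · have h0 : ρ 0 ∈ LV ρ := (le_sup_left : zpowers (ρ 0) ≤ LV ρ) (mem_zpowers _)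
    have h1 : ρ 1 ∈ LV ρ := (le_sup_right : zpowers (ρ 1) ≤ LV ρ) (mem_zpowers _)
    rintro (rfl | ⟨i, rfl⟩)
    · exact one_mem _
    · have key : ∀ i : Fin 3, i = 0 ∨ i = 1 ∨ i = 2 := by decide
      rcases key i with rfl | rfl | rfl
      · exact h0
      · exact h1
      · rw [← h.prod]; exact mul_mem h0 h1

theorem Ln.rho_mem (h : Ln ρ) (i : Fin 3) : ρ i ∈ LV ρ := h.mem.2 (Or.inr ⟨i, rfl⟩)

theorem Ln.mem_pt (h : Ln ρ) {i : Fin 3} {x : G} : x ∈ pt ρ i ↔ x = 1 ∨ x = ρ i := mem_zp (h.sq i)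

theorem Ln.normalizer_pt (h : Ln ρ) (i : Fin 3) :
    normalizer (pt ρ i : Set G) = centralizer ({ρ i} : Set G) :=
  MinSimple.Basic.normalizer_zpowers_eq (by rw [pow_two]; exact h.sq i)

theorem Ln.mem_N (h : Ln ρ) {i : Fin 3} {g : G} : g ∈ normalizer (pt ρ i : Set G) ↔ g * ρ i = ρ i * g := by
  rw [h.normalizer_pt, mem_centralizer_singleton_iff]

theorem cj_pt (g : G) (i : Fin 3) : cj g (pt ρ i) = zpowers (g * ρ i * g⁻¹) := by
  unfold pt cj
  rw [MonoidHom.map_zpowers]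
  rfl

theorem Ln.conj (h : Ln ρ) {g : G} (hg : g ∈ normalizer (LV ρ : Set G)) (i : Fin 3) :
    ∃ j, g * ρ i * g⁻¹ = ρ j := by
  have h1 := (mem_normalizer_iff.1 hg (ρ i)).1 (h.rho_mem i)
  rcases h.mem.1 h1 with h2 | h2
  · exfalso
    apply h.ne i
    rw [mul_inv_eq_one] at h2
    exact mul_left_cancel (h2.trans (mul_one g).symm)
  · exact h2

section bt

variable (h : Ln ρ) (hV : ∀ i j, ρ j ∈ o2 (centralizer ({ρ i} : Set G)))
  (hQ : ∀ i, ∀ g ∈ o2 (centralizer ({ρ i} : Set G)), ∀ j, g * ρ j * g⁻¹ = ρ j ∨ g * ρ j * g⁻¹ = ρ i * ρ j)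
  (hm : ∀ i, ∃ g, g * ρ i = ρ i * g ∧ ∃ j k, g * ρ j * g⁻¹ * ρ k ≠ ρ k * (g * ρ j * g⁻¹))
include h hV hQ hm

/-- `BT` from a line -/
theorem Ln.bt : BT (LV ρ) (pt ρ) where
  V_comm := by
    intro a ha b hb
    rcases h.mem.1 ha with rfl | ⟨i, rfl⟩
    · rw [one_mul, mul_one]
    · rcases h.mem.1 hb with rfl | ⟨j, rfl⟩
      · rw [one_mul, mul_one]
      · exact h.comm i j
  V_sq := by
    intro a ha
    rcases h.mem.1 ha with rfl | ⟨i, rfl⟩
    · exact mul_one 1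
    · exact h.sq i
  R_le := fun i => by
    intro x hx
    rcases h.mem_pt.1 hx with rfl | rfl
    · exact one_mem _
    · exact h.rho_mem i
  R_inf := fun i j hij => by
    rw [eq_bot_iff]
    rintro x ⟨hx, hx'⟩
    rcases h.mem_pt.1 hx with rfl | rfl
    · exact one_mem _
    · rcases h.mem_pt.1 hx' with e | e
      · exact absurd e (h.ne i)
      · exact absurd e (h.inj hij)
  R_sup := fun i j hij => by
    apply le_antisymm
    · refine sup_le ?_ ?_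
      · exact zpowers_le.2 (h.rho_mem i)
      · exact zpowers_le.2 (h.rho_mem j)
    · intro x hx
      have hi : ρ i ∈ pt ρ i ⊔ pt ρ j := (le_sup_left : pt ρ i ≤ _) (mem_zpowers _)
      have hj : ρ j ∈ pt ρ i ⊔ pt ρ j := (le_sup_right : pt ρ j ≤ _) (mem_zpowers _)
      rcases h.mem.1 hx with rfl | ⟨k, rfl⟩
      · exact one_mem _
      · by_cases hki : k = i
        · rw [hki]; exact hi
        by_cases hkj : k = j
        · rw [hkj]; exact hj
        rw [← h.mul i j k hij (Ne.symm hki) (Ne.symm hkj)]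
        exact mul_mem hi hj
  R_cov := by
    intro v hv
    rcases h.mem.1 hv with rfl | ⟨i, rfl⟩
    · exact ⟨0, one_mem _⟩
    · exact ⟨i, mem_zpowers _⟩
  R_ne := fun i hi => h.ne i (zpowers_eq_bot.1 hi)
  third := exists_third
  perm := by
    intro g hg i
    obtain ⟨j, hj⟩ := h.conj hg i
    refine ⟨j, ?_⟩
    rw [cj_pt, hj]
    rfl
  V_Q := by
    intro i x hx
    rw [QQ, h.normalizer_pt]
    rcases h.mem.1 hx with rfl | ⟨j, rfl⟩
    · exact one_mem _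
    · exact hV i j
  QV := by
    intro i g hg v hv
    rw [QQ, h.normalizer_pt] at hg
    rw [h.mem_pt]
    rcases h.mem.1 hv with rfl | ⟨j, rfl⟩
    · left; rw [mul_one, mul_inv_cancel, one_mul, inv_one]
    · rcases hQ i g hg j with e | e
      · left; rw [e, mul_inv_cancel]
      · right; rw [e, mul_inv_cancel_right]
  QR := by
    intro i g hg a ha
    rw [QQ, h.normalizer_pt] at hg
    rcases h.mem_pt.1 ha with rfl | rfl
    · rw [one_mul, mul_one]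
    · exact mem_centralizer_singleton_iff.1 (MinSimple.VModule.o2_le _ hg)
  mt := by
    intro i
    obtain ⟨g, hg, a, b, hne⟩ := hm i
    have hgC : g ∈ centralizer ({ρ i} : Set G) := mem_centralizer_singleton_iff.2 hg
    have hgn := MinSimple.VModule.le_normalizer_o2 (centralizer ({ρ i} : Set G)) hgC
    have hgn' := MinSimple.VModule.le_normalizer_o2 (centralizer ({ρ i} : Set G)) (inv_mem hgC)
    -- a 2-element of `O₂(C(ρ i))` not commuting with `ρ b` swaps the two other points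
    have key : ∀ w ∈ o2 (centralizer ({ρ i} : Set G)), (∃ c, w * ρ c ≠ ρ c * w) → ∀ j k, j ≠ i → k ≠ i →
        j ≠ k → w * ρ j * w⁻¹ = ρ k := by
      rintro w hw ⟨c, hc⟩ j k hj hk hjk
      have hwi : w * ρ i = ρ i * w := mem_centralizer_singleton_iff.1 (MinSimple.VModule.o2_le _ hw)
      rcases hQ i w hw j with e | e
      · exfalso
        apply hc
        have hwj : w * ρ j = ρ j * w := by rwa [mul_inv_eq_iff_eq_mul] at e
        by_cases hci : c = i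
        · rw [hci]; exact hwi
        by_cases hcj : c = j
        · rw [hcj]; exact hwj
        rw [← h.mul i j c (Ne.symm hj) (Ne.symm hci) (Ne.symm hcj)]
        calc w * (ρ i * ρ j) = (w * ρ i) * ρ j := by group
          _ = ρ i * (w * ρ j) := by rw [hwi]; group
          _ = ρ i * ρ j * w := by rw [hwj]; group
      · rw [e, h.mul i j k (Ne.symm hj) (Ne.symm hk) hjk]
    refine ⟨g, h.mem_N.2 hg, fun j k hj hk => ?_⟩
    by_cases hjk : j = k
    · subst hjk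
      refine ⟨⟨1, one_mem _, ?_⟩, ⟨1, one_mem _, ?_⟩⟩
      · rw [mul_one, mul_inv_cancel, cj_one]
      · rw [mul_one, inv_mul_cancel, cj_one]
    · refine ⟨⟨ρ a, h.rho_mem a, ?_⟩, ⟨ρ b, h.rho_mem b, ?_⟩⟩
      · rw [cj_pt, key (g * ρ a * g⁻¹) ((mem_normalizer_iff.1 hgn _).1 (hV i a)) ⟨b, hne⟩ j k hj hk hjk]
        rfl
      · have h1 : g⁻¹ * ρ b * g ∈ o2 (centralizer ({ρ i} : Set G)) := by
          have := (mem_normalizer_iff.1 hgn' (ρ b)).1 (hV i b)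
          rwa [inv_inv] at this
        rw [cj_pt, key _ h1 ⟨a, ?_⟩ j k hj hk hjk]
        · rfl
        · intro e
          apply hne
          calc g * ρ a * g⁻¹ * ρ b = g * (ρ a * (g⁻¹ * ρ b * g)) * g⁻¹ := by group
            _ = g * (g⁻¹ * ρ b * g * ρ a) * g⁻¹ := by rw [e]
            _ = ρ b * (g * ρ a * g⁻¹) := by group

end bt

/-- `X ≤ C(f)` if all `O₂(C(ρ i))` centralise `f` -/
theorem Ln.XX_le (h : Ln ρ) (hV : ∀ i j, ρ j ∈ o2 (centralizer ({ρ i} : Set G))) {H : Subgroup G}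
    (hH : ∀ i, o2 (centralizer ({ρ i} : Set G)) ≤ H) : XX (LV ρ) (pt ρ) ≤ H := by
  refine iSup_le fun i => iSup_le ?_
  rintro ⟨g, hg⟩
  refine le_trans ?_ (hH i)
  rw [h.normalizer_pt] at hg
  rintro _ ⟨v, hv, rfl⟩
  have h1 : v ∈ o2 (centralizer ({ρ i} : Set G)) := by
    rcases h.mem.1 hv with rfl | ⟨j, rfl⟩
    · exact one_mem _
    · exact hV i j
  exact (mem_normalizer_iff.1 (MinSimple.VModule.le_normalizer_o2 _ hg) v).1 h1

theorem Ln.card_pt [Finite G] (h : Ln ρ) (i : Fin 3) : Nat.card (pt ρ i) = 2 := by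
  rw [pt, Nat.card_zpowers, orderOf_eq_prime_iff]
  exact ⟨by rw [pow_two]; exact h.sq i, h.ne i⟩

/-- `HTT` from a line -/
theorem Ln.htt [Finite G] (h : Ln ρ) (hV : ∀ i j, ρ j ∈ o2 (centralizer ({ρ i} : Set G)))
    (hQ : ∀ i, ∀ g ∈ o2 (centralizer ({ρ i} : Set G)), ∀ j, g * ρ j * g⁻¹ = ρ j ∨ g * ρ j * g⁻¹ = ρ i * ρ j)
    (hm : ∀ i, ∃ g, g * ρ i = ρ i * g ∧ ∃ j k, g * ρ j * g⁻¹ * ρ k ≠ ρ k * (g * ρ j * g⁻¹))
    {T : Subgroup G} {o : Fin 3} (hG : IsCharacteristicTwoType G) (hT2 : IsPGroup 2 T)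
    (hTo : T ≤ centralizer ({ρ o} : Set G)) (hTodd : ¬ 2 ∣ T.relIndex (centralizer ({ρ o} : Set G)))
    (hTV : T ≤ normalizer (LV ρ : Set G))
    (hz : ∀ z ∈ zc T, ∃ v ∈ LV ρ, ∃ f, z = v * f ∧ (∀ t ∈ T, t * f = f * t) ∧ ∀ i,
      o2 (centralizer ({ρ i} : Set G)) ≤ centralizer ({f} : Set G))
    (hloc : ∀ M : Subgroup G, T ≤ M → XX (LV ρ) (pt ρ) ≤ M → o2 M ≠ ⊥ → M ⊓ centralizer (o2 M : Set G) ≤ o2 M →
      o2 M ≤ centralizer (LV ρ : Set G)) :
    HTT T (T ⊔ XX (LV ρ) (pt ρ)) (LV ρ) (pt ρ) o := by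
  have b : BT (LV ρ) (pt ρ) := h.bt hV hQ hm
  have hPV : T ⊔ XX (LV ρ) (pt ρ) ≤ normalizer (LV ρ : Set G) := sup_le hTV b.X_le_NV
  exact
    { toBT := b
      card_R := h.card_pt
      char2 := hG
      S_p := hT2
      S_odd := by rw [h.normalizer_pt]; exact hTodd
      S_V := hTV
      S_R := by rw [h.normalizer_pt]; exact hTo
      S_P := le_sup_left
      P_V := hPV
      P_trans := fun i => by
        obtain ⟨x, hx, e⟩ := b.trans_X_one o i
        exact ⟨x, (le_sup_right : XX (LV ρ) (pt ρ) ≤ _) hx, e⟩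
      P_Z := by
        intro x hx z hz'
        obtain ⟨v, hv, f, rfl, hfT, hfQ⟩ := hz z hz'
        have hxf : x * f = f * x := by
          have h1 : T ⊔ XX (LV ρ) (pt ρ) ≤ centralizer ({f} : Set G) := by
            refine sup_le (fun t ht => mem_centralizer_singleton_iff.2 (hfT t ht)) ?_
            exact h.XX_le hV hfQ
          exact mem_centralizer_singleton_iff.1 (h1 hx)
        have e : x * (v * f) * x⁻¹ * (v * f)⁻¹ = (x * v * x⁻¹) * v⁻¹ := by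
          calc x * (v * f) * x⁻¹ * (v * f)⁻¹ = x * v * (f * x⁻¹) * f⁻¹ * v⁻¹ := by group
            _ = x * v * (x⁻¹ * f) * f⁻¹ * v⁻¹ := by
              rw [show f * x⁻¹ = x⁻¹ * f by rw [eq_inv_mul_iff_mul_eq, ← mul_assoc, hxf, mul_inv_cancel_right]]
            _ = (x * v * x⁻¹) * v⁻¹ := by group
        rw [e]
        exact mul_mem ((mem_normalizer_iff.1 (hPV hx) v).1 hv) (inv_mem hv)
      loc := hloc }

end Cfsg.Agent.Omega.HT.Line
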