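import Cfsg.Agent.Omega.HT.Basic

/-!
# The structures `BT`, `HTT` for a four-group `{1, a, b, ab}`

* `Ln a b` : `a`, `b` are distinct commuting involutions; `ln h = {1, a, b, ab}`, `pts a b` : its three points;
* `Ln.bt` : the structure `BT (ln h) (pts a b)`;
* `Ln.htt` : the structure `HTT T (T ⊔ X) (ln h) (pts a b) 0`.
-/

set_option autoImplicit false

namespace Cfsg.Agent.Omega.HT.LineOf

open Subgroup Cfsg Cfsg.Agent.ZN Cfsg.Agent.Omega.BTwo Cfsg.Agent.Omega.HT

universe u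

variable {G : Type u} [Group G]

/-- the points of `{1, a, b, ab}` -/
def dd (a b : G) : Fin 3 → G := ![a, b, a * b]

/-- the subgroups of order 2 of `{1, a, b, ab}` -/
def pts (a b : G) (i : Fin 3) : Subgroup G := zpowers (dd a b i)

/-- `a`, `b` are distinct commuting involutions -/
structure Ln (a b : G) : Prop where
  aa : a * a = 1
  bb : b * b = 1
  comm : a * b = b * a
  a1 : a ≠ 1
  b1 : b ≠ 1
  ne : a ≠ b

theorem third_eq : ∀ {i j k l : Fin 3}, j ≠ i → k ≠ i → j ≠ k → l ≠ i → l ≠ j → l = k := by decide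

theorem three_cases : ∀ {i j' k' j k : Fin 3}, j' ≠ i → k' ≠ i → j' ≠ k' → j ≠ i → k ≠ i →
    (j = k) ∨ (j = j' ∧ k = k') ∨ (j = k' ∧ k = j') := by decide

theorem mem_zp {x : G} (hx : x * x = 1) {y : G} : y ∈ zpowers x ↔ y = 1 ∨ y = x := by
  constructor
  · rintro ⟨n, rfl⟩
    rcases Int.even_or_odd' n with ⟨m, rfl | rfl⟩
    · left; show x ^ (2 * m) = 1; rw [zpow_mul, zpow_two, hx, one_zpow]
    · right; show x ^ (2 * m + 1) = x; rw [zpow_add, zpow_mul, zpow_two, hx, one_zpow, one_mul, zpow_one]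
  · rintro (rfl | rfl)
    · exact one_mem _
    · exact mem_zpowers y

theorem card_zp {x : G} (hx : x * x = 1) (h1 : x ≠ 1) : Nat.card (zpowers x) = 2 := by
  rw [Nat.card_zpowers]
  exact orderOf_eq_prime (by rw [pow_two]; exact hx) h1

namespace Ln

variable {a b : G} (h : Ln a b)
include h

theorem ab1 : a * b ≠ 1 := fun e => h.ne (by
  calc a = a * b * b := by rw [mul_assoc, h.bb, mul_one]
    _ = b := by rw [e, one_mul])

theorem a_ab : a ≠ a * b := fun e => h.b1 (by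
  calc b = a * a * b := by rw [h.aa, one_mul]
    _ = a * (a * b) := by rw [mul_assoc]
    _ = 1 := by rw [← e, h.aa])

theorem b_ab : b ≠ a * b := fun e => h.a1 (by
  calc a = a * b * b := by rw [mul_assoc, h.bb, mul_one]
    _ = 1 := by rw [← e, h.bb])

theorem abab : a * b * (a * b) = 1 := by
  calc a * b * (a * b) = a * (b * a) * b := by group
    _ = (a * a) * (b * b) := by rw [← h.comm]; group
    _ = 1 := by rw [h.aa, h.bb, mul_one]

theorem dd_sq (i : Fin 3) : dd a b i * dd a b i = 1 := by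
  fin_cases i
  · exact h.aa
  · exact h.bb
  · exact h.abab

theorem dd_ne (i : Fin 3) : dd a b i ≠ 1 := by
  fin_cases i
  · exact h.a1
  · exact h.b1
  · exact h.ab1

theorem dd_inj {i j : Fin 3} (e : dd a b i = dd a b j) : i = j := by
  fin_cases i <;> fin_cases j
  · rfl
  · exact absurd e h.ne
  · exact absurd e h.a_ab
  · exact absurd e h.ne.symm
  · rfl
  · exact absurd e h.b_ab
  · exact absurd e h.a_ab.symm
  · exact absurd e h.b_ab.symm
  · rfl

theorem dd_comm (i j : Fin 3) : dd a b i * dd a b j = dd a b j * dd a b i := by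
  have h1 : a * (a * b) = a * b * a := by rw [h.comm, ← mul_assoc, h.comm]
  have h2 : b * (a * b) = a * b * b := by rw [← mul_assoc, ← h.comm]
  fin_cases i <;> fin_cases j
  · rfl
  · exact h.comm
  · exact h1
  · exact h.comm.symm
  · rfl
  · exact h2
  · exact h1.symm
  · exact h2.symm
  · rfl

/-- the product of two points is the third one -/
theorem dd_mul {i j k : Fin 3} (hij : i ≠ j) (hik : i ≠ k) (hjk : j ≠ k) : dd a b i * dd a b j = dd a b k := by
  have e1 : a * (a * b) = b := by rw [← mul_assoc, h.aa, one_mul]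
  have e2 : b * (a * b) = a := by rw [h.comm, ← mul_assoc, h.bb, one_mul]
  have e3 : a * b * a = b := by rw [h.comm, mul_assoc, h.aa, mul_one]
  have e4 : a * b * b = a := by rw [mul_assoc, h.bb, mul_one]
  fin_cases i <;> fin_cases j <;> fin_cases k <;>
    first
    | exact absurd rfl hij
    | exact absurd rfl hik
    | exact absurd rfl hjk
    | rfl
    | exact h.comm.symm
    | exact e1
    | exact e2
    | exact e3
    | exact e4

end Ln

/-- the group `{1, a, b, ab}` -/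
def ln {a b : G} (h : Ln a b) : Subgroup G where
  carrier := {x | x = 1 ∨ ∃ i, x = dd a b i}
  one_mem' := Or.inl rfl
  mul_mem' := by
    rintro x y (rfl | ⟨i, rfl⟩) hy
    · rwa [one_mul]
    · rcases hy with rfl | ⟨j, rfl⟩
      · rw [mul_one]; exact Or.inr ⟨i, rfl⟩
      · by_cases hij : i = j
        · subst hij; exact Or.inl (h.dd_sq i)
        · obtain ⟨k, hk1, hk2⟩ : ∃ k : Fin 3, i ≠ k ∧ j ≠ k := by
            revert i j; decide
          exact Or.inr ⟨k, h.dd_mul hij hk1 hk2⟩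
  inv_mem' := by
    rintro x (rfl | ⟨i, rfl⟩)
    · left; exact inv_one
    · right; exact ⟨i, inv_eq_of_mul_eq_one_left (h.dd_sq i)⟩

namespace Ln

variable {a b : G} (h : Ln a b)
include h

theorem mem_ln {x : G} : x ∈ ln h ↔ x = 1 ∨ ∃ i, x = dd a b i := Iff.rfl

theorem dd_mem (i : Fin 3) : dd a b i ∈ ln h := Or.inr ⟨i, rfl⟩

theorem mem_pts {i : Fin 3} {x : G} : x ∈ pts a b i ↔ x = 1 ∨ x = dd a b i := mem_zp (h.dd_sq i)

theorem pts_le (i : Fin 3) : pts a b i ≤ ln h := fun x hx => by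
  rcases h.mem_pts.1 hx with rfl | rfl
  · exact one_mem _
  · exact h.dd_mem i

theorem card_pts (i : Fin 3) : Nat.card (pts a b i) = 2 := card_zp (h.dd_sq i) (h.dd_ne i)

/-- `N(R i) = C(d i)` -/
theorem normalizer_pts (i : Fin 3) : normalizer (pts a b i : Set G) = centralizer ({dd a b i} : Set G) :=
  MinSimple.Basic.normalizer_zpowers_eq (by rw [pow_two]; exact h.dd_sq i)

theorem cj_pts {g : G} {i j : Fin 3} (e : g * dd a b i * g⁻¹ = dd a b j) : cj g (pts a b i) = pts a b j := by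
  ext x
  rw [mem_cj, h.mem_pts, h.mem_pts]
  constructor
  · rintro (hx | hx)
    · left
      calc x = g * (g⁻¹ * x * g) * g⁻¹ := by group
        _ = 1 := by rw [hx]; group
    · right
      calc x = g * (g⁻¹ * x * g) * g⁻¹ := by group
        _ = dd a b j := by rw [hx, e]
  · rintro (rfl | rfl)
    · left; group
    · right
      rw [← e]; group

variable (hV : ∀ i, ln h ≤ o2 (centralizer ({dd a b i} : Set G)))
  (hQ : ∀ i, ∀ g ∈ o2 (centralizer ({dd a b i} : Set G)), ∀ j, g * dd a b j * g⁻¹ * (dd a b j)⁻¹ ∈ pts a b i)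
  (hm : ∀ i, ∃ t ∈ centralizer ({dd a b i} : Set G), ∃ j k,
    t * dd a b j * t⁻¹ * dd a b k ≠ dd a b k * (t * dd a b j * t⁻¹))

include hV hQ hm in
/-- the swap -/
theorem swap {i j k : Fin 3} (hji : j ≠ i) (hki : k ≠ i) (hjk : j ≠ k) : ∃ t ∈ centralizer ({dd a b i} : Set G),
    (∃ v ∈ ln h, (t * v * t⁻¹) * dd a b j * (t * v * t⁻¹)⁻¹ = dd a b k) ∧
    ∃ v ∈ ln h, (t⁻¹ * v * t) * dd a b j * (t⁻¹ * v * t)⁻¹ = dd a b k := by
  obtain ⟨t, ht, p, q, hpq⟩ := hm i
  -- a noncommuting element of `Q` swaps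
  have key : ∀ g ∈ o2 (centralizer ({dd a b i} : Set G)), ∀ l : Fin 3, g * dd a b l ≠ dd a b l * g →
      g * dd a b j * g⁻¹ = dd a b k := by
    intro g hg l hl
    have hgi : g * dd a b i = dd a b i * g := mem_centralizer_singleton_iff.1 (O2_le _ hg)
    have hli : l ≠ i := by rintro rfl; exact hl hgi
    have hgl : g * dd a b l * g⁻¹ = dd a b i * dd a b l := by
      rcases (h.mem_pts).1 (hQ i g hg l) with e | e
      · exact absurd (by rw [mul_inv_eq_one, mul_inv_eq_iff_eq_mul] at e; exact e) hl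
      · rw [mul_inv_eq_iff_eq_mul] at e; exact e
    by_cases hlj : l = j
    · subst hlj
      rw [hgl]; exact h.dd_mul hji.symm hki.symm hjk
    · have hlk : l = k := third_eq hji hki hjk hli hlj
      have e1 : dd a b j = dd a b i * dd a b l := (h.dd_mul hli.symm hji.symm (by rw [hlk]; exact hjk.symm)).symm
      have e2 : g * dd a b j * g⁻¹ = dd a b i * (dd a b i * dd a b l) := by
        rw [e1]
        calc g * (dd a b i * dd a b l) * g⁻¹ = (g * dd a b i) * dd a b l * g⁻¹ := by group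
          _ = dd a b i * (g * dd a b l * g⁻¹) := by rw [hgi]; group
          _ = _ := by rw [hgl]
      rw [e2, ← mul_assoc, h.dd_sq, one_mul, hlk]
  have hnt : ∀ {g : G}, g ∈ centralizer ({dd a b i} : Set G) → ∀ v ∈ ln h,
      g * v * g⁻¹ ∈ o2 (centralizer ({dd a b i} : Set G)) := fun {g} hg v hv =>
    BTwo.conj_mem_of_normalizer (le_normalizer_O2 _ hg) (hV i hv)
  refine ⟨t, ht, ⟨dd a b p, h.dd_mem p, key _ (hnt ht _ (h.dd_mem p)) q hpq⟩, ⟨dd a b q, h.dd_mem q, ?_⟩⟩
  have h1 := key _ (hnt (inv_mem ht) _ (h.dd_mem q)) p (fun e => hpq ?_)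
  · rwa [inv_inv] at h1
  · rw [inv_inv] at e
    calc t * dd a b p * t⁻¹ * dd a b q = t * (dd a b p * (t⁻¹ * dd a b q * t)) * t⁻¹ := by group
      _ = t * (t⁻¹ * dd a b q * t * dd a b p) * t⁻¹ := by rw [e]
      _ = dd a b q * (t * dd a b p * t⁻¹) := by group

include hV hQ hm in
/-- the structure `BT` -/
theorem bt : BT (ln h) (pts a b) where
  V_comm := by
    rintro x (rfl | ⟨i, rfl⟩) y (rfl | ⟨j, rfl⟩)
    · rfl
    · rw [one_mul, mul_one]
    · rw [one_mul, mul_one]
    · exact h.dd_comm i j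
  V_sq := by
    rintro x (rfl | ⟨i, rfl⟩)
    · exact mul_one 1
    · exact h.dd_sq i
  R_le := h.pts_le
  R_inf := by
    intro i j hij
    rw [eq_bot_iff]
    rintro x ⟨h1, h2⟩
    rcases h.mem_pts.1 h1 with rfl | rfl
    · exact one_mem _
    · rcases h.mem_pts.1 h2 with e | e
      · exact absurd e (h.dd_ne i)
      · exact absurd (h.dd_inj e) hij
  R_sup := by
    intro i j hij
    refine le_antisymm (sup_le (h.pts_le i) (h.pts_le j)) ?_
    rintro x (rfl | ⟨k, rfl⟩)
    · exact one_mem _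
    · by_cases hki : i = k
      · subst hki; exact mem_sup_left (mem_zpowers _)
      by_cases hkj : j = k
      · subst hkj; exact mem_sup_right (mem_zpowers _)
      rw [← h.dd_mul hij hki hkj]
      exact mul_mem (mem_sup_left (mem_zpowers _)) (mem_sup_right (mem_zpowers _))
  R_cov := by
    rintro x (rfl | ⟨i, rfl⟩)
    · exact ⟨0, one_mem _⟩
    · exact ⟨i, mem_zpowers _⟩
  R_ne := fun i e => h.dd_ne i (zpowers_eq_bot.1 e)
  third := by decide
  perm := by
    intro g hg i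
    have h1 : g * dd a b i * g⁻¹ ∈ ln h := BTwo.conj_mem_of_normalizer hg (h.dd_mem i)
    rcases h1 with e | ⟨j, e⟩
    · exact absurd (conj_eq_one_iff.1 e) (h.dd_ne i)
    · exact ⟨j, h.cj_pts e⟩
  V_Q := fun i => by
    show ln h ≤ O2 (normalizer (pts a b i : Set G))
    rw [h.normalizer_pts i]
    exact hV i
  QV := by
    intro i g hg v hv
    change g ∈ O2 (normalizer (pts a b i : Set G)) at hg
    rw [h.normalizer_pts i] at hg
    rcases hv with rfl | ⟨j, rfl⟩
    · have e : g * 1 * g⁻¹ * 1⁻¹ = 1 := by group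
      rw [e]; exact one_mem _
    · exact hQ i g hg j
  QR := by
    intro i g hg x hx
    change g ∈ O2 (normalizer (pts a b i : Set G)) at hg
    rw [h.normalizer_pts i] at hg
    rcases h.mem_pts.1 hx with rfl | rfl
    · rw [one_mul, mul_one]
    · exact mem_centralizer_singleton_iff.1 (O2_le _ hg)
  mt := by
    intro i
    obtain ⟨j', k', h1, h2, h3⟩ : ∃ j k : Fin 3, j ≠ i ∧ k ≠ i ∧ j ≠ k := by revert i; decide
    obtain ⟨t, ht, ⟨v, hv, e⟩, ⟨w, hw, f⟩⟩ := h.swap hV hQ hm h1 h2 h3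
    have e' : (t * v * t⁻¹) * dd a b k' * (t * v * t⁻¹)⁻¹ = dd a b j' := by
      have hvv : v * v = 1 := by
        rcases hv with rfl | ⟨l, rfl⟩
        · exact mul_one 1
        · exact h.dd_sq l
      have e2 : (t * v * t⁻¹) * (t * v * t⁻¹) = 1 := by
        calc (t * v * t⁻¹) * (t * v * t⁻¹) = t * (v * v) * t⁻¹ := by group
          _ = 1 := by rw [hvv]; group
      have e3 : (t * v * t⁻¹)⁻¹ = t * v * t⁻¹ := inv_eq_of_mul_eq_one_left e2
      rw [e3] at e
      rw [← e, e3]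
      calc t * v * t⁻¹ * (t * v * t⁻¹ * dd a b j' * (t * v * t⁻¹)) * (t * v * t⁻¹)
          = (t * v * t⁻¹ * (t * v * t⁻¹)) * dd a b j' * (t * v * t⁻¹ * (t * v * t⁻¹)) := by group
        _ = dd a b j' := by rw [e2]; group
    have f' : (t⁻¹ * w * t) * dd a b k' * (t⁻¹ * w * t)⁻¹ = dd a b j' := by
      have hvv : w * w = 1 := by
        rcases hw with rfl | ⟨l, rfl⟩
        · exact mul_one 1
        · exact h.dd_sq l
      have e2 : (t⁻¹ * w * t) * (t⁻¹ * w * t) = 1 := by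
        calc (t⁻¹ * w * t) * (t⁻¹ * w * t) = t⁻¹ * (w * w) * t := by group
          _ = 1 := by rw [hvv]; group
      have e3 : (t⁻¹ * w * t)⁻¹ = t⁻¹ * w * t := inv_eq_of_mul_eq_one_left e2
      rw [e3] at f
      rw [← f, e3]
      calc t⁻¹ * w * t * (t⁻¹ * w * t * dd a b j' * (t⁻¹ * w * t)) * (t⁻¹ * w * t)
          = (t⁻¹ * w * t * (t⁻¹ * w * t)) * dd a b j' * (t⁻¹ * w * t * (t⁻¹ * w * t)) := by group
        _ = dd a b j' := by rw [e2]; group
    refine ⟨t, by rw [h.normalizer_pts i]; exact ht, ?_⟩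
    intro j k hj hk
    have hcase := three_cases h1 h2 h3 hj hk
    have one1 : cj (t * 1 * t⁻¹) (pts a b j) = pts a b j := by
      rw [mul_one, mul_inv_cancel, cj_one]
    have one2 : cj (t⁻¹ * 1 * t) (pts a b j) = pts a b j := by
      rw [mul_one, inv_mul_cancel, cj_one]
    rcases hcase with rfl | ⟨rfl, rfl⟩ | ⟨rfl, rfl⟩
    · exact ⟨⟨1, one_mem _, one1⟩, ⟨1, one_mem _, one2⟩⟩
    · exact ⟨⟨v, hv, h.cj_pts e⟩, ⟨w, hw, h.cj_pts f⟩⟩
    · exact ⟨⟨v, hv, h.cj_pts e'⟩, ⟨w, hw, h.cj_pts f'⟩⟩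

/-- the structure `HTT` over `T`, from `BT` -/
theorem htt (b' : BT (ln h) (pts a b)) (hG : IsCharacteristicTwoType G) {T : Subgroup G} (hT : IsPGroup 2 T)
    (hodd : ¬ 2 ∣ T.relIndex (centralizer ({a} : Set G))) (hTa : T ≤ centralizer ({a} : Set G))
    (hTV : T ≤ normalizer (ln h : Set G))
    (hdec : ∀ z ∈ zc T, ∃ v ∈ ln h, ∃ c, (∀ x ∈ XX (ln h) (pts a b), x * c = c * x) ∧
      (∀ t ∈ T, t * c = c * t) ∧ z = v * c)
    (loc : ∀ M : Subgroup G, T ≤ M → XX (ln h) (pts a b) ≤ M → o2 M ≠ ⊥ →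
      M ⊓ centralizer (o2 M : Set G) ≤ o2 M → o2 M ≤ centralizer (ln h : Set G)) :
    HTT T (T ⊔ XX (ln h) (pts a b)) (ln h) (pts a b) 0 where
  toBT := b'
  card_R := h.card_pts
  char2 := hG
  S_p := hT
  S_odd := by rw [h.normalizer_pts 0]; exact hodd
  S_V := hTV
  S_R := by rw [h.normalizer_pts 0]; exact hTa
  S_P := le_sup_left
  P_V := sup_le hTV b'.X_le_NV
  P_trans := fun k => by
    obtain ⟨x, hx, e⟩ := b'.trans_X_one 0 k
    exact ⟨x, mem_sup_right hx, e⟩
  P_Z := by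
    intro x hx z hz
    obtain ⟨u, hu, e, hxe, hte, rfl⟩ := hdec z hz
    have hPe : T ⊔ XX (ln h) (pts a b) ≤ centralizer ({e} : Set G) :=
      sup_le (fun t ht => mem_centralizer_singleton_iff.2 (hte t ht))
        fun t ht => mem_centralizer_singleton_iff.2 (hxe t ht)
    have h1 : x * e = e * x := mem_centralizer_singleton_iff.1 (hPe hx)
    have hxN : x ∈ normalizer (ln h : Set G) :=
      (sup_le hTV b'.X_le_NV : T ⊔ XX (ln h) (pts a b) ≤ _) hx
    have e2 : x * (u * e) * x⁻¹ * (u * e)⁻¹ = x * u * x⁻¹ * u⁻¹ := by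
      calc x * (u * e) * x⁻¹ * (u * e)⁻¹ = x * u * (e * x⁻¹) * e⁻¹ * u⁻¹ := by group
        _ = x * u * (x⁻¹ * (x * e) * x⁻¹) * e⁻¹ * u⁻¹ := by group
        _ = x * u * (x⁻¹ * (e * x) * x⁻¹) * e⁻¹ * u⁻¹ := by rw [h1]
        _ = x * u * x⁻¹ * u⁻¹ := by group
    rw [e2]
    exact mul_mem (BTwo.conj_mem_of_normalizer hxN hu) (inv_mem hu)
  loc := loc

end Ln

end Cfsg.Agent.Omega.HT.LineOf
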