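import Cfsg.Agent.Omega.HT.Sig
import Cfsg.Agent.Omega.HT.JunC
import Cfsg.Agent.Omega.HT.ThmZ
import Cfsg.Agent.Omega.HOneTwo.TwoPartC

/-!
# II.0h1, `q = 2`, over a 2-group `S` of odd index in `N(R o)`: the end

`Z₀ = C_{Ω₁Z(S)}(P)`, `M₀ = ⟨C(Ω₁Z(S)), X⟩`, `M_z = ⟨C(r) ∩ C(z), X⟩`, `U_z = ⟨r^{M_z}⟩`.

* `eq_of_ts` : TS(z) implies `Z₀ = {1, z}` (THEOREM Z', #17321, helper766);
* `main` : `|Z₀| ≤ 2`, if `2 ∤ |M₀ : S|` and for every `c ∈ Z₀` with `Sig V R o c` there is `z ∈ Z₀#`, `z = c` or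
  `c = 1`, with `O₂(M_z / C(U_z)) = 1` and `¬ U_z ≤ Q o`.
-/

set_option autoImplicit false
set_option linter.unusedSectionVars false

namespace Cfsg.Agent.Omega.HT.Main

open Subgroup Cfsg Cfsg.Agent.ZN Cfsg.Agent.Omega.BTwo Cfsg.Agent.Omega.HT Cfsg.Agent.Omega.HT.EntryTv
open Cfsg.Agent.Omega.HT.EntryTs
open Cfsg.Agent.Omega.HTwo.Hat Cfsg.Agent.Omega.HTwo.ThmA Cfsg.Agent.Omega.MinPar
open Cfsg.Agent.Omega.HOne.TvDef
open Cfsg.Agent.Omega.HTwo.EntryTv (QF NF ME QF_conj NF_conj NF_base NF_gen cen_zpowers ME_z)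
open Cfsg.Agent.Omega.HTwo.AlphaP (MP)
open Cfsg.Agent.Omega.HOneTwo

universe u

variable {G : Type u} [Group G] [Finite G] {ι : Type*} {S P V : Subgroup G}
  {R : ι → Subgroup G} {o : ι}

/-- `O₂(M / C_M(U)) = 1` for `M = ME V R o ⟨z⟩ = ⟨C(r) ∩ C(z), X⟩`, `U = ⟨r^M⟩` -/
def Core (V : Subgroup G) (R : ι → Subgroup G) (o : ι) (r z : G) : Prop :=
  ∀ B : Subgroup G, B ≤ ME V R o (zpowers z) → (∀ m ∈ ME V R o (zpowers z), ∀ b ∈ B, m * b * m⁻¹ ∈ B) →
    (∀ b ∈ B, ∀ u ∈ UU (ME V R o (zpowers z)) r, b * b * u = u * (b * b)) →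
    ∀ b ∈ B, ∀ u ∈ UU (ME V R o (zpowers z)) r, b * u = u * b

section plug

variable (b : HTT S P V R o) (hLE : ∀ i, LE V R i) {r z : G} (hr : ∀ x, x ∈ R o ↔ x = 1 ∨ x = r) (hr1 : r ≠ 1)
include b

/-- `⟨r^{C(f)}⟩` is abelian for `f ∈ Z₀#` -/
theorem gen_comm {f : G} (hf : f ∈ zc S ⊓ centralizer (P : Set G)) (hf1 : f ≠ 1) (hr : r ∈ R o) {x y : G}
    (hx : x ∈ Trans.gen f r) (hy : y ∈ Trans.gen f r) : x * y = y * x := by
  have hle : Trans.gen f r ≤ UM V (centralizer ({f} : Set G)) := by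
    unfold Trans.gen
    rw [closure_le]
    rintro _ ⟨m, hm, rfl⟩
    exact cj_le_cl (mem_centralizer_singleton_iff.2 hm) (conj_mem_cj (b.R_le o hr))
  exact (b.dt hf hf1).U_comm (hle hx) (hle hy)

/-- `O₂(C_M(U))`-argument: a 2-subgroup of `Q p ∩ C(U)`, `p ∈ r^M`, lies in `S` -/
theorem mem_S_of {M : Subgroup G} (hSM : S ≤ M) (hr : ∀ x, x ∈ R o ↔ x = 1 ∨ x = r)
    (hMU : ∀ m ∈ M, ∀ u ∈ UU M r, m * u * m⁻¹ ∈ UU M r) {p y : G} (hp : p ∈ Om M r) (hyp : y ∈ QF p)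
    (hyM : y ∈ M) (hyU : ∀ u ∈ UU M r, y * u = u * y) : y ∈ S := by
  -- `C = C_M(U)`
  obtain ⟨C, hC⟩ : ∃ C, C = M ⊓ centralizer (UU M r : Set G) := ⟨_, rfl⟩
  have hMN : M ≤ normalizer (UU M r : Set G) := by
    intro m hm
    exact BTwo.mem_normalizer_of_conj fun u hu => hMU m hm u hu
  have hMC : M ≤ normalizer (C : Set G) := by
    intro m hm
    rw [hC, ← cj_eq_self_iff, cj_inf, cj_of_mem hm,
      cj_eq_self_iff.2 (normalizer_le_normalizer_centralizer _ (hMN hm))]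
  have hpU : p ∈ UU M r := Om_le_UU hp
  have hrU : r ∈ UU M r := Om_le_UU Om_base
  have hCp : C ≤ centralizer ({p} : Set G) := by
    rw [hC]
    intro x hx
    exact mem_centralizer_singleton_iff.2 (mem_centralizer_iff.1 hx.2 p hpU).symm
  have hCr : C ≤ normalizer (R o : Set G) := by
    rw [normalizer_eq b hr, hC]
    intro x hx
    exact mem_centralizer_singleton_iff.2 (mem_centralizer_iff.1 hx.2 r hrU).symm
  -- `B = Q p ∩ C ≤ O₂(C)`
  have hQp : IsPGroup 2 (QF p) := O2_isPGroup _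
  have hB : QF p ⊓ C ≤ o2 C := by
    refine MinSimple.VModule.le_o2 inf_le_right (hQp.to_le inf_le_left) ?_
    intro c hc
    rw [← cj_eq_self_iff, cj_inf, cj_of_mem hc]
    congr 1
    exact cj_eq_self_iff.2 (le_normalizer_O2 (centralizer ({p} : Set G)) (hCp hc))
  have hO : o2 C ≤ S := by
    refine le_S_of_norm b (MinSimple.VModule.o2_isPGroup C) ((MinSimple.VModule.o2_le C).trans hCr) ?_
    exact (hSM.trans hMC).trans (normalizer_le_normalizer_o2 C)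
  refine hO (hB ⟨hyp, ?_⟩)
  rw [hC]
  exact mem_inf.2 ⟨hyM, mem_centralizer_iff.2 fun u hu => (hyU u hu).symm⟩

variable (hz : z ∈ zc S ⊓ centralizer (P : Set G)) (hz1 : z ≠ 1)

include hLE hr hr1 hz hz1 in
/-- **THEOREM Z'** : TS(z) implies `Z₀ = {1, z}` -/
theorem eq_of_ts {j : ι} (hj : j ≠ o) {t : G} (ht : ∀ x, x ∈ R j ↔ x = 1 ∨ x = t) (ht1 : t ≠ 1)
    (hα : ¬ UM V (MP V R o z) ≤ QQ (R o))
    (hpar : ∀ x y, Adj (ME V R o (zpowers z)) r t r x → Adj (ME V R o (zpowers z)) r t r y →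
      x * y ∈ ZC QF r → y = x ∨ y = r * x) (ho2 : Core V R o r z) {x : G}
    (hx : x ∈ zc S ⊓ centralizer (P : Set G)) : x = 1 ∨ x = z := by
  obtain ⟨D, hD⟩ : ∃ D, D = tsOf hj ht ht1 b hLE hr hr1 hz hz1 hα hpar ho2 := ⟨_, rfl⟩
  have er : D.r 0 = r := by rw [hD]; rfl
  have eM : D.M = ME V R o (zpowers z) := by rw [hD]; rfl
  have ez : D.z = z := by rw [hD]; rfl
  have eQ : D.Q = QF := by rw [hD]; rfl
  have eC : D.C = ZC QF r ⊓ ZC QF t := by rw [hD]; rfl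
  have eU : D.U = UU (ME V R o (zpowers z)) r := by
    show Trans.gn D.M (D.r 0) = _
    rw [eM, er]; exact Trans.gn_eq_UU _ _
  have eΔ : D.Δ = Om (ME V R o (zpowers z)) r := by
    show Trans.Dl D.M (D.r 0) = _
    rw [eM, er]; exact Trans.Dl_eq_Om _ _
  have hE : zpowers z ≤ zc S ⊓ centralizer (P : Set G) := zpowers_le_cz hz
  have hE1 : zpowers z ≠ ⊥ := fun h => hz1 (zpowers_eq_bot.1 h)
  have hrR : r ∈ R o := (hr r).2 (Or.inr rfl)
  have hSM : S ≤ ME V R o (zpowers z) := S_le_ME b hE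
  have hMU : ∀ m ∈ ME V R o (zpowers z), ∀ u ∈ UU (ME V R o (zpowers z)) r,
      m * u * m⁻¹ ∈ UU (ME V R o (zpowers z)) r := fun m hm u hu => M_norm_UU b hr hr1 hE hm hu
  have hxS : ∀ s ∈ S, x * s = s * x := fun s hs => ((mem_zc.1 hx.1).2.1 s hs).symm
  -- `U ≤ S`
  have hUS : UU (ME V R o (zpowers z)) r ≤ S := by
    refine le_S_of_norm b (UU_pgroup b hr hr1 hE hE1) ?_ ?_
    · rw [normalizer_eq b hr]
      intro u hu
      exact mem_centralizer_singleton_iff.2 (UU_comm b hr hr1 hE hE1 hu (Om_le_UU Om_base))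
    · intro s hs
      exact BTwo.mem_normalizer_of_conj fun u hu => hMU s (hSM hs) u hu
  have hQr : D.Q (D.r 0) = O2 (centralizer ({D.r 0} : Set G)) := by rw [eQ, er]; rfl
  have h1 := HT.ThmZ.thmZ D ?_ ?_ (c := x) ?_ ?_ ?_ ?_
  · rwa [ez] at h1
  · -- `O₂(H₁ / C(N₁)) = 1`
    intro B hBA hBn hsq y hy u hu
    have hBA' : B ≤ normalizer (R o : Set G) := by
      rw [normalizer_eq b hr, ← er]; exact hBA
    have eN : NF r (zpowers z) r = Trans.gen (D.r 0) D.z := by rw [er, ez]; exact NF_gen r z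
    have h2 : B ≤ centralizer (NF r (zpowers z) r : Set G) := by
      refine hred b hr hr1 hE B hBA' ?_ ?_
      · intro g hg
        refine BTwo.mem_normalizer_of_conj fun w hw => hBn g ?_ w hw
        show g ∈ centralizer ({D.r 0} : Set G)
        rw [er, ← normalizer_eq b hr]; exact hg
      · intro w hw
        refine ⟨1, ?_⟩
        rw [pow_one, pow_two, mem_centralizer_iff, eN]
        exact fun u hu => (hsq w hw u hu).symm
    have h3 := mem_centralizer_iff.1 (h2 hy) u (by rw [eN]; exact hu)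
    exact h3.symm
  · -- Baer-Suzuki
    intro u hu huQ
    by_contra hcon
    push Not at hcon
    apply huQ
    rw [hQr]
    have hur : u ∈ centralizer ({D.r 0} : Set G) := mem_centralizer_singleton_iff.2 (D.U_r hu)
    have : Fact (Nat.Prime 2) := ⟨Nat.prime_two⟩
    refine ⟨⟨u, hur⟩, Involutions.BaerSuzuki.mem_pCore_of_conj_pairs _ fun g => ?_, rfl⟩
    have huu := D.mul_self hu
    refine Trans.isPGroup_pair (Subtype.ext huu) (Subtype.ext ?_) (Subtype.ext ?_)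
    · show (g : G) * u * (g : G)⁻¹ * ((g : G) * u * (g : G)⁻¹) = 1
      calc (g : G) * u * (g : G)⁻¹ * ((g : G) * u * (g : G)⁻¹) = g * (u * u) * (g : G)⁻¹ := by group
        _ = 1 := by rw [huu]; group
    · exact hcon g (mem_centralizer_singleton_iff.1 g.2)
  · -- `x ∈ C`
    rw [eC]
    exact ⟨z_ZC b hLE hr hx hr, z_ZC b hLE hr hx ht⟩
  · -- `x` centralises `U`
    intro u hu
    rw [eU] at hu
    exact hxS u (hUS hu)
  · -- `x` centralises `Q p ∩ C(U)`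
    intro p hp y hy hyU
    rw [eΔ] at hp
    rw [eQ] at hy
    have hyM : y ∈ ME V R o (zpowers z) := by
      obtain ⟨m, hm, rfl⟩ := hp
      have h2 : m⁻¹ * y * m⁻¹⁻¹ ∈ QF r := by
        have := QF_conj (g := m⁻¹) hy
        have e : m⁻¹ * (m * r * m⁻¹) * m⁻¹⁻¹ = r := by group
        rwa [e] at this
      have h3 := hSM (QF_le_S b hr h2)
      have e : y = m * (m⁻¹ * y * m⁻¹⁻¹) * m⁻¹ := by group
      rw [e]
      exact mul_mem (mul_mem hm h3) (inv_mem hm)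
    exact hxS y (mem_S_of b hSM hr hMU hp hy hyM fun u hu => hyU u (by rw [eU]; exact hu))
  · -- `⟨r^{C(f)}⟩` is abelian
    rintro f hf hf1 y hy w hw
    rw [er] at hy hw
    rw [ez] at hf
    have hfZ : f ∈ zc S ⊓ centralizer (P : Set G) := by
      rcases hf with rfl | rfl | rfl
      · exact hx
      · exact hz
      · exact mul_mem hx hz
    exact gen_comm b hfZ hf1 hrR hy hw

end plug

/-- **the end of II.0h1, `q = 2`, over a 2-group** : `|Z₀| ≤ 2` -/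
theorem main (b : HTT S P V R o) (hLE : ∀ i, LE V R i) {r : G} (hr : ∀ x, x ∈ R o ↔ x = 1 ∨ x = r)
    (hodd : ¬ 2 ∣ S.relIndex (JunAB.MZ S V R))
    (hz : UM V (JunAB.MZ S V R) ≤ QQ (R o) → ∀ c ∈ zc S ⊓ centralizer (P : Set G), Sig V R o c →
      ∃ z ∈ zc S ⊓ centralizer (P : Set G), z ≠ 1 ∧ (c = 1 ∨ c = z) ∧ Core V R o r z ∧
        ¬ UM V (MP V R o z) ≤ QQ (R o)) :
    ∀ x ∈ zc S ⊓ centralizer (P : Set G), ∀ y ∈ zc S ⊓ centralizer (P : Set G), x ≠ 1 → y ≠ 1 → x = y := by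
  intro x hx y hy hx1 hy1
  have hr1 : r ≠ 1 := Two.r_ne b hr
  obtain ⟨j, k, hj, hk, hjk⟩ := b.one_lt
  obtain ⟨t, ht1, ht2, ht⟩ := b.exists_gen j
  by_cases hα0 : UM V (JunAB.MZ S V R) ≤ QQ (R o)
  · obtain ⟨c, hc, hsig⟩ := exists_sig b hr hLE (JunAB.gsys_MZ b hr hx hx1 hodd) hx hx1 hα0
    obtain ⟨z, hz, hz1, hcz, hcore, hα⟩ := hz hα0 c hc hsig
    have hpar := JunC.noPar_of b hr hz (fun g hg hgz hgV => hsig.norm b hr hc hg (by
      rcases hcz with rfl | rfl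
      · rw [mul_one, one_mul]
      · exact hgz) hgV) hj ht ht1
    have key : ∀ w ∈ zc S ⊓ centralizer (P : Set G), w ≠ 1 → w = z := fun w hw hw1 =>
      (eq_of_ts b hLE hr hr1 hz hz1 hj ht ht1 hα hpar hcore hw).resolve_left hw1
    rw [key x hx hx1, key y hy hy1]
  · have hMM : ME V R o (zc S ⊓ centralizer (P : Set G)) = JunAB.MZ S V R := ME_MZ b
    have h1 := JunC.eq_zpowers b hLE hr hr1 hj ht ht1 rfl (by rw [hMM]; exact hodd) (by rw [hMM]; exact hα0) hx hx1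
    have h2 : y ∈ zpowers x := by rw [← h1]; exact hy
    have hx2 : x * x = 1 := by rw [← pow_two]; exact (mem_zc.1 hx.1).2.2
    obtain ⟨n, rfl⟩ := h2
    rcases Int.even_or_odd' n with ⟨m, rfl | rfl⟩
    · exfalso
      apply hy1
      show x ^ (2 * m) = 1
      rw [zpow_mul, zpow_two, hx2, one_zpow]
    · show x = x ^ (2 * m + 1)
      rw [zpow_add, zpow_mul, zpow_two, hx2, one_zpow, one_mul, zpow_one]

end Cfsg.Agent.Omega.HT.Main
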