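import Cfsg.Agent.Omega.HT.FillA
import Cfsg.Agent.Omega.HT.AlphaP

/-!
# (OT) over `T`, the module form (#17249 (OT), #18272, #18372, 138's (f1) in #18879)

`OtD T V X r` : `T` is a Sylow 2-subgroup of `C(r)`, `V ∋ r` a four-group normalised by `T` and `X`, `X` transitive
on `V#`, and `(zt)`: some `a ∈ T` with `[b, a] = r`, `b ∈ V`, acts on the involutions of the centre of `C_T(V)` as a
transvection with centre `r`.

* `OtD.cen` : if `M ≥ T, X` normalises the subgroup `B` and the subgroup `U ≥ V`, and the squares of the elements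
  of `B` centralise `U`, then `B` centralises `r`;
* `OtD.core` : `O₂(M/C_M(U)) = 1` for `U = ⟨r^M⟩`; `OtD.gsysW` : `GSysW M ⟨r^M⟩ r`;
* `exists_Y` : 963's module `Y = ⟨r₁^C, r₂^C⟩` for `C = C(y)`, `OtD` at `r₂`, `T` centralises `r₁`.
-/

set_option autoImplicit false
set_option linter.unusedSectionVars false

namespace Cfsg.Agent.Omega.HT.OtCore

open Subgroup Cfsg Cfsg.Agent.MinSimple.VModule Cfsg.Agent.Omega.HOneTwo Cfsg.Agent.Omega.HT.TComp Cfsg.Agent.Omega.BTwo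
open Cfsg.Agent.ZN (zc o2 le_normalizer_o2)

variable {G : Type*} [Group G]

/-- the data of a line `V` on the point `r`, over `T` -/
structure OtD (T V X : Subgroup G) (r : G) : Prop where
  T_p : IsPGroup 2 T
  T_r : ∀ t ∈ T, t * r = r * t
  odd : ¬ 2 ∣ T.relIndex (centralizer ({r} : Set G))
  V_T : V ≤ T
  V_sq : ∀ v ∈ V, v * v = 1
  V_four : ∀ v ∈ V, v ≠ 1 → v ≠ r → ∀ w ∈ V, w = 1 ∨ w = r ∨ w = v ∨ w = v * r
  r_mem : r ∈ V
  r_ne : r ≠ 1
  T_V : T ≤ normalizer (V : Set G)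
  X_V : X ≤ normalizer (V : Set G)
  trans : ∀ v ∈ V, v ≠ 1 → ∃ x ∈ X, x * r * x⁻¹ = v
  zt : ∃ a ∈ T, ∃ b ∈ V, a * b * a⁻¹ = b * r ∧ ∀ c ∈ T, c * c = 1 →
    (∀ t ∈ T, t ∈ centralizer (V : Set G) → t * c = c * t) → a * c * a⁻¹ = c ∨ a * c * a⁻¹ = c * r

namespace OtD

variable {T V X M U B : Subgroup G} {r : G} (h : OtD T V X r)
include h

theorem cj_mem {t v : G} (ht : t ∈ T) (hv : v ∈ V) : t * v * t⁻¹ ∈ V := (mem_normalizer_iff.1 (h.T_V ht) v).1 hv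

theorem xj_mem {t v : G} (ht : t ∈ X) (hv : v ∈ V) : t * v * t⁻¹ ∈ V := (mem_normalizer_iff.1 (h.X_V ht) v).1 hv

/-- (K0) : an element of `T` in the normal subgroup `B` centralises `V` -/
theorem cenV (hXM : X ≤ M) (hVU : V ≤ U) (hn : ∀ m ∈ M, ∀ b ∈ B, m * b * m⁻¹ ∈ B)
    (h2 : ∀ b ∈ B, ∀ u ∈ U, b * b * u = u * (b * b)) {s : G} (hs : s ∈ T) (hsB : s ∈ B) {v : G} (hv : v ∈ V) :
    s * v = v * s := by
  by_contra hne
  have hrr := h.V_sq r h.r_mem
  have hv1 : v ≠ 1 := fun e => hne (by rw [e, mul_one, one_mul])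
  have hvr : v ≠ r := fun e => hne (by rw [e]; exact h.T_r s hs)
  have cc : ∀ {x y : G}, x * y * x⁻¹ = y → x * y = y * x := fun h => mul_inv_eq_iff_eq_mul.1 h
  -- `s` maps every `w ∈ V` outside `{1, r}` to `w r`
  have hmv : ∀ w ∈ V, w ≠ 1 → w ≠ r → s * w * s⁻¹ = w * r := by
    have hfix : ∀ w ∈ V, w ≠ 1 → w ≠ r → s * w * s⁻¹ ≠ w := by
      intro w hw hw1 hwr e
      apply hne
      rcases h.V_four w hw hw1 hwr v hv with h1 | h1 | h1 | h1
      · exact absurd h1 hv1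
      · exact absurd h1 hvr
      · rw [h1]; exact cc e
      · rw [h1]
        calc s * (w * r) = (s * w) * r := by group
          _ = w * (s * r) := by rw [cc e]; group
          _ = w * r * s := by rw [h.T_r s hs]; group
    intro w hw hw1 hwr
    rcases h.V_four w hw hw1 hwr _ (h.cj_mem hs hw) with h1 | h1 | h1 | h1
    · exact absurd (conj_eq_one_iff.1 h1) hw1
    · exfalso
      apply hwr
      have h3 : s * r * s⁻¹ = r := by rw [h.T_r s hs, mul_inv_cancel_right]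
      calc w = s⁻¹ * (s * w * s⁻¹) * s := by group
        _ = s⁻¹ * (s * r * s⁻¹) * s := by rw [h1, h3]
        _ = r := by group
    · exact absurd h1 (hfix w hw hw1 hwr)
    · exact h1
  obtain ⟨g, hg, hgv⟩ := h.trans v hv hv1
  have hgM := hXM hg
  obtain ⟨s', hs'⟩ : ∃ s', s' = g * s * g⁻¹ := ⟨_, rfl⟩
  have hs'B : s' ∈ B := by rw [hs']; exact hn g hgM s hsB
  -- `s'` fixes `v`
  have e1 : s' * v * s'⁻¹ = v := by
    calc s' * v * s'⁻¹ = g * (s * r * s⁻¹) * g⁻¹ := by rw [hs', ← hgv]; group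
      _ = g * r * g⁻¹ := by rw [h.T_r s hs, mul_inv_cancel_right]
      _ = v := hgv
  -- `s'` maps `r` to `r v`
  have hu : g⁻¹ * r * g ∈ V := by
    have h1 := (mem_normalizer_iff.1 (h.X_V (inv_mem hg)) r).1 h.r_mem
    rwa [inv_inv] at h1
  have hu1 : g⁻¹ * r * g ≠ 1 := by
    intro e
    apply h.r_ne
    calc r = g * (g⁻¹ * r * g) * g⁻¹ := by group
      _ = 1 := by rw [e]; group
  have hur : g⁻¹ * r * g ≠ r := by
    intro e
    apply hvr
    rw [← hgv]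
    calc g * r * g⁻¹ = g * (g⁻¹ * r * g) * g⁻¹ := by rw [e]
      _ = r := by group
  have e2 : s' * r * s'⁻¹ = r * v := by
    calc s' * r * s'⁻¹ = g * (s * (g⁻¹ * r * g) * s⁻¹) * g⁻¹ := by rw [hs']; group
      _ = g * (g⁻¹ * r * g * r) * g⁻¹ := by rw [hmv _ hu hu1 hur]
      _ = r * (g * r * g⁻¹) := by group
      _ = r * v := by rw [hgv]
  have e3 : s * v * s⁻¹ = v * r := hmv v hv hv1 hvr
  have e4 : s * r * s⁻¹ = r := by rw [h.T_r s hs, mul_inv_cancel_right]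
  -- `y = s s'` : `r ↦ v ↦ v r`
  have hrv : r * v = v * r := by
    have h1 := h.V_sq _ (mul_mem h.r_mem hv)
    have h3 := h.V_sq v hv
    calc r * v = r * v * (r * v) * (v⁻¹ * r⁻¹) := by group
      _ = v⁻¹ * r⁻¹ := by rw [h1, one_mul]
      _ = v * r := by rw [inv_eq_of_mul_eq_one_left h3, inv_eq_of_mul_eq_one_left hrr]
  have e5 : (s * s') * r * (s * s')⁻¹ = v := by
    calc (s * s') * r * (s * s')⁻¹ = s * (s' * r * s'⁻¹) * s⁻¹ := by group
      _ = (s * r * s⁻¹) * (s * v * s⁻¹) := by rw [e2]; group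
      _ = r * (v * r) := by rw [e4, e3]
      _ = (r * r) * v := by rw [← hrv]; group
      _ = v := by rw [hrr, one_mul]
  have e6 : (s * s') * v * (s * s')⁻¹ = v * r := by
    calc (s * s') * v * (s * s')⁻¹ = s * (s' * v * s'⁻¹) * s⁻¹ := by group
      _ = v * r := by rw [e1, e3]
  have e7 := h2 _ (B.mul_mem hsB hs'B) r (hVU h.r_mem)
  have e8 : (s * s') * ((s * s') * r * (s * s')⁻¹) * (s * s')⁻¹ = r := by
    calc (s * s') * ((s * s') * r * (s * s')⁻¹) * (s * s')⁻¹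
        = (s * s' * (s * s') * r) * (s * s' * (s * s'))⁻¹ := by group
      _ = r := by rw [e7]; group
  rw [e5, e6] at e8
  exact hv1 (mul_eq_right.1 e8)

/-- **(OT), module form.** -/
theorem cen [Finite G] (hTM : T ≤ M) (hXM : X ≤ M) (hUM : ∀ m ∈ M, ∀ u ∈ U, m * u * m⁻¹ ∈ U) (hVU : V ≤ U)
    (hB : B ≤ M) (hn : ∀ m ∈ M, ∀ b ∈ B, m * b * m⁻¹ ∈ B)
    (h2 : ∀ b ∈ B, ∀ u ∈ U, b * b * u = u * (b * b)) : ∀ b ∈ B, b * r = r * b := by
  by_contra hcon
  push Not at hcon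
  obtain ⟨b₀, hb₀, hb₀r⟩ := hcon
  -- `K = C_M(U)`
  obtain ⟨K, hK⟩ : ∃ K, K = M ⊓ centralizer (U : Set G) := ⟨_, rfl⟩
  have hKU : ∀ k ∈ K, ∀ u ∈ U, k * u = u * k := fun k hk u hu => by
    rw [hK] at hk
    exact (mem_centralizer_iff.1 hk.2 u hu).symm
  have hKn : M ≤ normalizer (K : Set G) := by
    rw [hK]
    exact HOne.TvHSide.le_normalizer_inf_centralizer (HOne.TvHSide.le_normalizer_of hUM)
  have hsq : ∀ x ∈ B, ∃ k : ℕ, x ^ 2 ^ k ∈ K := by
    intro x hx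
    refine ⟨1, ?_⟩
    rw [hK]
    refine mem_inf.2 ⟨M.pow_mem (hB hx) _, mem_centralizer_iff.2 fun u hu => ?_⟩
    rw [pow_one, pow_two]
    exact (h2 x hx u hu).symm
  have hTB : T ≤ normalizer (B : Set G) := HOne.TvHSide.le_normalizer_of fun t ht y hy => hn t (hTM ht) y hy
  -- a Sylow group `Q ≥ T` of `B T`
  obtain ⟨Q, hQ2, hTQ, hQM, hQo⟩ := FillA.exists_syl h.T_p (le_sup_right : T ≤ B ⊔ T)
  have hBT : B ⊔ T ≤ M := sup_le hB hTM
  -- `Q ∩ C(r) = T`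
  have hQT : ∀ x ∈ Q, x * r = r * x → x ∈ T := by
    intro x hx hxr
    have hTC : T ≤ centralizer ({r} : Set G) := fun t ht => mem_centralizer_singleton_iff.2 (h.T_r t ht)
    have hT1 : T ≤ Q ⊓ centralizer ({r} : Set G) := le_inf hTQ hTC
    have h1 := card_dvd_card hTC h.odd (hQ2.to_le (inf_le_left : Q ⊓ centralizer ({r} : Set G) ≤ Q)) inf_le_right
    have h3 : T = Q ⊓ centralizer ({r} : Set G) := by
      apply eq_of_le_of_card_ge hT1
      exact Nat.le_of_dvd Nat.card_pos h1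
    rw [h3]
    exact mem_inf.2 ⟨hx, mem_centralizer_singleton_iff.2 hxr⟩
  -- `Q ≠ T`
  have hQne : ∃ q ∈ Q, q ∉ T := by
    by_contra hcon
    push Not at hcon
    obtain ⟨s, hs, k, hk, e⟩ := HOne.TvHSide.exists_mul (S := Q) (H := B ⊔ T) (C := K) (K := B) hQ2 hQo
      (hBT.trans hKn) le_sup_left (fun q hq => hTB (hcon q hq)) hsq hb₀
    apply hb₀r
    rw [e]
    calc s * k * r = s * (k * r) := by group
      _ = (s * r) * k := by rw [hKU k hk r (hVU h.r_mem)]; group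
      _ = r * (s * k) := by rw [h.T_r s (hcon s hs)]; group
  -- `w ∈ N_Q(T) - T`
  obtain ⟨w, hwQ, hwN, hwT⟩ : ∃ w ∈ Q, w ∈ normalizer (T : Set G) ∧ w ∉ T := by
    have : Fact (Nat.Prime 2) := ⟨Nat.prime_two⟩
    have : Group.IsNilpotent Q := hQ2.isNilpotent
    have hlt : T.subgroupOf Q < ⊤ := by
      refine lt_top_iff_ne_top.2 fun e => ?_
      obtain ⟨q, hq, hqT⟩ := hQne
      exact hqT (subgroupOf_eq_top.1 e hq)
    have h1 := Group.normalizerCondition_of_isNilpotent (T.subgroupOf Q) hlt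
    obtain ⟨x, hx, hxn⟩ := SetLike.exists_of_lt h1
    refine ⟨x, x.2, ?_, fun h => hxn (mem_subgroupOf.2 h)⟩
    rw [mem_normalizer_iff] at hx ⊢
    intro y
    constructor
    · intro hy
      exact mem_subgroupOf.1 ((hx ⟨y, hTQ hy⟩).1 (mem_subgroupOf.2 hy))
    · intro hy
      have hyQ : y ∈ Q := by
        have h3 := Q.mul_mem (Q.mul_mem (Q.inv_mem x.2) (hTQ hy)) x.2
        have e : (x : G)⁻¹ * (↑x * y * (↑x)⁻¹) * ↑x = y := by group
        rwa [e] at h3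
      exact mem_subgroupOf.1 ((hx ⟨y, hyQ⟩).2 (mem_subgroupOf.2 hy))
  -- wlog `w ∈ B`
  obtain ⟨w, hwB, hwN, hwr⟩ : ∃ w ∈ B, w ∈ normalizer (T : Set G) ∧ w * r ≠ r * w := by
    have h1 : w ∈ (↑(B ⊔ T) : Set G) := hQM hwQ
    rw [coe_mul_of_right_le_normalizer_left _ _ hTB] at h1
    obtain ⟨b, hb, t, ht, rfl⟩ := h1
    have hbN : b ∈ normalizer (T : Set G) := by
      have h3 := mul_mem hwN (inv_mem (le_normalizer ht))
      simpa using h3
    refine ⟨b, hb, hbN, fun e => hwT ?_⟩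
    have hbQ : b ∈ Q := by
      have h3 := Q.mul_mem hwQ (Q.inv_mem (hTQ ht))
      simpa using h3
    exact T.mul_mem (hQT b hbQ e) ht
  have hwM := hB hwB
  -- `[w, t] ∈ T ∩ B` centralises `V`
  have hcomm : ∀ t ∈ T, w * t * w⁻¹ * t⁻¹ ∈ T ∧ w * t * w⁻¹ * t⁻¹ ∈ centralizer (V : Set G) := by
    intro t ht
    have h1 : w * t * w⁻¹ * t⁻¹ ∈ T := T.mul_mem ((mem_normalizer_iff.1 hwN t).1 ht) (T.inv_mem ht)
    have h3 : w * t * w⁻¹ * t⁻¹ ∈ B := by
      have e : w * t * w⁻¹ * t⁻¹ = w * (t * w⁻¹ * t⁻¹) := by group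
      rw [e]
      exact B.mul_mem hwB (hn t (hTM ht) _ (B.inv_mem hwB))
    exact ⟨h1, mem_centralizer_iff.2 fun v hv => (h.cenV hXM hVU hn h2 h1 h3 hv).symm⟩
  obtain ⟨a, ha, b, hb, hab, hzt⟩ := h.zt
  obtain ⟨c, hc⟩ : ∃ c, c = w * b * w⁻¹ := ⟨_, rfl⟩
  have hcT : c ∈ T := by rw [hc]; exact (mem_normalizer_iff.1 hwN b).1 (h.V_T hb)
  have hcc : c * c = 1 := by
    calc c * c = w * (b * b) * w⁻¹ := by rw [hc]; group
      _ = 1 := by rw [h.V_sq b hb]; group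
  have hcs : ∀ t ∈ T, t ∈ centralizer (V : Set G) → t * c = c * t := by
    intro t ht htV
    -- `w⁻¹ t w` centralises `b`
    have h1 : w⁻¹ * t * w ∈ T := by
      have h3 := (mem_normalizer_iff.1 (inv_mem hwN) t).1 ht
      rwa [inv_inv] at h3
    have h3 := (hcomm _ h1).2
    have e : w * (w⁻¹ * t * w) * w⁻¹ * (w⁻¹ * t * w)⁻¹ = t * (w⁻¹ * t * w)⁻¹ := by group
    rw [e] at h3
    have h4 : w⁻¹ * t * w ∈ centralizer (V : Set G) := by
      have h5 := mul_mem (inv_mem h3) htV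
      simpa using h5
    have h5 := mem_centralizer_iff.1 h4 b hb
    calc t * c = w * ((w⁻¹ * t * w) * b) * w⁻¹ := by rw [hc]; group
      _ = w * (b * (w⁻¹ * t * w)) * w⁻¹ := by rw [h5]
      _ = c * t := by rw [hc]; group
  have hac := hzt c hcT hcc hcs
  -- `k = [w, a]`
  obtain ⟨k, hk⟩ : ∃ k, k = w * a * w⁻¹ * a⁻¹ := ⟨_, rfl⟩
  obtain ⟨hkT, hkV⟩ := hcomm a ha
  rw [← hk] at hkT hkV
  have hkc := hcs k hkT hkV
  have hkr := h.T_r k hkT
  have hkc' : k * c * k⁻¹ = c := by rw [hkc, mul_inv_cancel_right]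
  have hkcr : k * (c * r) * k⁻¹ = c * r := by
    calc k * (c * r) * k⁻¹ = (k * c) * r * k⁻¹ := by group
      _ = c * (k * r) * k⁻¹ := by rw [hkc]; group
      _ = c * r := by rw [hkr]; group
  have e1 : w * r * w⁻¹ = c⁻¹ * (k * (a * c * a⁻¹) * k⁻¹) := by
    have e : r = b⁻¹ * (a * b * a⁻¹) := by rw [hab, inv_mul_cancel_left]
    calc w * r * w⁻¹ = w * (b⁻¹ * (a * b * a⁻¹)) * w⁻¹ := by rw [← e]
      _ = c⁻¹ * (k * (a * c * a⁻¹) * k⁻¹) := by rw [hc, hk]; group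
  apply hwr
  rcases hac with h3 | h3
  · rw [h3, hkc', inv_mul_cancel] at e1
    exact absurd (conj_eq_one_iff.1 e1) h.r_ne
  · rw [h3, hkcr, inv_mul_cancel_left] at e1
    exact mul_inv_eq_iff_eq_mul.1 e1

/-- `B` centralises every subgroup of `⟨r^M⟩` -/
theorem core' [Finite G] (hTM : T ≤ M) (hXM : X ≤ M) (hUM : ∀ m ∈ M, ∀ u ∈ U, m * u * m⁻¹ ∈ U) (hVU : V ≤ U)
    (hB : B ≤ M) (hn : ∀ m ∈ M, ∀ b ∈ B, m * b * m⁻¹ ∈ B)
    (h2 : ∀ b ∈ B, ∀ u ∈ U, b * b * u = u * (b * b)) {b x : G} (hb : b ∈ B)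
    (hx : x ∈ closure {x | ∃ m ∈ M, x = m * r * m⁻¹}) : b * x = x * b := by
  have hmain := h.cen hTM hXM hUM hVU hB hn h2
  have h1 : closure {x | ∃ m ∈ M, x = m * r * m⁻¹} ≤ centralizer ({b} : Set G) := by
    rw [closure_le]
    rintro _ ⟨m, hm, rfl⟩
    rw [SetLike.mem_coe, mem_centralizer_singleton_iff]
    have h3 := hmain _ (hn m⁻¹ (inv_mem hm) b hb)
    calc m * r * m⁻¹ * b = m * (r * (m⁻¹ * b * m⁻¹⁻¹)) * m⁻¹ := by group
      _ = b * (m * r * m⁻¹) := by rw [← h3]; group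
  exact (mem_centralizer_singleton_iff.1 (h1 hx)).symm

/-- **`O₂(M/C_M(U)) = 1`, `U = ⟨r^M⟩`** (any description of `U`) -/
theorem core [Finite G] (hTM : T ≤ M) (hXM : X ≤ M) (hU : U = closure {x | ∃ m ∈ M, x = m * r * m⁻¹})
    (B : Subgroup G) (hB : B ≤ M) (hn : ∀ m ∈ M, ∀ b ∈ B, m * b * m⁻¹ ∈ B)
    (h2 : ∀ b ∈ B, ∀ u ∈ U, b * b * u = u * (b * b)) : ∀ b ∈ B, ∀ u ∈ U, b * u = u * b := by
  have hUM : ∀ m ∈ M, ∀ u ∈ U, m * u * m⁻¹ ∈ U := by
    intro m hm u hu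
    rw [hU] at hu ⊢
    induction hu using closure_induction with
    | mem x hx =>
      obtain ⟨g, hg, rfl⟩ := hx
      exact subset_closure ⟨m * g, M.mul_mem hm hg, by group⟩
    | one => rw [mul_one, mul_inv_cancel]; exact one_mem _
    | mul x y _ _ hx hy =>
      have : m * (x * y) * m⁻¹ = (m * x * m⁻¹) * (m * y * m⁻¹) := by group
      rw [this]; exact mul_mem hx hy
    | inv x _ hx =>
      have : m * x⁻¹ * m⁻¹ = (m * x * m⁻¹)⁻¹ := by group
      rw [this]; exact inv_mem hx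
  have hVU : V ≤ U := by
    intro v hv
    by_cases hv1 : v = 1
    · rw [hv1]; exact one_mem _
    obtain ⟨x, hx, hxv⟩ := h.trans v hv hv1
    rw [hU]
    exact subset_closure ⟨x, hXM hx, hxv.symm⟩
  intro b hb u hu
  rw [hU] at hu
  exact h.core' hTM hXM hUM hVU hB hn h2 hb hu

/-- `⟨R^M⟩`, `R = {1, r}` -/
theorem cl_eq {R : Subgroup G} (hr : ∀ x, x ∈ R ↔ x = 1 ∨ x = r) (M : Subgroup G) :
    cl R M = closure {x | ∃ m ∈ M, x = m * r * m⁻¹} := by
  apply le_antisymm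
  · refine cl_le ?_ ?_
    · intro x hx
      rcases (hr x).1 hx with rfl | rfl
      · exact one_mem _
      · exact subset_closure ⟨1, one_mem _, by group⟩
    · refine HOne.TvHSide.le_normalizer_of fun m hm u hu => ?_
      induction hu using closure_induction with
      | mem x hx =>
        obtain ⟨g, hg, rfl⟩ := hx
        exact subset_closure ⟨m * g, M.mul_mem hm hg, by group⟩
      | one => rw [mul_one, mul_inv_cancel]; exact one_mem _
      | mul x y _ _ hx hy =>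
        have : m * (x * y) * m⁻¹ = (m * x * m⁻¹) * (m * y * m⁻¹) := by group
        rw [this]; exact mul_mem hx hy
      | inv x _ hx =>
        have : m * x⁻¹ * m⁻¹ = (m * x * m⁻¹)⁻¹ := by group
        rw [this]; exact inv_mem hx
  · rw [closure_le]
    rintro _ ⟨m, hm, rfl⟩
    exact conj_mem_of_normalizer (le_normalizer_cl R M hm) (le_cl R M ((hr r).2 (Or.inr rfl)))

/-- **`GSysW M ⟨R^M⟩ r`** (`hsysM` of `AlphaP.not_alpha'`) -/
theorem gsysW [Finite G] {R : Subgroup G} (hr : ∀ x, x ∈ R ↔ x = 1 ∨ x = r) (hTM : T ≤ M) (hXM : X ≤ M)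
    (hsq : ∀ x ∈ cl R M, x * x = 1) : GSysW M (cl R M) r := by
  have hnor : ∀ c ∈ M, ∀ n ∈ cl R M, c * n * c⁻¹ ∈ cl R M := fun c hc n hn =>
    conj_mem_of_normalizer (le_normalizer_cl _ _ hc) hn
  refine ⟨hsq, hnor, le_cl _ _ ((hr r).2 (Or.inr rfl)), h.r_ne, ?_⟩
  intro U hU hCU c hc h2 h3
  exact chain_of_core hsq hnor (h.core hTM hXM (h.cl_eq hr M)) hU hCU hc h2 h3

/-- `GSys M ⟨R^M⟩ r` -/
theorem gsys [Finite G] {R : Subgroup G} (hr : ∀ x, x ∈ R ↔ x = 1 ∨ x = r) (hTM : T ≤ M) (hXM : X ≤ M)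
    (hsq : ∀ x ∈ cl R M, x * x = 1) : TV.GSys M (cl R M) r := by
  have h1 := h.gsysW hr hTM hXM hsq
  refine ⟨h1.sq, h1.nor, h1.mem, h1.ne, ?_, h1.chain⟩
  rw [h.cl_eq hr M]

end OtD

/-- **963's module** `Y = ⟨r₁^C, r₂^C⟩`, `C = C(y) ≥ T, X₂`, `O₂(C) ≤ C(V₂)` -/
theorem exists_Y [Finite G] (hG : IsCharacteristicTwoType G) {T V₂ X₂ : Subgroup G} {r₁ r₂ y : G}
    (h : OtD T V₂ X₂ r₂) (h1T : r₁ ∈ T) (h1s : r₁ * r₁ = 1) (h1n : r₁ ≠ 1) (h1c : ∀ t ∈ T, t * r₁ = r₁ * t)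
    (hyy : y * y = 1) (hy1 : y ≠ 1) (hTy : ∀ t ∈ T, t * y = y * t) (hXy : ∀ x ∈ X₂, x * y = y * x)
    (ho : o2 (centralizer ({y} : Set G)) ≤ centralizer (V₂ : Set G)) :
    ∃ Y ≤ centralizer ({y} : Set G), GSysW (centralizer ({y} : Set G)) Y r₁ := by
  obtain ⟨C, hC⟩ : ∃ C, C = centralizer ({y} : Set G) := ⟨_, rfl⟩
  have hTC : T ≤ C := by rw [hC]; exact fun s hs => mem_centralizer_singleton_iff.2 (hTy s hs)
  have hXC : X₂ ≤ C := by rw [hC]; exact fun s hs => mem_centralizer_singleton_iff.2 (hXy s hs)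
  have hloc : TLoc T C := by rw [hC]; exact TLoc.centralizer (by rw [pow_two]; exact hyy) hy1 (hC ▸ hTC)
  rw [← hC] at ho ⊢
  have hT2 : T ≤ centralizer ({r₂} : Set G) := fun t ht => mem_centralizer_singleton_iff.2 (h.T_r t ht)
  -- `O₂(C) ≤ T`
  have hoT : o2 C ≤ T := by
    have h1 : o2 C ≤ centralizer ({r₂} : Set G) := by
      refine ho.trans (centralizer_le ?_)
      rintro _ rfl
      exact h.r_mem
    have h2 : IsPGroup 2 (o2 C ⊔ T : Subgroup G) :=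
      IsPGroup.to_sup_of_normal_left' (ZN.isPGroup_o2 C) h.T_p (hTC.trans (ZN.le_normalizer_o2 C))
    have h3 : o2 C ⊔ T ≤ centralizer ({r₂} : Set G) := sup_le h1 hT2
    have h4 := card_dvd_card hT2 h.odd h2 h3
    have h5 : T = o2 C ⊔ T := eq_of_le_of_card_ge le_sup_right (Nat.le_of_dvd Nat.card_pos h4)
    rw [h5]; exact le_sup_left
  -- the elements of `T` centralised by `T` are in `Ω₁Z(O₂(C))`
  have hz : ∀ x ∈ T, x * x = 1 → (∀ t ∈ T, t * x = x * t) → x ∈ zc (o2 C) := by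
    intro x hx hxx hxT
    have h2 : x ∈ centralizer (o2 C : Set G) := mem_centralizer_iff.2 fun s hs => hxT s (hoT hs)
    have h3 : x ∈ o2 C := hloc.char2 hG ⟨hTC hx, h2⟩
    exact ZN.mem_zc.2 ⟨h3, fun c hc => mem_centralizer_iff.1 h2 c hc, by rw [pow_two]; exact hxx⟩
  obtain ⟨A, hA⟩ : ∃ A : Subgroup G, A = zpowers r₁ ⊔ zpowers r₂ := ⟨_, rfl⟩
  have hr1A : r₁ ∈ A := by rw [hA]; exact mem_sup_left (mem_zpowers r₁)
  have hr2A : r₂ ∈ A := by rw [hA]; exact mem_sup_right (mem_zpowers r₂)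
  have hAz : A ≤ zc (o2 C) := by
    rw [hA]
    refine sup_le (zpowers_le.2 (hz r₁ h1T h1s h1c)) (zpowers_le.2 (hz r₂ (h.V_T h.r_mem) (h.V_sq _ h.r_mem) h.T_r))
  have h1 : cl A C ≤ zc (o2 C) :=
    cl_le hAz ((Cfsg.Agent.ZN.le_normalizer_o2 _).trans (ZN.normalizer_le_normalizer_zc _))
  have hsq : ∀ x ∈ cl A C, x * x = 1 := fun x hx => by rw [← pow_two]; exact (ZN.mem_zc.1 (h1 hx)).2.2
  have hnor : ∀ c ∈ C, ∀ n ∈ cl A C, c * n * c⁻¹ ∈ cl A C := fun c hc n hn =>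
    conj_mem_of_normalizer (le_normalizer_cl _ _ hc) hn
  have hVY : V₂ ≤ cl A C := by
    intro v hv
    by_cases hv1 : v = 1
    · rw [hv1]; exact one_mem _
    obtain ⟨x, hx, hxv⟩ := h.trans v hv hv1
    rw [← hxv]
    exact hnor x (hXC hx) _ (le_cl A C hr2A)
  refine ⟨cl A C, h1.trans ((ZN.zc_le _).trans (ZN.o2_le _)), hsq, hnor, le_cl _ _ hr1A, h1n, ?_⟩
  intro U hU hCU c hc h2 h3
  refine chain_of_core hsq hnor (fun B hB hn hb2 => ?_) hU hCU hc h2 h3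
  -- `B` centralises `r₂`
  have hB2 := h.cen hTC hXC hnor hVY hB hn hb2
  have hBC : B ≤ centralizer ({r₂} : Set G) := fun b hb => mem_centralizer_singleton_iff.2 (hB2 b hb)
  -- `K = C_C(Y)`
  obtain ⟨K, hK⟩ : ∃ K, K = C ⊓ centralizer (cl A C : Set G) := ⟨_, rfl⟩
  have hKn : C ≤ normalizer (K : Set G) := by
    rw [hK]
    exact HOne.TvHSide.le_normalizer_inf_centralizer (le_normalizer_cl _ _)
  have hodd : ¬ 2 ∣ T.relIndex (C ⊓ centralizer ({r₂} : Set G)) := by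
    intro hd
    apply h.odd
    have e : T.relIndex (C ⊓ centralizer ({r₂} : Set G)) * (C ⊓ centralizer ({r₂} : Set G)).relIndex
        (centralizer ({r₂} : Set G)) = T.relIndex (centralizer ({r₂} : Set G)) :=
      relIndex_mul_relIndex _ _ _ (le_inf hTC hT2) inf_le_right
    rw [← e]
    exact Dvd.dvd.mul_right hd _
  have hB1 : ∀ b ∈ B, b * r₁ = r₁ * b := by
    intro b hb
    obtain ⟨s, hs, k, hk, e⟩ := HOne.TvHSide.exists_mul (S := T) (H := C ⊓ centralizer ({r₂} : Set G)) (C := K)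
      (K := B) h.T_p hodd (inf_le_left.trans hKn) (le_inf hB hBC)
      (HOne.TvHSide.le_normalizer_of fun t ht y hy => hn t (hTC ht) y hy) (fun x hx => ⟨1, by
        rw [hK]
        refine mem_inf.2 ⟨C.pow_mem (hB hx) _, mem_centralizer_iff.2 fun u hu => ?_⟩
        rw [pow_one, pow_two]
        exact (hb2 x hx u hu).symm⟩) hb
    rw [hK] at hk
    have hkr : k * r₁ = r₁ * k := (mem_centralizer_iff.1 hk.2 r₁ (le_cl A C hr1A)).symm
    rw [e]
    calc s * k * r₁ = s * (k * r₁) := by group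
      _ = (s * r₁) * k := by rw [hkr]; group
      _ = r₁ * (s * k) := by rw [h1c s hs]; group
  -- `B` centralises `Y`
  intro b hb n hn'
  have h5 : cl A C ≤ centralizer (B : Set G) := by
    refine cl_le ?_ ?_
    · rw [hA]
      refine sup_le (zpowers_le.2 ?_) (zpowers_le.2 ?_)
      · exact mem_centralizer_iff.2 fun x hx => hB1 x hx
      · exact mem_centralizer_iff.2 fun x hx => hB2 x hx
    · refine HOne.TvHSide.le_normalizer_of fun m hm x hx => mem_centralizer_iff.2 fun u hu => ?_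
      have h6 := mem_centralizer_iff.1 hx _ (hn m⁻¹ (inv_mem hm) u hu)
      calc u * (m * x * m⁻¹) = m * ((m⁻¹ * u * m⁻¹⁻¹) * x) * m⁻¹ := by group
        _ = m * x * m⁻¹ * u := by rw [h6]; group
  exact mem_centralizer_iff.1 (h5 hn') b hb

end Cfsg.Agent.Omega.HT.OtCore
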