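import Cfsg.Agent.Omega.TV.Group
import Cfsg.Agent.Omega.TV.One
import Cfsg.Agent.Omega.TV.Big

/-!
# LEMMA T, component form, without the condition that the orbit of `r` spans the module

`SysW ρ Om` = helper895's `TV.Sys` without `span` (277's repair, #17250 (i)): a functional of an induced transvection
which vanishes on `Om` is zero.  The statements up to `big_cls` are those of `TV/Basic`, `TV/Big`, `TV/One`,
`HTwo/TLin` (helper895, helper304, helper972).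
-/

set_option autoImplicit false

namespace Cfsg.Agent.Omega.TV

open Module

variable {H : Type*} [Group H] {V : Type*} [AddCommGroup V] [Module (ZMod 2) V]
  {ρ : H →* (V ≃ₗ[ZMod 2] V)} {Om : Set V}

/-- The setting of THEOREM TV without `span`. -/
structure SysW (ρ : H →* (V ≃ₗ[ZMod 2] V)) (Om : Set V) : Prop where
  zero : (0 : V) ∉ Om
  inv : ∀ (g : H), ∀ r ∈ Om, ρ g r ∈ Om
  trans : ∀ r ∈ Om, ∀ s ∈ Om, ∃ g : H, ρ g r = s
  ex : ∃ r ∈ Om, ∃ φ, φ ≠ 0 ∧ Fn ρ r φ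
  chain : ∀ U : Submodule (ZMod 2) V, (∀ (g : H), ∀ u ∈ U, ρ g u ∈ U) →
    ∀ g : H, (∀ u ∈ U, ρ g u = u) → (∀ v, ρ g v + v ∈ U) → ∀ v, ρ g v = v

namespace SysW

open Sys (Near rad Big Clo)

section basic

variable (h : SysW ρ Om)

include h

theorem ne_zero {r : V} (hr : r ∈ Om) : r ≠ 0 := fun e => h.zero (e ▸ hr)

/-- 277's repair -/
theorem eq_zero_of {r : V} (hr : r ∈ Om) {φ : Dual (ZMod 2) V} (hF : Fn ρ r φ) (hφ : ∀ s ∈ Om, φ s = 0) :
    φ = 0 := by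
  obtain ⟨-, g, hg⟩ := hF
  have h0 : ∀ u ∈ Submodule.span (ZMod 2) Om, φ u = 0 := by
    intro u hu
    have h1 : Submodule.span (ZMod 2) Om ≤ LinearMap.ker φ :=
      Submodule.span_le.2 fun s hs => LinearMap.mem_ker.2 (hφ s hs)
    exact LinearMap.mem_ker.1 (h1 hu)
  have h1 := h.chain (Submodule.span (ZMod 2) Om) ?_ g (fun u hu => by
    rw [hg, h0 u hu, zero_smul, add_zero]) (fun v => by
    rw [hg, add_comm v, add_add_self]
    exact Submodule.smul_mem _ _ (Submodule.subset_span hr))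
  · refine LinearMap.ext fun v => ?_
    rw [LinearMap.zero_apply]
    refine z2_ne_one fun e => ?_
    have h2 := h1 v
    rw [hg, e, one_smul] at h2
    exact h.ne_zero hr (by simpa using h2)
  · intro k u hu
    have h2 : Submodule.span (ZMod 2) Om ≤ (Submodule.span (ZMod 2) Om).comap
        ((ρ k : V ≃ₗ[ZMod 2] V).toLinearMap) :=
      Submodule.span_le.2 fun s hs => Submodule.subset_span (h.inv k s hs)
    exact h2 hu

theorem exists_one {r : V} (hr : r ∈ Om) {φ : Dual (ZMod 2) V} (hF : Fn ρ r φ) (hφ : φ ≠ 0) :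
    ∃ s ∈ Om, φ s = 1 := by
  by_contra hcon
  push Not at hcon
  exact hφ (h.eq_zero_of hr hF fun s hs => z2_ne_one (hcon s hs))

theorem exists_fn {r : V} (hr : r ∈ Om) : ∃ φ, φ ≠ 0 ∧ Fn ρ r φ := by
  obtain ⟨s, hs, φ, hne, hφ⟩ := h.ex
  obtain ⟨g, hg⟩ := h.trans s hs r hr
  refine ⟨_, ?_, hg ▸ hφ.conj g⟩
  obtain ⟨t, _, ht⟩ := h.exists_one hs hφ hne
  intro h0
  have := LinearMap.congr_fun h0 (ρ g t)
  simp [rinv, ht] at this

theorem exists_adj {r : V} (hr : r ∈ Om) : ∃ s ∈ Om, Adj ρ r s := by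
  obtain ⟨φ, hne, hφ⟩ := h.exists_fn hr
  obtain ⟨s, hs, h1⟩ := h.exists_one hr hφ hne
  exact ⟨s, hs, φ, hφ, h1⟩

theorem add_mem {r s : V} (hs : s ∈ Om) (ha : Adj ρ r s) : s + r ∈ Om := by
  obtain ⟨φ, ⟨_, g, hg⟩, h1⟩ := ha
  have := h.inv g s hs
  rwa [hg, h1, one_smul] at this

theorem symm [Finite V] {r s : V} (hr : r ∈ Om) (hs : s ∈ Om) (ha : Adj ρ r s) : Adj ρ s r := by
  have : Finite (Dual (ZMod 2) V) := Finite.of_injective (fun f : Dual (ZMod 2) V => (f : V → ZMod 2))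
    DFunLike.coe_injective
  obtain ⟨φ, hφ, h1⟩ := ha
  by_contra hcon
  have h0 : ∀ ψ, Fn ρ s ψ → ψ r = 0 := fun ψ hψ => z2_ne_one fun e => hcon ⟨ψ, hψ, e⟩
  have hsub : {ψ | Fn ρ s ψ} ⊆ {ψ | Fn ρ r ψ} := by
    intro ψ hψ
    have e1 := Fn.cc (show Fn ρ s ψ from hψ) hφ
    rw [h1, one_smul, h0 ψ hψ, zero_smul, add_zero] at e1
    have e2 := e1.addc (show Fn ρ s ψ from hψ)
    rwa [add_comm s r, add_add_self] at e2
  have hcard : {ψ | Fn ρ r ψ}.ncard ≤ {ψ | Fn ρ s ψ}.ncard := by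
    obtain ⟨g, hg⟩ := h.trans r hr s hs
    refine Set.ncard_le_ncard_of_injOn
      (fun ψ => ψ ∘ₗ (ρ g⁻¹ : V ≃ₗ[ZMod 2] V).toLinearMap) ?_ ?_ (Set.toFinite _)
    · intro ψ hψ
      exact hg ▸ Fn.conj (show Fn ρ r ψ from hψ) g
    · intro ψ _ ψ' _ he
      ext x
      have := LinearMap.congr_fun he (ρ g x)
      simpa [rinv] using this
  have heq := Set.eq_of_subset_of_ncard_le hsub hcard (Set.toFinite _)
  have : φ ∈ {ψ | Fn ρ s ψ} := by rw [heq]; exact hφ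
  have h2 : φ s = 0 := (show Fn ρ s φ from this).1
  rw [h1] at h2
  exact one_ne_zero h2

/-- `T_r* ∩ s^⊥ ≤ T_s*` for adjacent `r`, `s`. -/
theorem fn_of_adj [Finite V] {r s : V} (hr : r ∈ Om) (hs : s ∈ Om) (ha : Adj ρ r s)
    {ψ : Dual (ZMod 2) V} (hψ : Fn ρ r ψ) (h0 : ψ s = 0) : Fn ρ s ψ := by
  obtain ⟨φ, hφ, h1⟩ := h.symm hr hs ha
  have e1 := Fn.cc hψ hφ
  rw [h1, one_smul, h0, zero_smul, add_zero] at e1
  have e2 := e1.addc hψ
  rwa [add_comm r s, add_add_self] at e2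

theorem near_of_adj [Finite V] {r s : V} (hr : r ∈ Om) (hs : s ∈ Om) (ha : Adj ρ r s) :
    Near ρ Om r s := by
  obtain ⟨φ, hφ, h1⟩ := ha
  obtain ⟨ψ, hψ, h2⟩ := h.symm hr hs ⟨φ, hφ, h1⟩
  have hm : s + r ∈ Om := h.add_mem hs ⟨φ, hφ, h1⟩
  refine ⟨s + r, hm, ⟨φ, hφ, by rw [map_add, h1, hφ.1, add_zero]⟩, ?_⟩
  exact h.symm hs hm ⟨ψ, hψ, by rw [map_add, hψ.1, h2, zero_add]⟩

theorem near_refl [Finite V] {r : V} (hr : r ∈ Om) : Near ρ Om r r := by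
  obtain ⟨s, hs, ha⟩ := h.exists_adj hr
  exact ⟨s, hs, ha, h.symm hr hs ha⟩

theorem near_symm [Finite V] {r s : V} (hr : r ∈ Om) (hs : s ∈ Om) (hn : Near ρ Om r s) :
    Near ρ Om s r := by
  obtain ⟨v, hv, h1, h2⟩ := hn
  exact ⟨v, hv, h.symm hv hs h2, h.symm hr hv h1⟩

theorem near_three [Finite V] {a u v b : V} (ha : a ∈ Om) (hu : u ∈ Om) (hv : v ∈ Om) (hb : b ∈ Om)
    (h1 : Adj ρ a u) (h2 : Adj ρ u v) (h3 : Adj ρ v b) : Near ρ Om a b := by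
  by_cases h4 : Adj ρ a v
  · exact ⟨v, hv, h4, h3⟩
  by_cases h5 : Adj ρ u b
  · exact ⟨u, hu, h1, h5⟩
  have hm : v + u ∈ Om := h.add_mem hv h2
  obtain ⟨φ, hφ, e1⟩ := h1
  have e2 : φ v = 0 := z2_ne_one fun e => h4 ⟨φ, hφ, e⟩
  obtain ⟨ψ, hψ, e3⟩ := h.symm hv hb h3
  have e4 : ψ u = 0 := z2_ne_one fun e => h5 (h.symm hb hu ⟨ψ, hψ, e⟩)
  refine ⟨v + u, hm, ⟨φ, hφ, by rw [map_add, e2, e1, zero_add]⟩, h.symm hb hm
    ⟨ψ, hψ, by rw [map_add, e3, e4, add_zero]⟩⟩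

theorem near_trans [Finite V] {a b c : V} (ha : a ∈ Om) (hb : b ∈ Om) (hc : c ∈ Om)
    (h1 : Near ρ Om a b) (h2 : Near ρ Om b c) : Near ρ Om a c := by
  obtain ⟨v, hv, e1, e2⟩ := h1
  obtain ⟨w, hw, e3, e4⟩ := h2
  obtain ⟨x, hx, e5, e6⟩ := h.near_three ha hv hb hw e1 e2 e3
  exact h.near_three ha hx hw hc e5 e6 e4

/-- (al): the functionals of a common neighbour agree on two nonadjacent points. -/
theorem agree [Finite V] {a b v : V} (ha : a ∈ Om) (hb : b ∈ Om) (hv : v ∈ Om)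
    (hn : ¬ Adj ρ a b) (h1 : Adj ρ v a) (h2 : Adj ρ v b) {ψ : Dual (ZMod 2) V} (hψ : Fn ρ v ψ) :
    ψ a = ψ b := by
  rcases z2 (ψ a) with e1 | e1 <;> rcases z2 (ψ b) with e2 | e2
  · rw [e1, e2]
  · exact absurd ⟨ψ, h.fn_of_adj hv ha h1 hψ e1, e2⟩ hn
  · exact absurd (h.symm hb ha ⟨ψ, h.fn_of_adj hv hb h2 hψ e2, e1⟩) hn
  · rw [e1, e2]

theorem rad_inv (g : H) {x : V} (hx : x ∈ rad ρ Om) : ρ g x ∈ rad ρ Om := by
  intro r hr φ hφ
  have h1 := hx (ρ g⁻¹ r) (h.inv _ r hr) _ (hφ.conj g⁻¹)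
  simpa using h1

/-- A vector `c` of the radical is not the centre of an induced transvection whose functional is a
functional of a point. -/
theorem no_rad_centre {c r : V} (hr : r ∈ Om) (hc : c ∈ rad ρ Om) {κ : Dual (ZMod 2) V}
    (h1 : Fn ρ r κ) (h2 : Fn ρ c κ) (hκ : κ ≠ 0) : c = 0 := by
  obtain ⟨_, g, hg⟩ := h2
  have h3 := h.chain (rad ρ Om) (fun g u hu => h.rad_inv g hu) g
    (fun u hu => by rw [hg, hu r hr κ h1, zero_smul, add_zero])
    (fun v => by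
      rw [hg, add_comm v, add_add_self]
      exact (rad ρ Om).smul_mem _ hc)
  obtain ⟨s, _, hs⟩ := h.exists_one hr h1 hκ
  have h4 := h3 s
  rw [hg, hs, one_smul] at h4
  simpa using h4

end basic

theorem big_of (h : SysW ρ Om) {r : V} (hr : r ∈ Om) {φ ψ : Dual (ZMod 2) V} (hφ : Fn ρ r φ)
    (hψ : Fn ρ r ψ) (h1 : φ ≠ 0) (h2 : ψ ≠ 0) (h3 : φ ≠ ψ) : Big ρ Om := by
  intro t ht s
  obtain ⟨g, hg⟩ := h.trans r hr t ht
  have hinj : ∀ α β : Dual (ZMod 2) V, α ∘ₗ (ρ g⁻¹ : V ≃ₗ[ZMod 2] V).toLinearMap =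
      β ∘ₗ (ρ g⁻¹ : V ≃ₗ[ZMod 2] V).toLinearMap → α = β := by
    intro α β he
    ext x
    have := LinearMap.congr_fun he (ρ g x)
    simpa using this
  set φ' := φ ∘ₗ (ρ g⁻¹ : V ≃ₗ[ZMod 2] V).toLinearMap with hφ'
  set ψ' := ψ ∘ₗ (ρ g⁻¹ : V ≃ₗ[ZMod 2] V).toLinearMap with hψ'
  have e1 : Fn ρ t φ' := hg ▸ hφ.conj g
  have e2 : Fn ρ t ψ' := hg ▸ hψ.conj g
  have e3 : φ' ≠ 0 := fun e => h1 (hinj φ 0 (by rw [← hφ', e, LinearMap.zero_comp]))
  have e4 : ψ' ≠ 0 := fun e => h2 (hinj ψ 0 (by rw [← hψ', e, LinearMap.zero_comp]))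
  have e5 : φ' ≠ ψ' := fun e => h3 (hinj φ ψ e)
  rcases z2 (φ' s) with a | a
  · exact ⟨φ', e3, e1, a⟩
  rcases z2 (ψ' s) with b | b
  · exact ⟨ψ', e4, e2, b⟩
  refine ⟨φ' + ψ', fun e => e5 ?_, e1.add e2, ?_⟩
  · ext x
    have h4 := LinearMap.congr_fun e x
    simp only [LinearMap.add_apply, LinearMap.zero_apply] at h4
    rcases z2 (φ' x) with c | c <;> rcases z2 (ψ' x) with d | d <;> rw [c, d] at h4 ⊢ <;>
      simp at h4
  · rw [LinearMap.add_apply, a, b]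
    exact z2_add_self 1

theorem core [Finite V] (h : SysW ρ Om) (hb : Big ρ Om) {y y' v u : V} {χ : Dual (ZMod 2) V}
    (hy : y ∈ Om) (hy' : y' ∈ Om) (hv : v ∈ Om) (hu : u ∈ Om) (hn : ¬ Adj ρ y y')
    (h1 : Adj ρ v y) (h2 : Adj ρ v y') (hχ : Fn ρ u χ) (e1 : χ y = 1) (e2 : χ y' = 0)
    (huv : Adj ρ u v) : False := by
  have huy : Adj ρ u y := ⟨χ, hχ, e1⟩
  have hn' : ¬ Adj ρ u y' := by
    intro ha
    have := h.agree hy hy' hu hn huy ha hχ
    rw [e1, e2] at this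
    exact one_ne_zero this
  have hvu := h.symm hu hv huv
  obtain ⟨κ, hκ0, hκ, k1⟩ := hb v hv y
  have k2 : κ y' = 0 := by rw [← h.agree hy hy' hv hn h1 h2 hκ, k1]
  have k3 : κ u = 0 := by rw [h.agree hu hy' hv hn' hvu h2 hκ, k2]
  have f1 := h.fn_of_adj hv hy h1 hκ k1
  have f2 := h.fn_of_adj hv hy' h2 hκ k2
  have f3 := h.fn_of_adj hv hu hvu hκ k3
  obtain ⟨w, hw, hw1⟩ := h.exists_one hv hκ hκ0
  obtain ⟨φ, hφ, p1⟩ := h.symm hu hy huy
  have f4 := Fn.cc f3 hφ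
  rw [p1, one_smul, f1.1, zero_smul, add_zero] at f4
  have hm : u + y ∈ Om := h.add_mem hu ⟨φ, hφ, p1⟩
  obtain ⟨ψ, hψ, q1⟩ := h.symm hm hw ⟨κ, f4, hw1⟩
  have w1 := h.symm hy hw ⟨κ, f1, hw1⟩
  have w2 := h.symm hy' hw ⟨κ, f2, hw1⟩
  have w3 := h.symm hu hw ⟨κ, f3, hw1⟩
  have g1 := h.agree hy hy' hw hn w1 w2 hψ
  have g2 := h.agree hu hy' hw hn' w3 w2 hψ
  rw [map_add, g1, g2, z2_add_self] at q1
  exact zero_ne_one q1

theorem core' [Finite V] (h : SysW ρ Om) (hb : Big ρ Om) {y y' v u : V} {χ : Dual (ZMod 2) V}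
    (hy : y ∈ Om) (hy' : y' ∈ Om) (hv : v ∈ Om) (hu : u ∈ Om) (hn : ¬ Adj ρ y y')
    (h1 : Adj ρ v y) (h2 : Adj ρ v y') (hχ : Fn ρ u χ) (e1 : χ y = 1) (e2 : χ y' = 0) :
    False := by
  by_cases huv : Adj ρ u v
  · exact h.core hb hy hy' hv hu hn h1 h2 hχ e1 e2 huv
  have huy : Adj ρ u y := ⟨χ, hχ, e1⟩
  obtain ⟨φ, hφ, p1⟩ := h.symm hu hy huy
  have hm : u + y ∈ Om := h.add_mem hu ⟨φ, hφ, p1⟩
  have f := Fn.cc hχ hφ
  rw [p1, e1, one_smul, one_smul] at f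
  have p2 : φ y' = 0 := z2_ne_one fun e => hn ⟨φ, hφ, e⟩
  obtain ⟨ψ, hψ, q1⟩ := h1
  have q2 : ψ u = 0 := z2_ne_one fun e => huv (h.symm hv hu ⟨ψ, hψ, e⟩)
  refine h.core hb hy hy' hv hm hn ⟨ψ, hψ, q1⟩ h2 f ?_ ?_ ?_
  · rw [LinearMap.add_apply, e1, hφ.1, add_zero]
  · rw [LinearMap.add_apply, e2, p2, add_zero]
  · exact h.symm hv hm ⟨ψ, hψ, by rw [map_add, q2, q1, zero_add]⟩

/-- **TV (2)(i)**: two different points with a common neighbour are adjacent. -/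
theorem adj_of_near [Finite V] (h : SysW ρ Om) (hb : Big ρ Om) {y y' : V} (hy : y ∈ Om)
    (hy' : y' ∈ Om) (hne : y ≠ y') (hnear : Near ρ Om y y') : Adj ρ y y' := by
  by_contra hn
  obtain ⟨v, hv, a1, h2⟩ := hnear
  have h1 := h.symm hy hv a1
  have hn' : ¬ Adj ρ y' y := fun e => hn (h.symm hy' hy e)
  have hrad : y + y' ∈ rad ρ Om := by
    intro u hu χ hχ
    rw [map_add]
    rcases z2 (χ y) with e1 | e1 <;> rcases z2 (χ y') with e2 | e2
    · rw [e1, e2, add_zero]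
    · exact (h.core' hb hy' hy hv hu hn' h2 h1 hχ e2 e1).elim
    · exact (h.core' hb hy hy' hv hu hn h1 h2 hχ e1 e2).elim
    · rw [e1, e2]; exact z2_add_self 1
  obtain ⟨κ, hκ0, hκ, k1⟩ := hb v hv y
  have k2 : κ y' = 0 := by rw [← h.agree hy hy' hv hn h1 h2 hκ, k1]
  have f1 := h.fn_of_adj hv hy h1 hκ k1
  have f2 := h.fn_of_adj hv hy' h2 hκ k2
  exact add_ne_zero_of_ne hne (h.no_rad_centre hy hrad f1 (f1.addc f2) hκ0)

theorem near_conj (h : SysW ρ Om) {a b : V} (hn : Near ρ Om a b) (g : H) : Near ρ Om (ρ g a) (ρ g b) := by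
  obtain ⟨v, hv, h1, h2⟩ := hn
  exact ⟨ρ g v, h.inv g v hv, h1.conj g, h2.conj g⟩

variable [Finite V]

/-- The output of TV (2) is enough for `Clo`. -/
theorem clo_of (h : SysW ρ Om)
    (hadd : ∀ b ∈ Om, ∀ c ∈ Om, Near ρ Om b c → b ≠ c → b + c ∈ Om) : Clo ρ Om := by
  intro b hb c hc hn hne
  have hm := hadd b hb c hc hn hne
  refine ⟨hm, ?_⟩
  obtain ⟨v, hv, ha⟩ := h.exists_adj hm
  obtain ⟨φ, hφ, h1⟩ := h.symm hm hv ha
  rw [map_add] at h1
  have hvm : Adj ρ v (b + c) := ⟨φ, hφ, by rw [map_add]; exact h1⟩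
  by_cases h2 : φ b = 1
  · exact ⟨v, hv, h.symm hv hb ⟨φ, hφ, h2⟩, hvm⟩
  · rw [z2_ne_one h2, zero_add] at h1
    exact h.near_trans hb hc hm hn ⟨v, hv, h.symm hv hc ⟨φ, hφ, h1⟩, hvm⟩

/-- The class of `r`, together with `0`. -/
def cls (h : SysW ρ Om) (hc : Clo ρ Om) {r : V} (hr : r ∈ Om) : Submodule (ZMod 2) V where
  carrier := {x | x = 0 ∨ (x ∈ Om ∧ Near ρ Om r x)}
  zero_mem' := Or.inl rfl
  add_mem' := by
    rintro a b (rfl | ⟨ha, hra⟩) (rfl | ⟨hb, hrb⟩)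
    · exact Or.inl (add_zero 0)
    · rw [zero_add]; exact Or.inr ⟨hb, hrb⟩
    · rw [add_zero]; exact Or.inr ⟨ha, hra⟩
    · by_cases hab : a = b
      · subst hab; exact Or.inl (v_add_self a)
      · have h1 := h.near_trans ha hr hb (h.near_symm hr ha hra) hrb
        obtain ⟨h2, h3⟩ := hc a ha b hb h1 hab
        exact Or.inr ⟨h2, h.near_trans hr ha h2 hra h3⟩
  smul_mem' := by
    intro c x hx
    rcases z2 c with rfl | rfl
    · rw [zero_smul]; exact Or.inl rfl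
    · rwa [one_smul]

theorem mem_cls (h : SysW ρ Om) (hc : Clo ρ Om) {r x : V} (hr : r ∈ Om) :
    x ∈ h.cls hc hr ↔ x = 0 ∨ (x ∈ Om ∧ Near ρ Om r x) := Iff.rfl

theorem clo_big (h : SysW ρ Om) (hb : Big ρ Om) : Clo ρ Om :=
  h.clo_of fun b hb' c hc hn hne => by
    have := h.add_mem hb' (h.adj_of_near hb hc hb' hne.symm (h.near_symm hb' hc hn))
    exact this

theorem pt_of_mem (h : SysW ρ Om) (hc : Clo ρ Om) {r x : V} (hr : r ∈ Om) (hx : x ∈ h.cls hc hr)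
    (hx0 : x ≠ 0) : x ∈ Om ∧ Near ρ Om r x := ((h.mem_cls hc hr).1 hx).resolve_left hx0

theorem self_mem_cls (h : SysW ρ Om) (hc : Clo ρ Om) {r : V} (hr : r ∈ Om) : r ∈ h.cls hc hr :=
  (h.mem_cls hc hr).2 (Or.inr ⟨hr, h.near_refl hr⟩)

/-- any two points of a component are adjacent -/
theorem adj_cls (h : SysW ρ Om) (hb : Big ρ Om) (hc : Clo ρ Om) {r x y : V} (hr : r ∈ Om)
    (hx : x ∈ h.cls hc hr) (hx0 : x ≠ 0) (hy : y ∈ h.cls hc hr) (hy0 : y ≠ 0) (hxy : x ≠ y) :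
    Adj ρ x y := by
  obtain ⟨h1, h2⟩ := h.pt_of_mem hc hr hx hx0
  obtain ⟨h3, h4⟩ := h.pt_of_mem hc hr hy hy0
  exact h.adj_of_near hb h1 h3 hxy (h.near_trans h1 hr h3 (h.near_symm hr h1 h2) h4)

/-- the component of `w` is the component of `r` -/
theorem cls_eq (h : SysW ρ Om) (hc : Clo ρ Om) {r w : V} (hr : r ∈ Om) (hw : w ∈ Om)
    (hwr : w ∈ h.cls hc hr) {x : V} : x ∈ h.cls hc hw ↔ x ∈ h.cls hc hr := by
  obtain ⟨-, h2⟩ := h.pt_of_mem hc hr hwr (h.ne_zero hw)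
  rw [h.mem_cls, h.mem_cls]
  constructor
  · rintro (h3 | ⟨h3, h4⟩)
    · exact Or.inl h3
    · exact Or.inr ⟨h3, h.near_trans hr hw h3 h2 h4⟩
  · rintro (h3 | ⟨h3, h4⟩)
    · exact Or.inl h3
    · exact Or.inr ⟨h3, h.near_trans hw hr h3 (h.near_symm hr hw h2) h4⟩

/-- the stabiliser of `r` is irreducible on `cls r / ⟨r⟩` -/
theorem irr_cls (h : SysW ρ Om) (hb : Big ρ Om) (hc : Clo ρ Om) {r : V} (hr : r ∈ Om)
    {U : Submodule (ZMod 2) V} (hU : U ≤ h.cls hc hr) (hrU : r ∈ U)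
    (hinv : ∀ g : H, ρ g r = r → ∀ u ∈ U, ρ g u ∈ U) :
    (∀ u ∈ U, u = 0 ∨ u = r) ∨ h.cls hc hr ≤ U := by
  by_contra hcon
  push Not at hcon
  obtain ⟨⟨a, ha, ha0, har⟩, hx⟩ := hcon
  obtain ⟨x, hx, hxU⟩ := Set.not_subset.1 hx
  have hac := hU ha
  have hxc : x ∈ h.cls hc hr := hx
  set c := a + x with hcdef
  have hcc : c ∈ h.cls hc hr := (h.cls hc hr).add_mem hac hxc
  have hc0 : c ≠ 0 := by
    intro h0
    have : a = x := v_eq_of_add h0
    exact hxU (this ▸ ha)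
  have hca : c ≠ a := by
    intro h0
    have h1 : x = 0 := by
      have := congrArg (a + ·) h0
      simp only [hcdef, self_add_add, v_add_self] at this
      exact this
    exact hxU (h1 ▸ U.zero_mem)
  have har' : a + r ≠ 0 := add_ne_zero_of_ne har
  have harc : a + r ∈ h.cls hc hr := (h.cls hc hr).add_mem hac (h.self_mem_cls hc hr)
  have hcar : c ≠ a + r := by
    intro h0
    have h1 : x = r := by
      have := congrArg (a + ·) h0
      simp only [hcdef, self_add_add] at this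
      exact this
    exact hxU (h1 ▸ hrU)
  obtain ⟨φ₁, f1, e1⟩ := h.adj_cls hb hc hr hcc hc0 hac ha0 hca
  obtain ⟨φ₃, f3, e3⟩ := h.adj_cls hb hc hr hcc hc0 harc har' hcar
  rw [map_add] at e3
  -- a functional of `c` with values `1` at `a` and `0` at `r`
  have key : ∃ φ, Fn ρ c φ ∧ φ a = 1 ∧ φ r = 0 := by
    rcases z2 (φ₁ r) with k | k
    · exact ⟨φ₁, f1, e1, k⟩
    rcases z2 (φ₃ r) with l | l
    · rw [l, add_zero] at e3
      exact ⟨φ₃, f3, e3, l⟩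
    · rcases z2 (φ₃ a) with m | m
      · refine ⟨φ₁ + φ₃, f1.add f3, ?_, ?_⟩
        · rw [LinearMap.add_apply, e1, m, add_zero]
        · rw [LinearMap.add_apply, k, l]; exact z2_add_self 1
      · rw [m, l, z2_add_self] at e3
        exact absurd e3 zero_ne_one
  obtain ⟨φ, ⟨-, g, hg⟩, p1, p2⟩ := key
  have h1 : ρ g r = r := by rw [hg, p2, zero_smul, add_zero]
  have h2 : ρ g a = x := by rw [hg, p1, one_smul, hcdef, self_add_add]
  exact hxU (h2 ▸ hinv g h1 a ha)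

/-- components are blocks -/
theorem blk_cls (h : SysW ρ Om) (hc : Clo ρ Om) {r w : V} (hr : r ∈ Om) (hw : w ∈ h.cls hc hr)
    (hw0 : w ≠ 0) {g : H} (hg : ρ g w ∈ h.cls hc hr) {x : V} (hx : x ∈ h.cls hc hr) :
    ρ g x ∈ h.cls hc hr := by
  rcases (h.mem_cls hc hr).1 hx with rfl | ⟨hxO, hrx⟩
  · rw [map_zero]; exact Submodule.zero_mem _
  obtain ⟨h1, h2⟩ := h.pt_of_mem hc hr hw hw0
  have hgw0 : ρ g w ≠ 0 := fun e => hw0 ((ρ g).map_eq_zero_iff.1 e)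
  obtain ⟨h3, h4⟩ := h.pt_of_mem hc hr hg hgw0
  refine (h.mem_cls hc hr).2 (Or.inr ⟨h.inv g x hxO, ?_⟩)
  have h5 : Near ρ Om w x := h.near_trans h1 hr hxO (h.near_symm hr h1 h2) hrx
  exact h.near_trans hr h3 (h.inv g x hxO) h4 (near_conj h h5 g)

/-- a neighbour of a point of the component lies in the component -/
theorem mem_cls_of_adj (h : SysW ρ Om) (hc : Clo ρ Om) {r w x : V} (hr : r ∈ Om)
    (hw : w ∈ h.cls hc hr) (hw0 : w ≠ 0) (hx : x ∈ Om) (ha : Adj ρ w x) : x ∈ h.cls hc hr := by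
  obtain ⟨h1, h2⟩ := h.pt_of_mem hc hr hw hw0
  exact (h.mem_cls hc hr).2 (Or.inr ⟨hx, h.near_trans hr h1 hx h2 (h.near_of_adj h1 hx ha)⟩)

/-- the component of `r` is not covered by two elements, if there are two functionals at `r` -/
theorem big_cls (h : SysW ρ Om) (hc : Clo ρ Om) {r : V} (hr : r ∈ Om) {φ ψ : Dual (ZMod 2) V}
    (hφ : Fn ρ r φ) (hψ : Fn ρ r ψ) (h1 : φ ≠ 0) (h2 : ψ ≠ 0) (h3 : φ ≠ ψ) (a b : V) :
    ∃ c ∈ h.cls hc hr, c ≠ 0 ∧ c ≠ a ∧ c ≠ b ∧ c ≠ a + b := by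
  classical
  have h4 : φ + ψ ≠ 0 := by
    intro h0
    refine h3 (LinearMap.ext fun x => ?_)
    have := LinearMap.congr_fun h0 x
    rw [LinearMap.add_apply, LinearMap.zero_apply] at this
    exact v_eq_of_add this
  obtain ⟨s₁, m1, e1⟩ := h.exists_one hr hφ h1
  obtain ⟨s₂, m2, e2⟩ := h.exists_one hr hψ h2
  obtain ⟨s₃, m3, e3⟩ := h.exists_one hr (hφ.add hψ) h4
  have k1 : s₁ ∈ h.cls hc hr := h.mem_cls_of_adj hc hr (h.self_mem_cls hc hr) (h.ne_zero hr) m1 ⟨φ, hφ, e1⟩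
  have k2 : s₂ ∈ h.cls hc hr := h.mem_cls_of_adj hc hr (h.self_mem_cls hc hr) (h.ne_zero hr) m2 ⟨ψ, hψ, e2⟩
  have k3 : s₃ ∈ h.cls hc hr := h.mem_cls_of_adj hc hr (h.self_mem_cls hc hr) (h.ne_zero hr) m3
    ⟨φ + ψ, hφ.add hψ, e3⟩
  rw [LinearMap.add_apply] at e3
  have key : ∃ u ∈ h.cls hc hr, ∃ v ∈ h.cls hc hr, φ u = 1 ∧ ψ u = 0 ∧ φ v = 0 ∧ ψ v = 1 := by
    rcases z2 (φ s₃) with l | l
    · rw [l, zero_add] at e3
      rcases z2 (ψ s₁) with m | m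
      · exact ⟨s₁, k1, s₃, k3, e1, m, l, e3⟩
      · refine ⟨s₁ + s₃, Submodule.add_mem _ k1 k3, s₃, k3, ?_, ?_, l, e3⟩
        · rw [map_add, e1, l, add_zero]
        · rw [map_add, m, e3, z2_add_self]
    · have l' : ψ s₃ = 0 := by
        rcases z2 (ψ s₃) with m | m
        · exact m
        · rw [l, m, z2_add_self] at e3
          exact absurd e3 zero_ne_one
      rcases z2 (φ s₂) with m | m
      · exact ⟨s₃, k3, s₂, k2, l, l', m, e2⟩
      · refine ⟨s₃, k3, s₂ + s₃, Submodule.add_mem _ k2 k3, l, l', ?_, ?_⟩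
        · rw [map_add, m, l, z2_add_self]
        · rw [map_add, e2, l', add_zero]
  obtain ⟨u, hu, v, hv, u1, u2, v1, v2⟩ := key
  have hr0 := h.ne_zero hr
  have one0 : (1 : ZMod 2) ≠ 0 := one_ne_zero
  have q1 : φ r = 0 := hφ.1
  have q2 : ψ r = 0 := hψ.1
  by_contra hcon
  push Not at hcon
  have hsub : ({r, u, v, u + v} : Finset V) ⊆ ({a, b, a + b} : Finset V) := by
    intro c hcm
    have hcc : c ∈ h.cls hc hr ∧ c ≠ 0 := by
      simp only [Finset.mem_insert, Finset.mem_singleton] at hcm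
      rcases hcm with rfl | rfl | rfl | rfl
      · exact ⟨h.self_mem_cls hc hr, hr0⟩
      · refine ⟨hu, ?_⟩
        rintro rfl
        rw [map_zero] at u1
        exact one0 u1.symm
      · refine ⟨hv, ?_⟩
        rintro rfl
        rw [map_zero] at v2
        exact one0 v2.symm
      · refine ⟨Submodule.add_mem _ hu hv, fun h0 => ?_⟩
        have := congrArg φ h0
        rw [map_add, u1, v1, map_zero, add_zero] at this
        exact one0 this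
    have := hcon c hcc.1 hcc.2
    simp only [Finset.mem_insert, Finset.mem_singleton]
    by_cases ha : c = a
    · exact Or.inl ha
    by_cases hb : c = b
    · exact Or.inr (Or.inl hb)
    · exact Or.inr (Or.inr (this ha hb))
  have hcard4 : ({r, u, v, u + v} : Finset V).card = 4 := by
    rw [Finset.card_insert_of_notMem, Finset.card_insert_of_notMem, Finset.card_insert_of_notMem,
      Finset.card_singleton]
    · rw [Finset.mem_singleton]
      intro h0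
      have := congrArg φ h0
      rw [map_add, u1, v1, add_zero] at this
      exact one0 this.symm
    · simp only [Finset.mem_insert, Finset.mem_singleton, not_or]
      refine ⟨fun h0 => ?_, fun h0 => ?_⟩
      · rw [h0, v1] at u1
        exact one0 u1.symm
      · have := congrArg ψ h0
        rw [map_add, u2, v2, zero_add] at this
        exact one0 this.symm
    · simp only [Finset.mem_insert, Finset.mem_singleton, not_or]
      refine ⟨fun h0 => ?_, fun h0 => ?_, fun h0 => ?_⟩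
      · rw [h0, u1] at q1
        exact one0 q1
      · rw [h0, v2] at q2
        exact one0 q2
      · rw [h0, map_add, u1, v1, add_zero] at q1
        exact one0 q1
  have hcard3 : ({a, b, a + b} : Finset V).card ≤ 3 := Finset.card_le_three
  have := Finset.card_le_card hsub
  omega

end SysW

end Cfsg.Agent.Omega.TV
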