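import Cfsg.Agent.Omega.HT.Dt
import Cfsg.Agent.Omega.HTwo.AlphaFive

/-!
# Elementary lemmas over `HTT` (the lemmas of `HTwo/{AlphaOne, AlphaFive, AlphaP}` about `R o = {1, r}`)
-/

set_option autoImplicit false
set_option linter.unusedSectionVars false

namespace Cfsg.Agent.Omega.HT.Two

open Subgroup Cfsg Cfsg.Agent.ZN Cfsg.Agent.Omega.BTwo
open Cfsg.Agent.Omega.MinPar Cfsg.Agent.Omega.HOneTwo Cfsg.Agent.Omega.HTwo.Hat Cfsg.Agent.Omega.HTwo.ThmA
open Cfsg.Agent.Omega.HTwo.Par Cfsg.Agent.Omega.HTwo.TComp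
open Cfsg.Agent.Omega.HTwo.AlphaFive (mem_C)

universe u

variable {G : Type u} [Group G] [Finite G] {ι : Type*} {S P V : Subgroup G} {R : ι → Subgroup G} {o : ι}
  (b : HTT S P V R o)
include b

/-- the product of elements of different points lies in the third -/
theorem mul_mem_third {i j k : ι} (hij : i ≠ j) (hik : i ≠ k) (hjk : j ≠ k) {x y : G} (hx : x ∈ R j) (hx1 : x ≠ 1)
    (hy : y ∈ R k) (hy1 : y ≠ 1) : x * y⁻¹ ∈ R i := by
  obtain ⟨l, hl⟩ := b.R_cov (x * y⁻¹) (mul_mem (b.R_le j hx) (inv_mem (b.R_le k hy)))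
  have hne : x * y⁻¹ ≠ 1 := by
    intro h
    rw [mul_inv_eq_one] at h
    subst h
    exact hx1 (b.eq_one hjk hx hy)
  rcases b.eq_of_ne hij hik hjk (l := l) with rfl | rfl | rfl
  · exact hl
  · exfalso
    have h1 : y⁻¹ ∈ R l := by
      have := mul_mem (inv_mem hx) hl
      rwa [inv_mul_cancel_left] at this
    exact hy1 (b.eq_one hjk (by simpa using inv_mem h1) hy)
  · exfalso
    have h1 : x ∈ R l := by
      have := mul_mem hl hy
      rwa [inv_mul_cancel_right] at this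
    exact hx1 (b.eq_one hjk hx h1)

/-- an element of `N(V) ∩ N(R o)` acts trivially on `V / R o` -/
theorem comm_mem_R {s v : G} (hsV : s ∈ normalizer (V : Set G)) (hsR : s ∈ normalizer (R o : Set G)) (hv : v ∈ V) :
    s * v * s⁻¹ * v⁻¹ ∈ R o := by
  obtain ⟨l, hl⟩ := b.R_cov v hv
  by_cases hlo : l = o
  · subst hlo
    exact mul_mem (conj_mem_of_normalizer hsR hl) (inv_mem hl)
  by_cases hv1 : v = 1
  · subst hv1
    have : s * 1 * s⁻¹ * 1⁻¹ = (1 : G) := by group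
    rw [this]; exact one_mem _
  obtain ⟨m, hm⟩ := b.perm s hsV l
  have h1 : s * v * s⁻¹ ∈ R m := by rw [← hm]; exact conj_mem_cj hl
  have hmo : m ≠ o := by
    rintro rfl
    exact hlo (b.R_index (cj_injective (hm.trans (cj_eq_self_iff.2 hsR).symm)))
  have hne : s * v * s⁻¹ ≠ 1 := fun h => hv1 (conj_eq_one_iff.1 h)
  by_cases hml : m = l
  · subst hml
    have h2 : s * v * s⁻¹ = v := eq_of_card_two (b.card_R m) hl hv1 h1 hne
    rw [h2, mul_inv_cancel]; exact one_mem _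
  · exact mul_mem_third b (Ne.symm hmo) (Ne.symm hlo) hml h1 hne hl hv1

variable {r : G} (hr : ∀ x, x ∈ R o ↔ x = 1 ∨ x = r)
include hr

theorem r_ne : r ≠ 1 := by
  rintro rfl
  refine b.R_ne o ((eq_bot_iff_forall _).2 fun x hx => ?_)
  rcases (hr x).1 hx with h | h <;> exact h

theorem r_mem : r ∈ R o := (hr r).2 (Or.inr rfl)

theorem r_sq : r * r = 1 := b.V_sq r (b.R_le o (r_mem b hr))

/-- `N(R o) = C(r)` -/
theorem mem_N_iff {g : G} : g ∈ normalizer (R o : Set G) ↔ g * r = r * g := by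
  constructor
  · intro hg
    exact (mem_centralizer_iff.1 (normalizer_le_cen_of_card (b.card_R o) hg) r (r_mem b hr)).symm
  · intro hg
    refine mem_normalizer_of_conj fun x hx => ?_
    rcases (hr x).1 hx with rfl | rfl
    · rw [mul_one, mul_inv_cancel]; exact one_mem _
    · rw [hg, mul_inv_cancel_right]; exact hx

/-- a conjugate of `V` under `N(R o)` is determined by one element outside `R o` -/
theorem cj_V_le {k : G} (hk : k ∈ normalizer (R o : Set G)) {W : Subgroup G} (hrW : r ∈ W) {v : G}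
    (hv : v ∈ cj k V) (hv1 : v ∉ R o) (hvW : v ∈ W) : cj k V ≤ W := by
  obtain ⟨v, hv, rfl⟩ := hv
  change k * v * k⁻¹ ∉ R o at hv1
  change k * v * k⁻¹ ∈ W at hvW
  obtain ⟨j, hj⟩ := b.R_cov v hv
  have hjo : o ≠ j := by
    rintro rfl
    exact hv1 (conj_mem_of_normalizer hk hj)
  have hv' : v ≠ 1 := by
    rintro rfl
    apply hv1
    rw [mul_one, mul_inv_cancel]
    exact one_mem _
  rw [← b.R_sup o j hjo, cj_sup]
  refine sup_le ?_ ?_
  · rw [cj_eq_self_iff.2 hk]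
    intro x hx
    rcases (hr x).1 hx with rfl | rfl
    · exact one_mem _
    · exact hrW
  · rintro _ ⟨x, hx, rfl⟩
    change k * x * k⁻¹ ∈ W
    by_cases hx1 : x = 1
    · rw [hx1, mul_one, mul_inv_cancel]; exact one_mem _
    · rw [eq_of_card_two (b.card_R j) hj hv' hx hx1]
      exact hvW

/-- elements of `V^k` are conjugate to `r` under `C(y)` if `y` centralises `X^k` -/
theorem exists_conj {k y : G} (hk : k ∈ normalizer (R o : Set G))
    (hy : y ∈ centralizer (cj k (XX V R) : Set G)) {v : G} (hv : v ∈ cj k V) (hv1 : v ≠ 1) :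
    ∃ c ∈ centralizer ({y} : Set G), c * r * c⁻¹ = v := by
  obtain ⟨v, hv, rfl⟩ := hv
  change k * v * k⁻¹ ≠ 1 at hv1
  obtain ⟨j, hj⟩ := b.R_cov v hv
  obtain ⟨x, hx, e⟩ := b.trans_X_one o j
  rw [← e, mem_cj] at hj
  have h2 := mem_centralizer_iff.1 hy _ (conj_mem_cj hx)
  refine ⟨k * x * k⁻¹, mem_C.2 h2, ?_⟩
  have hkr := (mem_N_iff b hr).1 hk
  rcases (hr _).1 hj with h0 | h0
  · exfalso
    apply hv1
    have h1 : v = 1 := by
      calc v = x * (x⁻¹ * v * x) * x⁻¹ := by group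
        _ = 1 := by rw [h0, mul_one, mul_inv_cancel]
    rw [h1, mul_one, mul_inv_cancel]
  · change _ = k * v * k⁻¹
    have h3 : k⁻¹ * r * k = r := by rw [mul_assoc, ← hkr]; group
    calc k * x * k⁻¹ * r * (k * x * k⁻¹)⁻¹ = k * x * (k⁻¹ * r * k) * x⁻¹ * k⁻¹ := by group
      _ = k * (x * (x⁻¹ * v * x) * x⁻¹) * k⁻¹ := by rw [h3, h0]; group
      _ = k * v * k⁻¹ := by group

/-- `V^k ≤ ⟨r^{C(y)}⟩` if `y` centralises `X^k` -/
theorem cj_le_cl_of {k y : G} (hk : k ∈ normalizer (R o : Set G))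
    (hy : y ∈ centralizer (cj k (XX V R) : Set G)) : cj k V ≤ cl (R o) (centralizer ({y} : Set G)) := by
  intro v hv
  by_cases hv1 : v = 1
  · rw [hv1]; exact one_mem _
  obtain ⟨c, hc, rfl⟩ := exists_conj b hr hk hy hv hv1
  exact cj_le_cl hc (conj_mem_cj (r_mem b hr))

/-- `V^k` is in the component of `r` if it is moved by a transvection with centre `r` -/
theorem V_le_comp {k y : G} {W : Subgroup G}
    (hW : NatC (centralizer ({y} : Set G)) (cl (R o) (centralizer ({y} : Set G))) W r)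
    (hk : k ∈ normalizer (R o : Set G)) (hy : y ∈ centralizer (cj k (XX V R) : Set G)) {t : G}
    (ht : t ∈ centralizer ({y} : Set G))
    (htn : ∀ n ∈ cl (R o) (centralizer ({y} : Set G)), t * n * t⁻¹ = n ∨ t * n * t⁻¹ = n * r)
    (hm : ∃ v ∈ cj k V, t * v ≠ v * t) : cj k V ≤ W := by
  obtain ⟨v, hv, hne⟩ := hm
  have hv1 : v ≠ 1 := by
    rintro rfl
    exact hne (by rw [mul_one, one_mul])
  obtain ⟨c, hc, e⟩ := exists_conj b hr hk hy hv hv1
  have hne' : t * (c * r * c⁻¹) * t⁻¹ ≠ c * r * c⁻¹ := by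
    rw [e]
    intro h
    exact hne (mul_inv_eq_iff_eq_mul.1 h)
  have h1 := hW.adj r hW.mem hW.ne t ht htn c hc hne'
  rw [e] at h1
  refine cj_V_le b hr hk hW.mem hv ?_ h1
  intro hvo
  have hvr : v = r := ((hr v).1 hvo).resolve_left hv1
  have h2 := htn r (le_cl _ _ (r_mem b hr))
  rw [r_sq b hr] at h2
  rcases h2 with h2 | h2
  · apply hne
    rw [hvr]
    exact mul_inv_eq_iff_eq_mul.1 h2
  · exact r_ne b hr (conj_eq_one_iff.1 h2)

/-- there is `h ∈ N(R o)` with `[V, V^h] ≠ 1` -/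
theorem exists_h : ∃ h ∈ normalizer (R o : Set G), ∃ a ∈ V, ∃ c ∈ cj h V, a * c ≠ c * a := by
  have _ := hr
  obtain ⟨h, hh, H⟩ := b.mt o
  refine ⟨h, hh, ?_⟩
  by_contra hcon
  push Not at hcon
  refine b.false_of_comm (h := h) (fun j k hj hk => (H j k hj hk).1) fun v hv => ?_
  rw [mem_centralizer_iff]
  exact fun w hw => hcon w hw _ (conj_mem_cj hv)

/-- there is an element of `Q o` moving an element of `V` -/
theorem exists_mv : ∃ t ∈ QQ (R o), ∃ v ∈ V, t * v ≠ v * t := by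
  obtain ⟨h, hh, a, ha, c, hc, hne⟩ := exists_h b hr
  exact ⟨c, b.W_le_Q o (cj_le_WW hh hc), a, ha, fun e => hne e.symm⟩

theorem le_Q_of_comm {W : Subgroup G} (hW : W ≤ normalizer (R o : Set G))
    (h : ∀ w ∈ W, ∀ q ∈ QQ (R o), w * q * w⁻¹ * q⁻¹ ∈ R o) : W ≤ QQ (R o) := by
  have _ := hr
  rw [← b.toBTS.K_eq o]
  exact fun w hw => ⟨hW hw, fun d hd => h w hw d (b.W_le_Q o hd)⟩

/-- elements of `V` are conjugate to `r` under `X` -/
theorem exists_conj_X {v : G} (hv : v ∈ V) (hv1 : v ≠ 1) : ∃ c ∈ XX V R, c * r * c⁻¹ = v := by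
  obtain ⟨j, hj⟩ := b.R_cov v hv
  obtain ⟨x, hx, e⟩ := b.trans_X_one o j
  refine ⟨x, hx, ?_⟩
  have h1 : x * r * x⁻¹ ∈ R j := by rw [← e]; exact conj_mem_cj (r_mem b hr)
  have h2 : x * r * x⁻¹ ≠ 1 := fun h => r_ne b hr (conj_eq_one_iff.1 h)
  exact eq_of_card_two (b.card_R j) hj hv1 h1 h2


end Cfsg.Agent.Omega.HT.Two
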